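import Cfsg.Agent.Lib.CoThreeStd.Facts
import Cfsg.Prelude.Def_Local

/-!
# The centraliser of a standard double cover has order two up to odd order

If `t` is conjugate to another element of its centraliser, every 2-element centralising the standard subgroup
is trivial or `t`.
-/

set_option autoImplicit false

namespace CfsgLib.CoThreeStd

open CfsgLib.CoThreeRec

variable {G : Type*} [Group G] [Finite G]

/-- The situation: a copy of the double cover whose centraliser is tightly embedded. -/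
structure Std (ι : Cm →* G) (t : G) : Prop where
  ht : orderOf t = 2
  inj : Function.Injective ι
  map_t : ι tm = t
  tight : Cfsg.IsTightlyEmbedded (Subgroup.centralizer (ι.range : Set G))
  meet : ∀ c : Cm, ι c ∈ Subgroup.centralizer (ι.range : Set G) → TEq c 1
  norm : ∀ g : G, g ∈ Subgroup.normalizer (Subgroup.centralizer (ι.range : Set G) : Set G) → Commute g t
  dec : ∀ g : G, Commute g t → ∃ c : Cm, ∃ k ∈ Subgroup.centralizer (ι.range : Set G), g = ι c * k

variable {ι : Cm →* G} {t : G}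

/-- The elements centralising the standard subgroup. -/
def centr (ι : Cm →* G) : Subgroup G := Subgroup.centralizer (ι.range : Set G)

theorem centr_comm {k : G} (hk : k ∈ centr ι) (c : Cm) : Commute (ι c) k :=
  Subgroup.mem_centralizer_iff.1 hk (ι c) ⟨c, rfl⟩

variable (S : Std ι t)
include S

theorem Std.t_mem : t ∈ centr ι := by
  rw [← S.map_t]
  refine Subgroup.mem_centralizer_iff.2 ?_
  rintro _ ⟨c, rfl⟩
  rw [← map_mul, ← map_mul, (tm_comm c).eq]

theorem Std.tt : t * t = 1 := by rw [← S.map_t, ← map_mul, tm_sq, map_one]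

theorem Std.t_ne : t ≠ 1 := fun h => by
  have h2 := S.ht
  rw [h, orderOf_one] at h2
  omega

theorem Std.centr_comm_t {k : G} (hk : k ∈ centr ι) : Commute k t := by
  rw [← S.map_t]; exact (centr_comm hk tm).symm

theorem Std.iota_comm_t (c : Cm) : Commute (ι c) t := by
  rw [← S.map_t]; exact ((tm_comm c).map ι).symm

/-- An element outside the centraliser moves `t` out of the centralising group. -/
theorem Std.eq_one_of_mem_conj {x : G} (hx : ¬ Commute x t) {w : G} (hw : w ∈ centr ι)
    (hw' : x⁻¹ * w * x ∈ centr ι) {m : ℕ} (hm : w ^ 2 ^ m = 1) : w = 1 := by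
  by_contra hne
  have hodd := S.tight.2 x fun hn => hx (S.norm x hn)
  obtain ⟨j, -, hj⟩ := (Nat.dvd_prime_pow Nat.prime_two).1 (orderOf_dvd_of_pow_eq_one hm)
  have h2 : 2 ∣ orderOf w := by
    rw [hj]
    rcases Nat.eq_zero_or_pos j with rfl | hj0
    · rw [pow_zero, orderOf_eq_one_iff] at hj; exact absurd hj hne
    · exact dvd_pow_self 2 (by omega)
  have hmem : w ∈ Subgroup.centralizer (ι.range : Set G) ⊓
      (Subgroup.centralizer (ι.range : Set G)).map (MulAut.conj x).toMonoidHom :=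
    ⟨hw, ⟨x⁻¹ * w * x, hw', by
      show x * (x⁻¹ * w * x) * x⁻¹ = w
      group⟩⟩
  exact Nat.not_even_iff_odd.2 hodd (even_iff_two_dvd.2 (h2.trans (Subgroup.orderOf_dvd_natCard _ hmem)))

/-- A nontrivial 2-element of the centralising group has its centraliser in that of `t`. -/
theorem Std.centralizer_le {w : G} (hw : w ∈ centr ι) {m : ℕ} (hm : w ^ 2 ^ m = 1) (hne : w ≠ 1) {x : G}
    (hx : Commute x w) : Commute x t := by
  by_contra h
  exact hne (S.eq_one_of_mem_conj h hw (by rwa [mul_assoc, ← hx.eq, inv_mul_cancel_left]) hm)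

theorem Std.dec_unique {c d : Cm} {k l : G} (hk : k ∈ centr ι) (hl : l ∈ centr ι) (h : ι c * k = ι d * l) :
    TEq c d := by
  have h1 : ι (d⁻¹ * c) = l * k⁻¹ := by
    rw [map_mul, map_inv, eq_mul_inv_iff_mul_eq, mul_assoc, h, inv_mul_cancel_left]
  rcases S.meet (d⁻¹ * c) (show ι (d⁻¹ * c) ∈ centr ι from h1 ▸ mul_mem hl (inv_mem hk)) with e | e
  · exact Or.inl (inv_mul_eq_one.1 e).symm
  · exact Or.inr (by rw [← mul_inv_cancel_left d c, e, mul_one, (tm_comm d).eq])

omit S in
theorem TEq.symm {a b : Cm} (h : TEq a b) : TEq b a := by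
  rcases h with rfl | rfl
  · exact Or.inl rfl
  · exact Or.inr (by rw [← mul_assoc, tm_sq, one_mul])

omit S in
theorem TEq.trans {a b c : Cm} (h : TEq a b) (h' : TEq b c) : TEq a c := by
  rcases h with rfl | rfl <;> rcases h' with rfl | rfl
  · exact Or.inl rfl
  · exact Or.inr rfl
  · exact Or.inr rfl
  · exact Or.inl (by rw [← mul_assoc, tm_sq, one_mul])

/-- A conjugate of `t` other than `t` is outside the centralising group, and so is `t` transported back. -/
theorem Std.not_mem_centr {g : G} (hg : ¬ Commute g t) : g⁻¹ * t * g ∉ centr ι := fun h =>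
  S.t_ne (S.eq_one_of_mem_conj hg S.t_mem h (m := 1) (by rw [pow_one, pow_two, S.tt]))

/-- The main step: the 2-elements centralising the standard subgroup and another conjugate of `t`. -/
theorem Std.small {g : G} (hu : Commute (g * t * g⁻¹) t) (hne : g * t * g⁻¹ ≠ t) :
    ∃ l : Cm, ∃ k ∈ centr ι, g * t * g⁻¹ = ι l * k ∧
      ∀ w ∈ centr ι, Commute w k → (w * w ≠ t ∧ (w * w = 1 → w = 1 ∨ w = t)) := by
  have hg : ¬ Commute g t := fun h => hne (by rw [h.eq, mul_inv_cancel_right])
  obtain ⟨l, k, hk, hlk⟩ := S.dec _ hu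
  refine ⟨l, k, hk, hlk, ?_⟩
  -- the image of the conjugate is not in the centralising group
  have huu : g * t * g⁻¹ * (g * t * g⁻¹) = 1 := by
    rw [show g * t * g⁻¹ * (g * t * g⁻¹) = g * (t * t) * g⁻¹ by group, S.tt, mul_one, mul_inv_cancel]
  have hl1 : ¬ TEq l 1 := fun h => by
    have hmem : g * t * g⁻¹ ∈ centr ι := by
      rw [hlk]
      rcases h with rfl | rfl
      · rw [map_one, one_mul]; exact hk
      · rw [mul_one, S.map_t]; exact mul_mem S.t_mem hk
    have hg' : ¬ Commute g⁻¹ t := fun h => hg (Commute.inv_left_iff.1 h)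
    refine S.not_mem_centr hg' ?_
    rwa [inv_inv]
  have hl2 : TEq (l * l) 1 := by
    refine S.dec_unique (mul_mem hk hk) (one_mem _) ?_
    rw [map_one, one_mul, map_mul, show ι l * ι l * (k * k) = ι l * (ι l * k) * k by group, (centr_comm hk l).eq,
      show ι l * (k * ι l) * k = ι l * k * (ι l * k) by group, ← hlk, huu]
  obtain ⟨e, f, hel, hfl, he4, hff, hfe⟩ := exists_roots hl2 hl1
  have heu : Commute (ι e) (g * t * g⁻¹) := hlk ▸ (hel.map ι).mul_right (centr_comm hk e)
  have hfu : Commute (ι f) (g * t * g⁻¹) := hlk ▸ (hfl.map ι).mul_right (centr_comm hk f)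
  have back : ∀ x : G, Commute x (g * t * g⁻¹) → Commute (g⁻¹ * x * g) t := fun x hx => by
    have h := hx.map (MulAut.conj g⁻¹).toMonoidHom
    simp only [MulEquiv.coe_toMonoidHom, MulAut.conj_apply, inv_inv,
      show g⁻¹ * (g * t * g⁻¹) * g = t by group] at h
    exact h
  set z := g⁻¹ * t * g with hz
  obtain ⟨a, ka, hka, hya⟩ := S.dec _ (back _ heu)
  obtain ⟨b, kb, hkb, hyb⟩ := S.dec _ (back _ hfu)
  have prod : ∀ {c d : Cm} {p q : G}, p ∈ centr ι → q ∈ centr ι → ι c * p * (ι d * q) = ι (c * d) * (p * q) := by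
    intro c d p q hp _
    rw [show ι c * p * (ι d * q) = ι c * (p * ι d) * q by group, ← (centr_comm hp d).eq, map_mul]
    group
  have hy4 : ι (a ^ 4) * ka ^ 4 = z := by
    rw [hz, ← S.map_t, ← he4, map_pow, map_pow, ← (centr_comm hka a).mul_pow, ← hya]
    have h5 := conj_pow (a := g⁻¹) (b := ι e) (i := 4)
    rwa [inv_inv] at h5
  have hz2 : z * z = 1 := by rw [hz, show g⁻¹ * t * g * (g⁻¹ * t * g) = g⁻¹ * (t * t) * g by group, S.tt]; group
  have ha4 : ¬ TEq (a ^ 4) 1 := fun h => by
    refine S.not_mem_centr hg ?_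
    rw [← hz, ← hy4]
    rcases h with h | h <;> rw [h]
    · rw [map_one, one_mul]; exact pow_mem hka 4
    · rw [mul_one, S.map_t]; exact mul_mem S.t_mem (pow_mem hka 4)
  have h8 : TEq (a ^ 4 * a ^ 4) 1 := by
    refine S.dec_unique (mul_mem (pow_mem hka 4) (pow_mem hka 4)) (one_mem _) ?_
    rw [← prod (pow_mem hka 4) (pow_mem hka 4), hy4, hz2, map_one, one_mul]
  have ha16 : a ^ 16 = 1 := by
    rw [show a ^ 16 = a ^ 4 * a ^ 4 * (a ^ 4 * a ^ 4) by rw [← pow_add, ← pow_add], h8.pow_two, one_mul]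
  have hbb : TEq (b * b) 1 := by
    refine S.dec_unique (mul_mem hkb hkb) (one_mem _) ?_
    rw [← prod hkb hkb, ← hyb, map_one, one_mul,
      show g⁻¹ * ι f * g * (g⁻¹ * ι f * g) = g⁻¹ * (ι f * ι f) * g by group, ← map_mul, hff, map_one]
    group
  have hbab : TEq (b * a * b⁻¹) a⁻¹ := by
    have h : TEq (b * a * b * a) 1 := by
      refine S.dec_unique (mul_mem (mul_mem (mul_mem hkb hka) hkb) hka) (one_mem _) ?_
      rw [← prod (mul_mem (mul_mem hkb hka) hkb) hka, ← prod (mul_mem hkb hka) hkb, ← prod hkb hka, ← hya, ← hyb,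
        map_one, one_mul, show g⁻¹ * ι f * g * (g⁻¹ * ι e * g) * (g⁻¹ * ι f * g) * (g⁻¹ * ι e * g) =
        g⁻¹ * (ι f * ι e * ι f * ι e) * g by group, ← map_mul, ← map_mul, ← map_mul, hfe, map_one]
      group
    have hb' : TEq b⁻¹ b := by
      rcases hbb with h' | h'
      · exact Or.inl (inv_eq_of_mul_eq_one_right h')
      · refine Or.inr (inv_eq_of_mul_eq_one_right ?_)
        rw [← mul_assoc, ← (tm_comm b).eq, mul_assoc, h', mul_one, tm_sq]
    have h2 : TEq (b * a * b) a⁻¹ := by
      rcases h with h' | h'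
      · exact Or.inl (eq_inv_of_mul_eq_one_left h')
      · exact Or.inr (by rw [← mul_inv_cancel_right (b * a * b) a, h', mul_one])
    refine TEq.trans ?_ h2
    rcases hb' with h' | h' <;> rw [h']
    · exact Or.inl rfl
    · exact Or.inr (by rw [← mul_assoc (b * a), (tm_comm (b * a)).symm.eq, mul_assoc tm])
  intro w hw hwk
  have hwu : Commute w (g * t * g⁻¹) := hlk ▸ ((centr_comm hw l).symm).mul_right hwk
  obtain ⟨c, kc, hkc, hWc⟩ := S.dec _ (back _ hwu)
  have hcomm : ∀ {x : Cm} {d : Cm} {kd : G}, kd ∈ centr ι → g⁻¹ * ι x * g = ι d * kd → TEq (c * d) (d * c) := by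
    intro x d kd hkd hd
    refine S.dec_unique (mul_mem hkc hkd) (mul_mem hkd hkc) ?_
    rw [← prod hkc hkd, ← prod hkd hkc, ← hWc, ← hd,
      show g⁻¹ * w * g * (g⁻¹ * ι x * g) = g⁻¹ * (w * ι x) * g by group,
      show g⁻¹ * ι x * g * (g⁻¹ * w * g) = g⁻¹ * (ι x * w) * g by group, (centr_comm hw x).eq]
  refine ⟨fun hww => ?_, fun hww => ?_⟩
  · refine no_quarter ha16 ha4 hbb hbab (hcomm hka hya) ?_ (hcomm hkb hyb)
    refine S.dec_unique (mul_mem hkc hkc) (pow_mem hka 4) ?_
    rw [← prod hkc hkc, ← hWc, hy4, hz, ← hww]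
    group
  have hcc : TEq (c * c) 1 := by
    refine S.dec_unique (mul_mem hkc hkc) (one_mem _) ?_
    rw [← prod hkc hkc, ← hWc, map_one, one_mul, show g⁻¹ * w * g * (g⁻¹ * w * g) = g⁻¹ * (w * w) * g by group, hww]
    group
  have hw2 : w ^ 2 ^ 1 = 1 := by rw [pow_one, pow_two, hww]
  rcases exists_separating ha16 ha4 (hcomm hka hya) hcc with h | h | ⟨h, hhc, hha⟩
  · refine Or.inl (S.eq_one_of_mem_conj hg hw ?_ hw2)
    rw [hWc]
    rcases h with h | h <;> rw [h]
    · rw [map_one, one_mul]; exact hkc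
    · rw [mul_one, S.map_t]; exact mul_mem S.t_mem hkc
  · refine Or.inr ?_
    have hwt : (w * t) ^ 2 ^ 1 = 1 := by
      rw [pow_one, (S.centr_comm_t hw).mul_pow, pow_two, pow_two, hww, S.tt, one_mul]
    have hmem : g⁻¹ * (w * t) * g ∈ centr ι := by
      have e0 : g⁻¹ * (w * t) * g = ι (c * a ^ 4) * (kc * ka ^ 4) := by
        rw [← prod hkc (pow_mem hka 4), hy4, ← hWc, hz]; group
      rw [e0]
      have h2 : TEq (c * a ^ 4) 1 := by
        rcases h with h | h <;> rw [h]
        · exact h8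
        · rw [mul_assoc]
          exact TEq.trans (Or.inr rfl) h8
      rcases h2 with e | e <;> rw [e]
      · rw [map_one, one_mul]; exact mul_mem hkc (pow_mem hka 4)
      · rw [mul_one, S.map_t]; exact mul_mem S.t_mem (mul_mem hkc (pow_mem hka 4))
    have := S.eq_one_of_mem_conj hg (mul_mem hw S.t_mem) hmem hwt
    calc w = w * t * t := by rw [mul_assoc, S.tt, mul_one]
      _ = t := by rw [this, one_mul]
  · by_cases hw1 : w = 1
    · exact Or.inl hw1
    exfalso
    refine hha ?_
    have hW : Commute (ι h) (g⁻¹ * w * g) := hWc ▸ (hhc.map ι).mul_right (centr_comm hkc h)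
    have hgt : Commute (g * ι h * g⁻¹) w := by
      have h5 := hW.map (MulAut.conj g).toMonoidHom
      simp only [MulEquiv.coe_toMonoidHom, MulAut.conj_apply, show g * (g⁻¹ * w * g) * g⁻¹ = w by group] at h5
      exact h5
    have hhz : Commute (ι h) z := by
      have h5 := (S.centralizer_le hw hw2 hw1 hgt).map (MulAut.conj g⁻¹).toMonoidHom
      simp only [MulEquiv.coe_toMonoidHom, MulAut.conj_apply, inv_inv,
        show g⁻¹ * (g * ι h * g⁻¹) * g = ι h by group, ← hz] at h5
      exact h5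
    have h6 : Commute (ι h) (ι (a ^ 4)) := by
      have := hhz.mul_right (centr_comm (inv_mem (pow_mem hka 4)) h)
      rwa [← hy4, mul_inv_cancel_right] at this
    exact S.inj (by rw [map_mul, map_mul]; exact h6.eq)

end CfsgLib.CoThreeStd
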