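import Mathlib.Data.Nat.Notation

/-!
# Certificate data: roots, inverting elements and classes of elements of order eight in a Sylow 2-subgroup
-/

set_option autoImplicit false
set_option maxRecDepth 100000

namespace CfsgLib.CoThreeStd

/-- Short words for the elements of the Sylow subgroup, a part. -/
def shortsPart0 : List (List ℕ) := [
  [],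
  [2, 2, 2, 2, 2, 2, 2, 2, 2, 2],
  [0, 0, 0, 0],
  [3, 0, 2, 2, 1, 2, 0, 2, 1, 2, 0, 2, 0],
  [1, 2, 0, 0, 0, 0, 3, 3, 1, 1, 2],
  [3, 0, 0, 2, 2, 0, 0, 0, 0, 3, 0],
  [0, 2, 0, 0, 0, 0, 3, 3, 1, 1, 2, 0, 0],
  [2, 0, 0, 0, 0, 3, 3, 1, 1, 2, 0, 0, 0],
  [1, 2, 1, 2, 0, 0, 0, 0, 3, 3, 1],
  [0, 2, 2, 0, 0, 0, 0, 3, 0, 3, 0],
  [0, 2, 1, 2, 0, 0, 0, 0, 3, 3, 0],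
  [1, 2, 2, 0, 0, 0, 0, 3, 0, 3, 1],
  [2, 2, 0, 0, 0, 0, 3, 0, 3, 1, 1],
  [2, 1, 2, 0, 0, 0, 0, 3, 3, 0, 0],
  [2, 2, 0, 0, 0, 0, 3, 0, 3, 0, 0],
  [2, 1, 2, 0, 0, 0, 0, 3, 3, 1, 1],
  [0, 3, 0, 2, 0, 0, 3, 3, 0, 3, 1, 1, 2, 2],
  [3, 3, 0, 0, 2, 1, 2, 2, 1, 1, 3, 1, 2, 1],
  [3, 1, 2, 0, 0, 3, 3, 3, 0, 0, 2, 0, 2, 1],
  [0, 3, 3, 0, 0, 2, 0, 2, 2, 1, 1, 3, 0, 2],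
  [3, 1, 3, 0, 0, 2, 2, 1, 3, 3, 1, 1, 2, 0, 2, 0],
  [3, 1, 2, 0, 3, 1, 2, 2, 1, 2, 1, 2, 2, 0, 0, 0],
  [3, 0, 2, 0, 0, 3, 3, 3, 0, 0, 2, 1, 2, 0],
  [3, 1, 2, 0, 3, 1, 2, 2, 1, 2, 1, 2, 2, 1],
  [1, 2, 2, 2, 1, 3, 1, 2, 2, 0, 2, 2, 1, 3, 0, 0, 0],
  [2, 2, 0, 0, 3, 0, 2, 0, 3, 0, 2, 1, 1, 3, 3],
  [0, 2, 2, 2, 1, 3, 1, 2, 2, 0, 2, 2, 1, 3, 0],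
  [2, 1, 2, 1, 2, 1, 1, 2, 2, 1, 1, 3, 0, 2, 2, 2],
  [2, 1, 3, 3, 3, 0, 2, 2, 2, 2, 1, 2, 1, 2],
  [2, 1, 3, 3, 3, 0, 3, 3, 3, 3, 3, 3, 1, 2, 1, 2],
  [3, 3, 3, 0, 2, 2, 2, 2, 1, 2, 0, 0, 0, 2, 2, 0],
  [2, 2, 1, 1, 3, 0, 2, 2, 0, 3, 0, 3, 3, 1, 2, 2],
  [3, 0, 0, 2, 0],
  [2, 2, 2, 2, 2, 2, 2, 2, 2, 0, 0, 2, 0],
  [0, 3, 1, 1, 2, 0, 0],
  [3, 0, 2, 2, 1, 2, 0, 2, 1, 2, 1, 2],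
  [2, 2, 1, 2, 0, 2, 1, 2, 0, 2, 0, 3, 0],
  [1, 2, 0, 0, 0, 0, 3, 0],
  [2, 0, 0, 0, 0, 3, 3, 0, 0, 0, 0, 2, 0, 0],
  [0, 2, 0, 0, 0, 0, 3, 0, 0, 0],
  [3, 0, 0, 2, 2, 1, 2, 0, 0, 0, 0, 3, 3, 1],
  [2, 1, 2, 0, 0, 3, 3, 0, 0, 2, 2, 0, 3],
  [1, 2, 0, 0, 3, 3, 1, 1, 2, 1, 2, 1, 1, 3, 0],
  [2, 0, 2, 1, 1, 3, 3, 1, 1, 2, 2, 0, 3],
  [1, 2, 0, 2, 0, 0, 0, 0, 3, 0, 0, 3, 1],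
  [0, 2, 2, 0, 0, 0, 0, 3, 1, 1, 1, 3, 0],
  [3, 0, 3, 0, 3, 3, 0, 2, 0, 3, 3],
  [2, 2, 1, 3, 1, 2, 2, 1, 2, 1, 2],
  [3, 3, 0, 3, 0, 3, 3, 0, 2, 1, 3, 0, 0, 0, 2],
  [3, 3, 0, 0, 2, 1, 2, 0, 2, 0, 0, 3, 0, 2],
  [2, 2, 1, 3, 1, 3, 3, 1, 2, 2, 2, 0, 3],
  [3, 0, 3, 1, 1, 2, 2, 2, 1, 1, 3, 0, 2, 1, 1],
  [0, 3, 0, 3, 1, 1, 2, 2, 2, 1, 1, 3, 0, 2, 1],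
  [0, 2, 2, 1, 3, 1, 3, 3, 1, 2, 2, 2, 0, 3, 0],
  [1, 3, 0, 3, 1, 1, 2, 2, 2, 1, 1, 3, 0, 2, 0],
  [0, 3, 3, 1, 3, 1, 3, 0, 3, 3, 3, 0, 0, 2, 2, 1],
  [2, 2, 2, 2, 1, 1, 3, 3, 1, 2, 2, 2, 2, 1, 2, 0],
  [2, 2, 1, 1, 3, 3, 3, 0, 3, 0, 3, 3, 3, 3, 1, 2],
  [2, 2, 2, 1, 2, 0, 0, 3, 1, 2, 2, 2, 1, 2, 1, 3, 0],
  [2, 2, 0, 3, 0, 0, 3, 3, 0, 2, 2, 2, 2, 1, 2, 0],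
  [1, 2, 1, 3, 3, 3, 0, 2, 2, 2, 2, 1, 2, 0, 2],
  [2, 1, 3, 3, 3, 0, 2, 2, 2, 2, 1, 2, 0, 2, 0],
  [2, 0, 3, 3, 3, 0, 2, 2, 1, 2, 1, 3, 3],
  [2, 2, 0, 3, 0, 3, 3, 1, 2, 2, 2, 1, 3],
  [3, 1, 1, 2, 0],
  [2, 2, 2, 2, 2, 2, 2, 2, 2, 1, 1, 2, 0],
  [1, 3, 0, 0, 2],
  [1, 2, 2, 2, 2, 2, 2, 2, 2, 2, 0, 0, 2],
  [2, 0, 0, 0, 0, 3, 0, 0],
  [2, 1, 3, 1, 2, 2, 1, 2, 0, 2, 1, 2, 0],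
  [2, 0, 0, 0, 0, 3, 1, 1],
  [2, 0, 3, 0, 2, 2, 1, 2, 0, 2, 1, 2, 1],
  [2, 2, 0, 0, 0, 0, 3, 1, 1, 1, 3],
  [0, 3, 0, 3, 0, 3, 3, 0, 2, 0, 3, 3, 0],
  [1, 2, 2, 1, 3, 1, 2, 2, 1, 2, 1, 2, 1],
  [2, 0, 2, 0, 0, 0, 0, 3, 0, 0, 3],
  [2, 2, 1, 3, 1, 2, 2, 1, 2, 0, 0, 0, 2],
  [2, 0, 0, 3, 3, 1, 1, 2, 0, 2, 1, 1, 3],
  [2, 1, 1, 3, 1, 3, 0, 0, 2, 2, 0, 0, 3],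
  [2, 0, 0, 3, 1, 3, 0, 0, 2, 2, 1, 1, 3],
  [3, 0, 2, 0, 3, 1, 2, 2, 1, 2, 1, 2, 2],
  [3, 3, 3, 0, 2, 1, 3, 0, 0, 3, 1, 2, 0, 2],
  [3, 1, 2, 1, 1, 3, 1, 3, 3, 0, 0, 2, 1, 2],
  [3, 3, 0, 3, 0, 3, 3, 0, 2, 1, 3, 1, 2],
  [1, 3, 3, 0, 0, 2, 1, 2, 2, 1, 1, 3, 0, 2, 0],
  [3, 0, 2, 0, 0, 3, 3, 3, 0, 0, 2, 0, 2],
  [3, 3, 0, 0, 2, 0, 2, 2, 1, 1, 3, 1, 2],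
  [1, 3, 1, 2, 0, 0, 3, 3, 0, 3, 1, 1, 2, 2, 0],
  [2, 2, 2, 2, 1, 3, 3, 1, 3, 0, 2, 2, 0, 2, 2],
  [2, 1, 1, 2, 1, 2, 0, 2, 0, 2, 2, 2, 1, 1, 3, 0, 2],
  [3, 3, 1, 3, 3, 1, 2, 0, 2, 2, 0, 3, 3, 3, 3],
  [2, 2, 0, 0, 2, 1, 2, 0, 2, 0, 2, 2, 2, 0, 0, 3, 0],
  [2, 1, 2, 2, 1, 1, 1, 2, 1, 2, 0, 2, 1, 3, 3],
  [2, 2, 2, 0, 2, 0, 3, 0, 2, 2, 1, 3, 0, 3],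
  [2, 1, 2, 0, 3, 3, 0, 2, 0, 3, 0, 3, 3, 3],
  [2, 2, 0, 3, 1, 3, 0, 3, 0, 0, 0, 3, 3, 0, 3],
  [3, 0, 0, 0, 0, 2],
  [2, 0, 0, 0, 0, 3, 0, 2, 0, 0, 0, 0, 3, 0],
  [1, 3, 0, 0, 0, 0, 2, 0],
  [2, 0, 0, 0, 0, 3, 1, 2, 0, 0, 0, 0, 3, 1],
  [1, 2, 0, 0, 0, 0, 3, 3, 0, 0, 2],
  [3, 1, 1, 2, 2, 0, 0, 0, 0, 3, 0],
  [0, 3, 1, 1, 2, 2, 0, 0, 0, 0, 3],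
  [2, 0, 0, 0, 0, 3, 3, 0, 0, 2, 1],
  [2, 0, 0, 3, 3, 0, 0, 2, 0, 2, 1, 1, 3],
  [3, 0, 0, 0, 3, 0, 3, 3, 0, 2, 0, 3, 3, 1],
  [2, 2, 0, 2, 1, 2, 0, 3, 0, 0, 0, 2, 2],
  [2, 1, 1, 3, 3, 0, 0, 2, 0, 2, 0, 0, 3],
  [2, 2, 1, 3, 1, 2, 2, 1, 2, 1, 1, 1, 2, 0],
  [2, 0, 2, 0, 0, 3, 3, 0, 0, 2, 2, 1, 3],
  [1, 2, 1, 1, 3, 3, 0, 0, 2, 0, 2, 0, 0, 3, 0],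
  [0, 2, 1, 1, 2, 0, 3, 0, 2, 2, 1, 2, 1, 2, 0],
  [3, 3, 0, 3, 0, 3, 3, 0, 2, 1, 3, 0, 2, 1, 1, 1],
  [3, 0, 3, 1, 1, 2, 2, 2, 1, 1, 3, 1, 2, 1],
  [3, 3, 0, 3, 0, 3, 3, 0, 2, 1, 3, 0, 2, 0],
  [3, 1, 2, 1, 1, 3, 1, 3, 3, 0, 0, 2, 0, 2, 0],
  [1, 3, 3, 0, 0, 2, 1, 2, 2, 1, 1, 3, 1, 2],
  [3, 0, 2, 0, 0, 3, 3, 0, 3, 1, 1, 2, 2, 0],
  [3, 3, 0, 0, 2, 0, 2, 2, 1, 1, 3, 0, 2, 0],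
  [1, 3, 1, 2, 0, 0, 3, 3, 3, 0, 0, 2, 0, 2],
  [2, 2, 2, 1, 3, 1, 2, 2, 0, 2, 2, 1, 3, 0, 0],
  [2, 2, 0, 3, 0, 3, 3, 1, 2, 2, 1, 1, 2, 0, 3],
  [2, 2, 2, 1, 3, 1, 2, 2, 0, 2, 2, 1, 3, 1, 1],
  [2, 2, 0, 3, 0, 0, 3, 3, 0, 2, 2, 2, 2, 0, 2],
  [2, 1, 3, 3, 3, 0, 2, 2, 2, 2, 1, 2, 0, 0, 0, 2],
  [0, 2, 1, 3, 3, 3, 0, 2, 2, 2, 2, 1, 2, 1, 2, 1],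
  [3, 1, 3, 3, 3, 0, 2, 1, 1, 3, 0, 3, 3, 3, 0, 2, 0],
  [1, 2, 1, 3, 3, 3, 0, 2, 2, 2, 2, 1, 2, 1, 2, 0],
  [0, 0],
  [2, 2, 2, 2, 2, 2, 2, 2, 2, 2, 0, 0],
  [1, 1],
  [2, 2, 2, 2, 2, 2, 2, 2, 2, 2, 1, 1],
  [0, 2, 0, 0, 0, 0, 3, 3, 1, 1, 2],
  [2, 0, 0, 0, 0, 3, 3, 1, 1, 2, 0],
  [1, 3, 0, 0, 2, 2, 0, 0, 0, 0, 3],
  [3, 0, 0, 2, 2, 0, 0, 0, 0, 3, 1],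
  [1, 2, 1, 2, 0, 0, 0, 0, 3, 3, 0],
  [3, 1, 3, 0, 3, 3, 0, 2, 0, 3, 3, 0],
  [1, 2, 2, 1, 3, 1, 2, 2, 1, 2, 0, 2],
  [1, 2, 2, 0, 0, 0, 0, 3, 0, 3, 0],
  [2, 2, 0, 0, 0, 0, 3, 0, 3],
  [2, 2, 1, 3, 1, 2, 2, 1, 2, 0, 2, 1],
  [0, 3, 1, 3, 0, 3, 3, 0, 2, 0, 3, 3],
  [2, 1, 2, 0, 0, 0, 0, 3, 3],
  [3, 1, 2, 0, 0, 3, 3, 3, 0, 0, 2, 0, 2, 0],
  [1, 3, 3, 0, 0, 2, 0, 2, 2, 1, 1, 3, 0, 2],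
  [1, 3, 0, 2, 0, 0, 3, 3, 0, 3, 1, 1, 2, 2],
  [3, 3, 0, 0, 2, 1, 2, 2, 1, 1, 3, 1, 2, 0],
  [3, 3, 0, 0, 2, 0, 2, 0, 2, 0, 0, 3, 0, 2, 0],
  [3, 1, 2, 0, 3, 1, 2, 2, 1, 2, 1, 2, 2, 0],
  [3, 0, 2, 0, 0, 3, 3, 3, 0, 0, 2, 1, 2, 1],
  [3, 1, 2, 0, 3, 1, 2, 2, 1, 2, 1, 2, 2, 1, 1, 1],
  [1, 2, 2, 2, 1, 3, 1, 2, 2, 0, 2, 2, 1, 3, 0],
  [3, 3, 0, 3, 1, 1, 2, 2, 2, 1, 1, 3, 1, 2, 1, 2],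
  [0, 2, 2, 2, 1, 3, 1, 2, 2, 0, 2, 2, 1, 3, 1],
  [2, 2, 1, 3, 1, 3, 3, 0, 0, 0, 2, 2, 0, 3, 0, 3],
  [2, 1, 3, 3, 3, 0, 2, 2, 2, 2, 1, 2, 1, 2, 1, 1],
  [3, 1, 3, 3, 3, 1, 3, 3, 1, 3, 1, 3, 3, 3, 3, 3, 1],
  [2, 1, 3, 3, 3, 0, 2, 2, 2, 2, 1, 2, 1, 2, 0, 0],
  [3, 1, 2, 2, 2, 1, 2, 0, 0, 3, 1, 2, 2, 2, 0, 2, 0],
  [0, 3, 1, 1, 2],
  [0, 2, 2, 2, 2, 2, 2, 2, 2, 2, 1, 1, 2],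
  [3, 0, 0, 2, 1],
  [2, 2, 2, 2, 2, 2, 2, 2, 2, 0, 0, 2, 1],
  [2, 0, 0, 0, 0, 3, 3, 0, 0, 0, 0, 2],
  [0, 2, 0, 0, 0, 0, 3, 0],
  [3, 0, 0, 0, 0, 2, 2, 0, 0, 0, 0, 3],
  [1, 2, 0, 0, 0, 0, 3, 1],
  [3, 0, 0, 2, 2, 1, 2, 0, 0, 0, 0, 3, 3, 0],
  [2, 0, 3, 3, 0, 0, 2, 2, 0, 0, 3, 0, 3],
  [1, 2, 2, 0, 0, 0, 0, 3, 0, 3, 3, 1, 1, 2],
  [2, 1, 2, 1, 1, 3, 3, 1, 1, 2, 2, 1, 3],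
  [1, 2, 0, 2, 0, 0, 0, 0, 3, 0, 0, 3, 0],
  [2, 2, 1, 3, 1, 2, 2, 1, 2, 1, 2, 1, 1],
  [3, 0, 3, 0, 3, 3, 0, 2, 0, 3, 3, 0, 0],
  [2, 2, 1, 3, 1, 2, 2, 1, 2, 1, 2, 0, 0],
  [2, 2, 1, 3, 1, 3, 3, 1, 2, 2, 2, 0, 3, 0, 0],
  [3, 0, 3, 1, 1, 2, 2, 2, 1, 1, 3, 0, 2],
  [3, 3, 1, 3, 1, 3, 0, 3, 3, 3, 0, 0, 2, 2],
  [3, 3, 0, 0, 2, 1, 2, 0, 2, 0, 0, 3, 0, 2, 0, 0],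
  [3, 1, 2, 1, 1, 3, 0, 3, 3, 0, 0, 2, 0, 2],
  [0, 2, 2, 1, 3, 1, 3, 3, 1, 2, 2, 2, 0, 3, 1],
  [0, 3, 0, 3, 1, 1, 2, 2, 2, 1, 1, 3, 0, 2, 0],
  [1, 2, 2, 1, 3, 1, 3, 3, 1, 2, 2, 2, 0, 3, 0],
  [2, 2, 2, 2, 1, 1, 3, 3, 1, 2, 2, 2, 2, 1, 2, 1],
  [3, 3, 0, 3, 1, 1, 2, 2, 2, 1, 1, 3, 1, 2, 0, 2, 0],
  [2, 2, 0, 3, 1, 3, 3, 3, 0, 3, 3, 0, 3, 1, 2, 2, 0],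
  [2, 2, 0, 3, 0, 0, 3, 3, 0, 2, 2, 2, 2, 1, 2, 1],
  [2, 0, 3, 3, 3, 0, 2, 2, 1, 2, 1, 3, 3, 0, 0],
  [2, 2, 0, 3, 0, 3, 3, 1, 2, 2, 2, 1, 3, 0, 0],
  [2, 0, 3, 3, 3, 0, 2, 2, 1, 2, 1, 3, 3, 1, 1],
  [2, 2, 0, 3, 0, 3, 3, 1, 2, 2, 2, 1, 3, 1, 1],
  [3, 1, 1, 2, 0, 0, 0],
  [3, 1, 2, 2, 1, 2, 0, 2, 1, 2, 0, 2],
  [3, 1, 1, 2, 1],
  [2, 2, 2, 2, 2, 2, 2, 2, 2, 1, 1, 2, 1],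
  [2, 0, 0, 0, 0, 3, 0, 0, 0, 0],
  [0, 2, 0, 0, 0, 0, 3, 3, 0, 0, 0, 0, 2, 0],
  [2, 0, 0, 0, 0, 3],
  [2, 0, 3, 0, 2, 2, 1, 2, 0, 2, 1, 2, 0],
  [2, 2, 0, 0, 0, 0, 3, 1, 1, 1, 3, 0, 0],
  [2, 0, 2, 0, 0, 0, 0, 3, 0, 0, 3, 1, 1],
  [1, 2, 2, 1, 3, 1, 2, 2, 1, 2, 1, 2, 0],
  [2, 0, 2, 0, 0, 0, 0, 3, 0, 0, 3, 0, 0],
  [2, 1, 2, 0, 0, 0, 0, 3, 3, 1, 3, 0, 0, 2],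
  [2, 2, 0, 0, 0, 0, 3, 0, 3, 3, 1, 1, 2, 0],
  [2, 2, 1, 2, 1, 3, 0, 0, 0, 2, 2, 0, 2],
  [2, 0, 0, 3, 3, 1, 1, 2, 1, 2, 1, 1, 3],
  [3, 0, 2, 0, 3, 1, 2, 2, 1, 2, 1, 2, 2, 1, 1],
  [3, 3, 0, 0, 2, 1, 2, 2, 1, 1, 3, 0, 2],
  [3, 1, 2, 0, 0, 3, 3, 0, 3, 1, 1, 2, 2],
  [3, 3, 0, 3, 0, 3, 3, 0, 2, 1, 3, 1, 2, 1, 1],
  [3, 1, 2, 1, 2, 0, 0, 0, 2, 0, 2, 0, 2, 2],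
  [3, 0, 2, 0, 0, 3, 3, 3, 0, 0, 2, 0, 2, 1, 1],
  [3, 3, 0, 0, 2, 0, 2, 2, 1, 1, 3, 1, 2, 1, 1],
  [3, 3, 1, 3, 1, 3, 1, 1, 1, 3, 0, 3, 0, 2],
  [3, 0, 3, 0, 3, 3, 3, 3, 1, 2, 2, 2, 1, 1, 1, 3],
  [2, 2, 0, 3, 1, 3, 1, 1, 1, 3, 3, 3, 3, 1, 2, 2],
  [2, 2, 1, 1, 3, 0, 2, 2, 2, 1, 3, 1, 2, 2, 0, 2],
  [3, 3, 0, 2, 2, 2, 2, 0, 0, 0, 2, 0, 2, 1, 3, 3],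
  [2, 1, 2, 0, 3, 3, 0, 2, 0, 3, 0, 3, 3, 3, 0, 0],
  [2, 2, 2, 0, 2, 0, 3, 0, 2, 2, 1, 3, 0, 3, 1, 1],
  [2, 1, 2, 0, 3, 3, 0, 2, 0, 3, 0, 3, 3, 3, 1, 1],
  [2, 2, 2, 0, 2, 0, 3, 0, 2, 2, 1, 3, 0, 3, 0, 0],
  [3, 0, 0, 0, 0, 2, 0, 0],
  [3, 1, 2, 1, 1, 3, 1, 2, 1, 1, 3, 0, 2],
  [0, 3, 0, 0, 0, 0, 2, 0],
  [3, 1, 2, 0, 0, 3, 0, 2, 0, 0, 3, 0, 2],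
  [0, 2, 0, 0, 0, 0, 3, 3, 0, 0, 2],
  [3, 1, 1, 2, 2, 0, 0, 0, 0, 3, 0, 0, 0],
  [0, 3, 1, 1, 2, 2, 0, 0, 0, 0, 3, 0, 0],
  [2, 0, 0, 0, 0, 3, 3, 0, 0, 2, 0],
  [2, 1, 1, 2, 0, 3, 0, 2, 2, 1, 2, 1, 2],
  [2, 1, 1, 3, 3, 0, 0, 2, 1, 2, 0, 0, 3],
  [3, 0, 3, 0, 3, 3, 1, 2, 1, 3, 0, 0, 3],
  [2, 1, 1, 3, 0, 3, 1, 1, 2, 2, 0, 0, 3],
  [0, 3, 0, 0, 0, 3, 0, 3, 3, 0, 2, 0, 3, 3],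
  [2, 0, 2, 0, 0, 3, 3, 0, 0, 2, 2, 1, 3, 0, 0],
  [2, 2, 1, 3, 1, 2, 2, 1, 2, 1, 1, 1, 2, 1],
  [0, 2, 2, 0, 2, 1, 2, 0, 3, 0, 0, 0, 2, 2, 0],
  [3, 3, 0, 3, 0, 3, 3, 0, 2, 1, 3, 0, 2, 0, 0, 0],
  [3, 1, 3, 0, 0, 2, 2, 0, 3, 3, 1, 1, 2, 0, 2, 0],
  [3, 3, 0, 3, 0, 3, 3, 0, 2, 1, 3, 0, 2, 1],
  [3, 0, 3, 1, 1, 2, 2, 2, 1, 1, 3, 1, 2, 0],
  [0, 3, 3, 0, 0, 2, 1, 2, 2, 1, 1, 3, 1, 2],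
  [3, 0, 2, 0, 0, 3, 3, 0, 3, 1, 1, 2, 2, 1],
  [3, 3, 0, 0, 2, 0, 2, 2, 1, 1, 3, 0, 2, 1],
  [0, 3, 1, 2, 0, 0, 3, 3, 3, 0, 0, 2, 0, 2],
  [2, 2, 2, 1, 3, 1, 2, 2, 0, 2, 2, 1, 3],
  [2, 2, 0, 3, 0, 3, 3, 1, 2, 2, 2, 0, 0, 0, 3],
  [2, 0, 3, 3, 0, 3, 1, 1, 3, 0, 2, 1, 3, 3, 0, 3],
  [2, 2, 1, 1, 3, 0, 2, 1, 2, 1, 1, 3, 1, 2, 0, 3],
  [2, 2, 0, 3, 3, 3, 0, 2, 2, 1, 2, 1, 3, 3, 0, 3],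
  [2, 0, 0, 2, 1, 3, 3, 3, 0, 2, 2, 2, 2, 1, 2, 0],
  [2, 2, 2, 2, 2, 0, 2, 0, 2, 2, 0, 2, 2, 2, 0, 2, 0],
  [0, 2, 1, 3, 3, 3, 0, 2, 2, 2, 2, 1, 2, 1, 2, 0]]

/-- Short words for the elements of the Sylow subgroup, a part. -/
def shortsPart1 : List (List ℕ) := [
  [3, 1, 3, 0, 0, 2, 2],
  [3, 1, 3, 0, 0, 3, 3, 3, 3, 3, 3, 3, 3],
  [3, 1, 3, 0, 0, 2, 2, 0, 0, 0, 0],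
  [0, 0, 0, 0, 3, 1, 3, 0, 0, 2, 2],
  [0, 0, 3, 3, 1, 1, 2, 0, 2, 1, 1],
  [1, 1, 3, 3, 1, 1, 2, 0, 2, 0, 0],
  [0, 0, 3, 3, 1, 1, 2, 0, 2, 0, 0],
  [1, 1, 3, 3, 1, 1, 2, 0, 2, 1, 1],
  [3, 0, 0, 3, 3, 0, 2, 2, 0, 2, 1, 1, 1, 3],
  [2, 0, 0, 3, 0, 2, 1, 2, 1, 1, 3, 0, 2],
  [3, 3, 0, 3, 1, 1, 3, 0, 2, 1, 3, 3],
  [1, 2, 1, 1, 3, 0, 2, 1, 2, 1, 1, 3, 1, 2],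
  [2, 2, 0, 2, 1, 2, 0, 3, 0, 2, 0, 2],
  [0, 2, 0, 3, 0, 3, 3, 1, 2, 2, 2],
  [0, 2, 2, 1, 3, 1, 2, 2, 0, 2, 2],
  [2, 0, 0, 3, 1, 2, 2, 0, 0, 3, 0, 2],
  [1, 1, 1, 3, 3, 1, 1, 2, 0, 2, 1],
  [0, 3, 3, 1, 1, 2, 0, 2, 0, 0, 0],
  [1, 1, 1, 3, 3, 1, 1, 2, 0, 2, 0, 0, 0],
  [0, 3, 3, 1, 1, 2, 0, 2, 1],
  [0, 0, 0, 3, 1, 3, 0, 0, 2, 2, 0],
  [1, 3, 1, 3, 0, 0, 2, 2, 1, 1, 1],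
  [0, 0, 0, 3, 1, 3, 0, 0, 2, 2, 1, 1, 1],
  [1, 3, 1, 3, 0, 0, 2, 2, 0],
  [0, 3, 0, 2, 0, 0, 3, 0, 3, 1, 2, 0, 0, 3],
  [0, 2, 2, 0, 3, 1, 2, 0, 0, 2, 1, 2, 2, 1],
  [1, 3, 3, 0, 3, 1, 1, 3, 0, 2, 1, 3, 3, 0],
  [2, 1, 1, 3, 1, 2, 1, 2, 1, 1, 3, 1, 2, 0],
  [2, 0, 3, 0, 3, 3, 1, 2, 2, 2, 0],
  [0, 3, 3, 3, 0, 2, 2, 1, 2, 1, 3, 0, 0],
  [2, 0, 3, 0, 3, 3, 1, 2, 2, 2, 1, 1, 1],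
  [2, 2, 1, 3, 1, 2, 2, 0, 2, 2, 0],
  [3, 3, 1, 1, 2, 1, 2, 0],
  [3, 3, 1, 3, 1, 3, 0, 3, 3, 0, 2, 1, 1],
  [3, 3, 1, 1, 2, 1, 2, 1, 1, 1],
  [0, 0, 0, 0, 3, 3, 1, 1, 2, 1, 2, 0],
  [1, 1, 3, 3, 1, 1, 2, 0, 0, 0, 2, 0, 0, 0],
  [0, 0, 3, 3, 1, 1, 2, 0, 0, 0, 2, 1],
  [1, 1, 3, 3, 1, 1, 2, 0, 0, 0, 2, 1],
  [0, 0, 3, 3, 1, 1, 2, 0, 0, 0, 2, 0, 0, 0],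
  [2, 2, 2, 2, 1, 3, 3, 0, 0, 3, 1, 3, 0],
  [1, 2, 2, 1, 3, 1, 2, 2, 0, 2, 1, 1, 2, 1],
  [1, 2, 0, 3, 0, 3, 3, 1, 2, 2, 1, 1, 2, 1],
  [2, 0, 0, 3, 0, 2, 2, 0, 0, 3, 1, 2, 1],
  [3, 1, 1, 3, 3, 0, 2, 2, 1, 2, 1, 3],
  [0, 2, 0, 3, 0, 3, 3, 1, 2, 2, 0, 0, 2, 0],
  [3, 1, 2, 1, 1, 3, 3, 1, 2, 0, 0, 3],
  [3, 3, 3, 1, 2, 2, 0, 0, 3, 0, 3, 3, 1],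
  [0, 3, 3, 1, 1, 2, 1, 2, 0, 0],
  [1, 1, 1, 3, 3, 1, 1, 2, 1, 2, 1, 1],
  [0, 3, 3, 1, 1, 2, 1, 2, 1, 1],
  [1, 1, 1, 3, 3, 1, 1, 2, 1, 2, 0, 0],
  [0, 0, 0, 3, 3, 1, 1, 2, 0, 0, 0, 2],
  [3, 0, 2, 2, 1, 2, 0, 2, 0, 2, 1, 1, 2],
  [3, 3, 0, 0, 0, 0, 2, 2, 2, 1, 1, 3, 1, 2],
  [1, 3, 3, 1, 1, 2, 0, 0, 0, 2],
  [0, 3, 3, 3, 1, 2, 2, 0, 0, 3, 0, 3, 3],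
  [0, 3, 1, 2, 1, 1, 3, 3, 1, 2, 0, 0, 3, 0],
  [2, 1, 3, 1, 3, 3, 1, 2, 2, 0, 0, 2, 0, 0],
  [0, 3, 1, 1, 3, 3, 0, 2, 2, 1, 2, 1, 3, 0],
  [1, 2, 2, 0, 2, 1, 2, 0, 3, 0, 2, 1, 2],
  [2, 0, 3, 0, 3, 3, 1, 2, 2, 1, 1, 2],
  [2, 2, 1, 3, 1, 2, 2, 0, 2, 1, 1, 2],
  [1, 2, 0, 0, 3, 1, 2, 2, 0, 0, 3, 1, 2],
  [3, 3, 1, 1, 2, 0, 0, 0, 2, 0],
  [3, 0, 2, 0, 0, 3, 3, 3, 0, 0, 0, 0, 2, 2],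
  [3, 3, 1, 1, 2, 0, 0, 0, 2, 1, 1, 1],
  [3, 0, 0, 3, 1, 3, 1, 3, 0, 3, 3, 1, 2],
  [1, 1, 3, 3, 1, 1, 2, 1, 2, 0, 0, 0],
  [0, 0, 3, 3, 1, 1, 2, 1, 2, 1],
  [1, 1, 3, 3, 1, 1, 2, 1, 2, 1],
  [0, 0, 3, 3, 1, 1, 2, 1, 2, 0, 0, 0],
  [3, 0, 2, 0, 0, 3, 0, 3, 1, 2, 1, 1, 3, 0],
  [2, 2, 1, 2, 1, 1, 3, 3, 0, 2, 2, 2, 1],
  [3, 3, 3, 0, 2, 2, 0, 2, 0, 3, 3, 1, 1, 2],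
  [1, 2, 0, 3, 0, 3, 3, 1, 2, 2, 0, 0, 2, 1],
  [3, 0, 0, 3, 3, 0, 2, 2, 1, 2, 1, 3],
  [2, 2, 0, 2, 1, 2, 0, 3, 0, 2, 1, 2, 0],
  [3, 0, 0, 3, 1, 3, 3, 0, 2, 0, 3, 3],
  [3, 3, 3, 0, 2, 2, 0, 2, 1, 1, 1, 3, 0],
  [1, 1, 1, 3, 3, 1, 1, 2, 0, 0, 0, 2, 0, 0],
  [0, 3, 3, 1, 1, 2, 0, 0, 0, 2, 1, 1],
  [1, 1, 1, 3, 3, 1, 1, 2, 0, 0, 0, 2, 1, 1],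
  [0, 3, 3, 1, 1, 2, 0, 0, 0, 2, 0, 0],
  [1, 3, 3, 1, 1, 2, 1, 2],
  [0, 0, 3, 1, 2, 2, 1, 2, 0, 2, 0, 2, 2],
  [1, 3, 3, 1, 1, 2, 1, 2, 0, 0, 0, 0],
  [0, 0, 0, 3, 3, 1, 1, 2, 1, 2],
  [2, 1, 3, 1, 3, 3, 1, 2, 2, 1, 1, 2, 0, 0],
  [2, 1, 1, 3, 1, 2, 1, 2, 1, 1, 3, 0, 2],
  [0, 3, 0, 0, 3, 1, 3, 3, 0, 2, 0, 3, 3, 0],
  [0, 3, 3, 3, 0, 2, 2, 1, 2, 0, 0, 0, 3],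
  [2, 2, 1, 3, 1, 2, 2, 0, 2, 0, 0, 2],
  [2, 2, 0, 0, 0, 2, 1, 2, 1, 2, 0, 2, 2],
  [1, 3, 1, 2, 1, 1, 3, 3, 0, 2, 0, 0, 3, 0],
  [2, 0, 3, 0, 3, 3, 1, 2, 2, 0, 0, 2],
  [3, 3, 1, 1, 2, 0, 2],
  [2, 2, 2, 2, 2, 2, 2, 2, 1, 1, 2, 0, 2],
  [3, 3, 1, 1, 2, 0, 2, 0, 0, 0, 0],
  [0, 0, 0, 0, 3, 3, 1, 1, 2, 0, 2],
  [0, 0, 3, 1, 3, 0, 0, 2, 2, 1, 1],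
  [1, 1, 3, 1, 3, 0, 0, 2, 2, 0, 0],
  [0, 0, 3, 1, 3, 0, 0, 2, 2, 0, 0],
  [1, 1, 3, 1, 3, 0, 0, 2, 2, 1, 1],
  [3, 1, 2, 1, 1, 3, 3, 0, 2, 1, 1, 3],
  [3, 3, 1, 3, 3, 0, 2, 0, 3, 3, 1],
  [3, 1, 3, 1, 2, 1, 3, 0, 3, 1, 3, 3],
  [3, 3, 3, 0, 2, 2, 0, 2, 0, 3, 0],
  [3, 0, 2, 0, 0, 3, 0, 3, 1, 2, 0, 0, 3, 0],
  [2, 2, 0, 3, 1, 2, 0, 0, 2, 1, 2, 2],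
  [2, 0, 0, 3, 1, 2, 2, 0, 0, 3, 1, 1, 1, 2],
  [3, 1, 2, 0, 0, 3, 0, 3, 1, 2, 1, 1, 3],
  [0, 3, 1, 3, 0, 0, 2, 2, 1],
  [1, 1, 1, 3, 1, 3, 0, 0, 2, 2, 0, 0, 0],
  [0, 3, 1, 3, 0, 0, 2, 2, 0, 0, 0],
  [1, 1, 1, 3, 1, 3, 0, 0, 2, 2, 1],
  [1, 3, 3, 1, 1, 2, 0, 2, 0],
  [0, 0, 0, 3, 3, 1, 1, 2, 0, 2, 1, 1, 1],
  [1, 3, 3, 1, 1, 2, 0, 2, 1, 1, 1],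
  [0, 0, 0, 3, 3, 1, 1, 2, 0, 2, 0],
  [1, 3, 3, 3, 0, 2, 2, 1, 2, 1, 3],
  [0, 0, 2, 2, 1, 3, 1, 2, 2, 0, 2, 2, 1],
  [2, 1, 3, 1, 3, 3, 1, 2, 2, 2, 1],
  [0, 0, 0, 3, 3, 3, 0, 2, 2, 1, 2, 1, 3],
  [2, 1, 1, 3, 0, 2, 1, 2, 1, 1, 3, 1, 2, 1],
  [0, 3, 3, 0, 3, 1, 1, 3, 0, 2, 1, 3, 3, 1],
  [1, 3, 0, 2, 0, 0, 3, 0, 3, 0, 2, 0, 0, 3],
  [1, 2, 2, 0, 3, 1, 2, 0, 0, 2, 1, 2, 2, 0],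
  [3, 1, 3, 0, 0, 2, 2, 0, 0],
  [0, 0, 0, 0, 3, 1, 3, 0, 0, 2, 2, 1, 1],
  [3, 1, 3, 0, 0, 2, 2, 1, 1],
  [0, 0, 0, 0, 3, 1, 3, 0, 0, 2, 2, 0, 0],
  [0, 0, 3, 3, 1, 1, 2, 0, 2],
  [1, 1, 3, 3, 1, 1, 2, 0, 2, 0, 0, 0, 0],
  [0, 0, 3, 3, 1, 1, 2, 0, 2, 0, 0, 0, 0],
  [1, 1, 3, 3, 1, 1, 2, 0, 2],
  [3, 3, 0, 3, 1, 1, 3, 0, 2, 1, 3, 3, 1, 1],
  [2, 2, 1, 2, 1, 1, 3, 3, 0, 2, 2, 0, 0, 2],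
  [3, 3, 0, 3, 1, 1, 3, 0, 2, 1, 3, 3, 0, 0],
  [3, 1, 2, 1, 2, 1, 2, 0, 3, 1, 2, 2, 0, 3, 0],
  [0, 2, 2, 1, 3, 1, 2, 2, 0, 2, 2, 1, 1],
  [0, 2, 0, 3, 0, 3, 3, 1, 2, 2, 2, 0, 0],
  [0, 2, 2, 1, 3, 1, 2, 2, 0, 2, 2, 0, 0],
  [0, 2, 0, 3, 0, 3, 3, 1, 2, 2, 2, 1, 1],
  [1, 1, 1, 3, 3, 1, 1, 2, 0, 2, 1, 1, 1],
  [0, 3, 3, 1, 1, 2, 0, 2, 0],
  [1, 1, 1, 3, 3, 1, 1, 2, 0, 2, 0],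
  [0, 3, 3, 1, 1, 2, 0, 2, 1, 1, 1],
  [0, 0, 0, 3, 1, 3, 0, 0, 2, 2, 1],
  [1, 3, 1, 3, 0, 0, 2, 2, 0, 0, 0],
  [0, 0, 0, 3, 1, 3, 0, 0, 2, 2, 0, 0, 0],
  [1, 3, 1, 3, 0, 0, 2, 2, 1],
  [2, 2, 1, 1, 3, 3, 3, 3, 1, 2, 1, 2, 2, 0, 3],
  [2, 0, 0, 3, 0, 2, 1, 3, 3, 0, 0, 2, 0, 2, 0],
  [1, 3, 3, 0, 3, 1, 1, 3, 0, 2, 1, 3, 3, 1],
  [0, 2, 2, 0, 3, 1, 2, 0, 0, 2, 1, 2, 2, 0],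
  [2, 0, 3, 0, 3, 3, 1, 2, 2, 2, 1],
  [0, 3, 3, 3, 0, 2, 2, 1, 2, 1, 3],
  [2, 0, 3, 0, 3, 3, 1, 2, 2, 2, 0, 0, 0],
  [2, 2, 1, 3, 1, 2, 2, 0, 2, 2, 1],
  [3, 3, 1, 1, 2, 1, 2, 0, 0, 0],
  [3, 3, 1, 3, 1, 3, 0, 3, 3, 0, 2],
  [3, 3, 1, 1, 2, 1, 2, 1],
  [0, 0, 0, 0, 3, 3, 1, 1, 2, 1, 2, 0, 0, 0],
  [1, 1, 3, 3, 1, 1, 2, 0, 0, 0, 2, 1, 1, 1],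
  [0, 0, 3, 3, 1, 1, 2, 0, 0, 0, 2, 0],
  [1, 1, 3, 3, 1, 1, 2, 0, 0, 0, 2, 0],
  [0, 0, 3, 3, 1, 1, 2, 0, 0, 0, 2, 1, 1, 1],
  [2, 1, 1, 1, 3, 0, 3, 3, 1, 2, 2, 2, 0],
  [3, 1, 2, 0, 0, 3, 0, 3, 1, 2, 0, 0, 3],
  [2, 2, 2, 2, 1, 3, 3, 0, 0, 3, 1, 3, 1],
  [2, 0, 0, 3, 0, 2, 2, 0, 0, 3, 1, 2, 0],
  [3, 1, 1, 3, 3, 0, 2, 2, 1, 2, 1, 3, 0, 0],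
  [0, 3, 3, 1, 3, 3, 3, 3, 1, 2, 2, 2, 0, 3],
  [3, 1, 2, 1, 1, 3, 3, 0, 2, 0, 0, 3],
  [3, 3, 3, 1, 2, 2, 0, 0, 3, 0, 3, 3, 0],
  [0, 3, 3, 1, 1, 2, 1, 2],
  [1, 1, 1, 3, 3, 1, 1, 2, 1, 2, 0, 0, 0, 0],
  [3, 1, 2, 2, 1, 2, 0, 2, 0, 2, 2],
  [1, 1, 1, 3, 3, 1, 1, 2, 1, 2],
  [0, 0, 0, 3, 3, 1, 1, 2, 0, 0, 0, 2, 1, 1],
  [1, 3, 3, 1, 1, 2, 0, 0, 0, 2, 0, 0],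
  [0, 0, 0, 3, 3, 1, 1, 2, 0, 0, 0, 2, 0, 0],
  [1, 3, 3, 1, 1, 2, 0, 0, 0, 2, 1, 1],
  [2, 1, 3, 3, 3, 0, 2, 2, 2, 2, 0, 2, 2, 1],
  [0, 3, 1, 2, 1, 1, 3, 3, 1, 2, 0, 0, 3, 1],
  [2, 1, 3, 1, 3, 3, 1, 2, 2, 0, 0, 2],
  [1, 2, 2, 1, 2, 1, 1, 3, 3, 0, 2, 2, 2],
  [1, 3, 3, 3, 0, 2, 2, 1, 2, 0, 0, 0, 3],
  [2, 1, 1, 3, 0, 2, 1, 2, 1, 1, 3, 0, 2],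
  [1, 3, 3, 1, 3, 3, 1, 2, 1, 3, 0, 0, 3],
  [0, 2, 2, 2, 2, 1, 3, 3, 0, 0, 3, 1, 3],
  [3, 3, 1, 1, 2, 0, 0, 0, 2, 0, 0, 0],
  [0, 0, 0, 0, 3, 3, 1, 1, 2, 0, 0, 0, 2, 1],
  [3, 3, 1, 1, 2, 0, 0, 0, 2, 1],
  [3, 3, 1, 3, 1, 3, 0, 3, 3, 1, 1, 1, 2],
  [1, 1, 3, 3, 1, 1, 2, 1, 2, 1, 1, 1],
  [0, 0, 3, 3, 1, 1, 2, 1, 2, 0],
  [1, 1, 3, 3, 1, 1, 2, 1, 2, 0],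
  [0, 0, 3, 3, 1, 1, 2, 1, 2, 1, 1, 1],
  [1, 2, 2, 1, 3, 1, 2, 2, 0, 2, 0, 0, 2, 0],
  [2, 2, 1, 2, 1, 1, 3, 3, 0, 2, 2, 2, 0],
  [3, 0, 2, 0, 0, 3, 0, 3, 1, 2, 1, 1, 3, 1],
  [1, 2, 0, 3, 0, 3, 3, 1, 2, 2, 0, 0, 2, 0],
  [2, 0, 0, 3, 1, 2, 2, 0, 0, 3, 1, 2, 1],
  [3, 3, 1, 3, 3, 1, 2, 1, 3, 0, 0, 3, 0],
  [3, 0, 0, 3, 3, 0, 2, 2, 0, 2, 0, 3],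
  [3, 3, 3, 0, 2, 2, 1, 2, 0, 0, 0, 3, 0],
  [1, 1, 1, 3, 3, 1, 1, 2, 0, 0, 0, 2],
  [0, 3, 3, 1, 1, 2, 0, 0, 0, 2, 0, 0, 0, 0],
  [3, 0, 0, 0, 2, 2, 1, 2, 0, 2, 0, 2, 2],
  [0, 3, 3, 1, 1, 2, 0, 0, 0, 2],
  [1, 3, 3, 1, 1, 2, 1, 2, 1, 1],
  [0, 0, 0, 3, 3, 1, 1, 2, 1, 2, 0, 0],
  [1, 3, 3, 1, 1, 2, 1, 2, 0, 0],
  [0, 0, 0, 3, 3, 1, 1, 2, 1, 2, 1, 1],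
  [2, 1, 3, 1, 3, 3, 1, 2, 2, 1, 1, 2],
  [0, 2, 2, 0, 2, 1, 2, 0, 3, 0, 2, 1, 2],
  [1, 2, 0, 0, 3, 0, 2, 2, 0, 0, 3, 1, 2],
  [0, 3, 3, 3, 0, 2, 2, 0, 2, 1, 1, 1, 3],
  [1, 3, 1, 1, 3, 3, 0, 2, 2, 1, 2, 1, 3, 0],
  [2, 0, 3, 0, 3, 3, 1, 2, 2, 0, 0, 2, 0, 0],
  [2, 2, 1, 3, 1, 2, 2, 0, 2, 0, 0, 2, 0, 0],
  [1, 3, 3, 3, 1, 2, 2, 0, 0, 3, 0, 3, 3],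
  [3, 3, 1, 1, 2, 0, 2, 0, 0],
  [0, 0, 0, 0, 3, 3, 1, 1, 2, 0, 2, 1, 1],
  [3, 3, 1, 1, 2, 0, 2, 1, 1],
  [3, 3, 1, 3, 1, 3, 0, 3, 3, 1, 2, 0],
  [0, 0, 3, 1, 3, 0, 0, 2, 2],
  [1, 3, 0, 2, 2, 1, 2, 0, 2, 0, 2, 2],
  [0, 0, 3, 1, 3, 0, 0, 2, 2, 0, 0, 0, 0],
  [1, 1, 3, 1, 3, 0, 0, 2, 2],
  [3, 1, 2, 1, 1, 3, 3, 0, 2, 1, 1, 3, 0, 0],
  [3, 3, 1, 3, 3, 0, 2, 0, 3, 3, 0],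
  [1, 2, 0, 3, 0, 3, 3, 1, 2, 2, 2],
  [3, 3, 3, 0, 2, 2, 1, 2, 1, 3, 0],
  [3, 0, 2, 0, 0, 3, 0, 3, 0, 2, 0, 0, 3, 0],
  [2, 2, 0, 3, 1, 2, 0, 0, 2, 1, 2, 2, 0, 0],
  [3, 0, 2, 0, 0, 3, 0, 3, 1, 2, 0, 0, 3, 1],
  [2, 0, 0, 3, 1, 2, 1, 2, 1, 1, 3, 0, 2],
  [0, 3, 1, 3, 0, 0, 2, 2, 1, 1, 1],
  [1, 1, 1, 3, 1, 3, 0, 0, 2, 2, 0],
  [0, 3, 1, 3, 0, 0, 2, 2, 0],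
  [1, 1, 1, 3, 1, 3, 0, 0, 2, 2, 1, 1, 1],
  [1, 3, 3, 1, 1, 2, 0, 2, 1],
  [0, 0, 0, 3, 3, 1, 1, 2, 0, 2, 0, 0, 0],
  [1, 3, 3, 1, 1, 2, 0, 2, 0, 0, 0],
  [0, 0, 0, 3, 3, 1, 1, 2, 0, 2, 1],
  [2, 1, 3, 1, 3, 3, 1, 2, 2, 2, 0],
  [0, 2, 2, 0, 2, 1, 2, 0, 3, 0, 2, 0, 2, 0],
  [1, 3, 3, 3, 0, 2, 2, 1, 2, 1, 3, 0, 0],
  [0, 0, 2, 2, 1, 3, 1, 2, 2, 0, 2, 2, 0],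
  [0, 2, 0, 0, 3, 0, 2, 1, 2, 1, 1, 3, 0, 2, 0],
  [3, 1, 3, 1, 3, 0, 3, 3, 3, 3, 1, 2, 2, 2, 0],
  [2, 1, 1, 3, 0, 2, 1, 2, 1, 1, 3, 1, 2, 0],
  [0, 3, 3, 0, 3, 1, 1, 3, 0, 2, 1, 3, 3, 0]]

/-- Short words for the elements of the Sylow subgroup, a part. -/
def shortsPart2 : List (List ℕ) := [
  [1, 2, 1, 3, 0, 2, 0, 0, 3, 3, 1],
  [0, 2, 1, 3, 1, 2, 1, 1, 3, 1, 3, 1],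
  [2, 0, 2, 0, 0, 2, 2, 1, 2, 2, 2],
  [0, 0, 0, 2, 1, 3, 0, 2, 0, 0, 3, 3, 1],
  [0, 3, 1, 3, 1, 3, 0, 3, 1, 1, 3, 1, 3, 1],
  [2, 0, 0, 3, 3, 1, 2, 0, 0, 3, 1, 3, 1],
  [0, 3, 3, 1, 2, 0, 3, 1, 3, 0, 0, 3, 1, 3, 1],
  [2, 1, 1, 3, 0, 3, 1, 2, 1, 1, 3, 3, 0],
  [1, 2, 0, 3, 1, 2, 0, 0, 3, 3, 0],
  [1, 2, 1, 3, 0, 2, 1, 1, 3, 0, 3, 0],
  [1, 2, 0, 3, 1, 2, 0, 0, 3, 3, 1, 1, 1],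
  [0, 2, 1, 3, 1, 2, 0, 0, 3, 1, 1, 3, 0],
  [3, 3, 3, 3, 1, 2, 2, 2, 2, 0, 2, 1, 2],
  [2, 1, 1, 3, 0, 3, 1, 2, 0, 0, 3, 0, 3, 1],
  [2, 0, 0, 3, 3, 1, 2, 1, 1, 3, 1, 1, 3, 0],
  [0, 2, 1, 3, 0, 2, 0, 0, 3, 3, 3, 1, 1, 2],
  [1, 2, 2, 1, 1, 3, 1, 2, 0, 3, 1],
  [1, 2, 1, 2, 0, 0, 3, 0, 2, 1, 3, 0, 0, 0],
  [1, 2, 2, 1, 1, 3, 1, 2, 0, 3, 0, 0, 0],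
  [1, 2, 0, 2, 0, 0, 3, 0, 2, 0, 3, 0],
  [1, 2, 2, 0, 0, 3, 1, 2, 2, 1, 1, 3],
  [1, 2, 2, 1, 3, 0, 3, 0, 3, 1, 3, 1, 3],
  [1, 2, 0, 2, 0, 0, 2, 1, 2, 0, 2, 0, 2, 0],
  [0, 2, 2, 0, 0, 3, 0, 2, 0, 2, 0, 0, 3],
  [0, 2, 2, 1, 1, 3, 0, 2, 1, 3, 0, 0, 0],
  [1, 1, 1, 2, 2, 1, 1, 3, 0, 2, 1, 3, 1],
  [0, 2, 2, 1, 1, 3, 0, 2, 1, 3, 1],
  [0, 2, 1, 2, 0, 0, 3, 1, 2, 0, 3, 1],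
  [0, 2, 2, 1, 1, 3, 1, 2, 0, 3, 3, 1, 1, 2],
  [0, 0, 3, 3, 3, 0, 3, 3, 0, 0, 3, 1, 1, 3],
  [1, 1, 3, 3, 3, 0, 3, 3, 0, 0, 3, 1, 1, 3],
  [1, 3, 3, 3, 0, 3, 1, 2, 0, 0, 0, 2, 2],
  [3, 3, 1, 1, 1, 3, 0, 2, 1, 2, 2, 2, 0],
  [2, 0, 0, 2, 1, 1, 2, 2, 1, 2, 2, 2, 0, 0],
  [2, 0, 2, 0, 0, 2, 2, 1, 2, 2, 0, 0, 2, 0],
  [2, 0, 0, 2, 1, 1, 2, 2, 1, 2, 2, 2, 1, 1],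
  [0, 2, 1, 3, 0, 2, 1, 1, 3, 0, 3, 1],
  [0, 2, 0, 3, 1, 2, 0, 0, 3, 3, 1],
  [1, 2, 0, 0, 0, 3, 0, 2, 0, 0, 3, 3, 1],
  [0, 2, 0, 3, 1, 2, 0, 0, 3, 3, 0, 0, 0],
  [2, 1, 1, 3, 1, 3, 1, 2, 1, 1, 3, 3, 1],
  [1, 3, 1, 3, 1, 3, 0, 3, 1, 1, 3, 1, 3, 0],
  [2, 0, 0, 3, 3, 0, 2, 1, 1, 3, 3, 0],
  [2, 0, 2, 0, 2, 1, 2, 1, 2, 0, 3, 3, 0],
  [1, 2, 0, 3, 0, 2, 0, 0, 3, 0, 0, 3, 0],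
  [0, 2, 0, 3, 1, 2, 1, 1, 3, 0, 3, 0],
  [1, 2, 0, 0, 0, 3, 0, 2, 1, 1, 3, 0, 3, 0],
  [0, 2, 1, 3, 0, 2, 0, 0, 3, 3, 0],
  [3, 0, 3, 1, 3, 3, 3, 3, 0, 2, 2, 2, 2],
  [2, 1, 1, 3, 3, 3, 0, 0, 2, 0, 2, 0, 3, 1],
  [3, 3, 3, 0, 3, 3, 0, 0, 3, 1, 1, 3, 0, 0],
  [2, 1, 1, 3, 3, 3, 0, 0, 2, 1, 2, 1, 3, 0],
  [1, 2, 2, 1, 1, 3, 0, 2, 1, 3, 0],
  [1, 2, 1, 2, 0, 0, 3, 1, 2, 0, 3, 0],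
  [1, 2, 2, 1, 1, 3, 0, 2, 1, 3, 1, 1, 1],
  [0, 0, 0, 2, 2, 1, 1, 3, 0, 2, 1, 3, 0],
  [0, 2, 2, 0, 0, 3, 1, 2, 2, 1, 1, 3, 0, 0],
  [0, 2, 0, 2, 1, 1, 3, 0, 2, 2, 1, 1, 3],
  [1, 2, 2, 0, 0, 3, 0, 2, 1, 2, 0, 0, 3],
  [2, 0, 0, 3, 0, 3, 3, 0, 0, 2, 0, 2, 1, 3, 0],
  [0, 2, 0, 2, 0, 0, 3, 0, 2, 0, 3, 1],
  [0, 2, 2, 1, 1, 3, 1, 2, 0, 3, 0],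
  [3, 3, 3, 0, 3, 3, 1, 1, 3, 1, 3],
  [0, 2, 2, 1, 1, 3, 1, 2, 0, 3, 1, 1, 1],
  [2, 0, 3, 1, 2, 2, 1, 2, 1, 2, 2, 0, 3, 0],
  [3, 0, 2, 0, 3, 3, 3, 3, 3, 1, 3, 0, 2, 1],
  [2, 0, 2, 0, 0, 2, 2, 1, 2, 2, 1, 1, 2, 0],
  [2, 0, 3, 0, 2, 2, 2, 1, 2, 1, 1, 2, 0, 2, 1],
  [0, 2, 0, 3, 3, 1, 1, 2, 0, 2, 0, 3, 1],
  [1, 3, 0, 2, 1, 1, 2, 2, 1, 3, 3, 3, 1, 2],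
  [0, 2, 0, 3, 3, 1, 1, 2, 1, 2, 1, 3, 0],
  [1, 1, 1, 2, 0, 3, 3, 1, 1, 2, 0, 2, 0, 3, 1],
  [2, 0, 0, 3, 3, 3, 0, 0, 2, 0, 2, 0, 3, 0],
  [3, 3, 1, 1, 3, 1, 2, 1, 2, 1, 2, 2, 2, 1],
  [1, 2, 0, 3, 1, 2, 0, 0, 3, 3, 3, 0, 0, 2],
  [2, 0, 3, 0, 3, 3, 3, 1, 2, 0, 2, 0, 2],
  [1, 2, 0, 3, 1, 3, 0, 0, 2, 2, 0, 3, 0],
  [0, 0, 2, 2, 1, 2, 0, 2, 0, 2, 2, 1, 3, 1],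
  [2, 0, 3, 0, 3, 3, 3, 3, 3, 0, 2, 0, 3],
  [1, 2, 0, 3, 3, 1, 3, 1, 3, 0, 3, 3],
  [1, 2, 2, 0, 0, 3, 1, 2, 2, 0, 0, 3, 0, 0],
  [1, 2, 0, 2, 2, 1, 3, 1, 2, 2, 0, 2, 0],
  [3, 3, 1, 2, 1, 3, 3, 3, 3, 1, 2, 2, 0],
  [2, 1, 1, 3, 3, 0, 2, 1, 1, 3, 3, 1],
  [2, 1, 3, 3, 1, 1, 3, 3, 3, 0, 0, 3, 3],
  [3, 3, 1, 1, 1, 2, 0, 3, 0, 3, 3, 0, 3, 1],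
  [0, 2, 2, 2, 1, 3, 1, 2, 1, 3, 0, 3, 3],
  [0, 2, 0, 2, 2, 0, 2, 0, 3, 0, 2, 2, 0, 3],
  [0, 2, 2, 2, 0, 2, 1, 2, 0, 3, 0, 2],
  [2, 1, 1, 2, 1, 1, 2, 2, 1, 2, 2, 2],
  [2, 1, 1, 3, 3, 0, 2, 0, 0, 3, 0, 3, 0],
  [3, 1, 1, 2, 2, 0, 3, 1, 2, 0, 0, 3, 3, 0],
  [3, 1, 3, 1, 1, 1, 3, 0, 0, 0, 3, 3, 3, 0],
  [3, 0, 3, 3, 0, 2, 0, 3, 3, 1, 3, 1, 1, 1],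
  [2, 2, 0, 0, 2, 2, 0, 3, 3, 3, 0, 0, 3],
  [3, 0, 3, 3, 0, 2, 0, 3, 3, 1, 3, 0],
  [0, 2, 0, 3, 3, 1, 3, 1, 3, 0, 3, 3, 1, 1],
  [1, 2, 1, 3, 3, 1, 1, 2, 0, 2, 1, 3, 0],
  [2, 1, 3, 1, 2, 2, 2, 2, 2, 1, 2, 1, 3],
  [2, 2, 1, 2, 0, 2, 0, 2, 2, 1, 3, 0],
  [1, 2, 1, 3, 3, 0, 0, 2, 0, 2, 2, 1, 1, 3],
  [0, 3, 3, 3, 0, 3, 0, 3, 0, 2, 0, 0, 2, 2],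
  [3, 1, 3, 1, 3, 0, 2, 2, 2, 1, 2, 1, 3],
  [3, 1, 1, 2, 2, 2, 1, 1, 3, 0, 2, 1, 3, 0],
  [3, 0, 2, 2, 2, 0, 3, 3, 0, 0, 3, 1, 2, 0],
  [0, 2, 1, 3, 3, 1, 1, 2, 1, 2, 0, 3, 0],
  [1, 2, 0, 3, 3, 1, 1, 2, 0, 2, 0, 3, 0],
  [0, 2, 1, 3, 1, 3, 0, 0, 2, 2, 1, 3, 0, 0, 0],
  [0, 3, 1, 2, 0, 2, 2, 2, 2, 2, 1, 3, 1, 2],
  [0, 3, 1, 2, 0, 3, 3, 3, 3, 3, 1, 3, 1, 2],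
  [2, 0, 0, 3, 3, 0, 3, 1, 1, 2, 2, 1, 3, 1],
  [2, 1, 3, 1, 2, 2, 2, 1, 2, 1, 1, 2, 0, 2, 0],
  [1, 2, 0, 2, 2, 1, 3, 1, 2, 2, 1, 2],
  [2, 1, 1, 2, 2, 2, 1, 3, 3, 1, 1, 3, 3],
  [0, 0, 3, 0, 3, 3, 0, 2, 0, 3, 3, 1, 3, 1],
  [3, 3, 1, 2, 1, 3, 3, 3, 3, 1, 2, 1, 1, 2],
  [1, 2, 0, 2, 0, 3, 0, 3, 3, 1, 2, 2, 0],
  [3, 1, 2, 1, 3, 0, 3, 1, 3, 3, 3, 0, 0, 0],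
  [3, 3, 3, 0, 3, 3, 0, 0, 3, 0, 0, 3],
  [3, 1, 2, 1, 3, 0, 3, 1, 3, 3, 3, 1],
  [2, 0, 3, 3, 0, 3, 0, 2, 2, 1, 1, 2, 2, 1],
  [2, 2, 1, 2, 0, 3, 0, 2, 0, 3, 3, 3, 1],
  [2, 2, 1, 1, 2, 2, 2, 0, 0, 2, 2, 0, 3],
  [3, 1, 3, 3, 0, 0, 0, 3, 3, 0, 3, 3, 1, 2],
  [0, 2, 2, 0, 0, 3, 1, 2, 2, 0, 0, 3],
  [0, 2, 0, 2, 2, 1, 3, 1, 2, 2, 0, 2, 1],
  [3, 0, 2, 1, 1, 2, 0, 2, 0, 2, 0, 3, 3, 0],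
  [2, 1, 1, 3, 3, 1, 2, 0, 0, 3, 1, 3, 0],
  [1, 2, 1, 3, 0, 2, 0, 0, 3, 3, 0],
  [0, 2, 1, 3, 1, 2, 1, 1, 3, 1, 3, 0],
  [1, 2, 0, 3, 1, 2, 1, 1, 3, 0, 3, 0],
  [0, 0, 0, 2, 1, 3, 0, 2, 0, 0, 3, 3, 0],
  [0, 3, 1, 3, 1, 3, 0, 3, 1, 1, 3, 1, 3, 0],
  [2, 0, 0, 3, 3, 1, 2, 0, 0, 3, 1, 3, 0],
  [3, 1, 3, 1, 2, 0, 2, 1, 3, 3, 0, 3, 1, 2],
  [2, 0, 0, 3, 0, 0, 3, 0, 2, 1, 1, 3, 3, 0],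
  [1, 2, 0, 3, 1, 2, 0, 0, 3, 3, 0, 0, 0],
  [0, 2, 1, 3, 1, 2, 0, 0, 3, 1, 1, 3, 1],
  [1, 2, 0, 3, 1, 2, 0, 0, 3, 3, 1],
  [1, 2, 1, 3, 0, 2, 1, 1, 3, 0, 3, 1],
  [2, 0, 0, 3, 3, 1, 2, 1, 1, 3, 1, 1, 3, 1],
  [2, 1, 1, 3, 0, 3, 1, 2, 0, 0, 3, 0, 3, 0],
  [1, 1, 3, 3, 1, 1, 1, 3, 0, 2, 1, 2, 2, 2, 0],
  [3, 3, 1, 2, 1, 1, 2, 1, 2, 2, 2, 0, 0, 3],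
  [1, 2, 2, 1, 1, 3, 1, 2, 0, 3, 1, 1, 1],
  [1, 2, 1, 2, 0, 0, 3, 0, 2, 1, 3, 0],
  [1, 2, 2, 1, 1, 3, 1, 2, 0, 3, 0],
  [1, 2, 0, 2, 0, 0, 3, 0, 2, 0, 3, 1],
  [1, 2, 2, 0, 0, 3, 1, 2, 2, 1, 1, 3, 1, 1],
  [2, 1, 1, 3, 3, 0, 3, 1, 1, 2, 2, 1, 3, 1],
  [1, 2, 2, 0, 0, 3, 1, 2, 2, 1, 1, 3, 0, 0],
  [0, 2, 2, 0, 0, 3, 0, 2, 1, 2, 0, 0, 3],
  [0, 2, 2, 1, 1, 3, 0, 2, 1, 3, 0],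
  [0, 2, 1, 2, 0, 0, 3, 1, 2, 0, 3, 0],
  [0, 2, 2, 1, 1, 3, 0, 2, 1, 3, 1, 1, 1],
  [1, 1, 1, 2, 2, 1, 1, 3, 0, 2, 1, 3, 0],
  [2, 1, 1, 3, 3, 3, 0, 3, 0, 0, 3, 0, 2, 2],
  [1, 3, 3, 3, 0, 3, 1, 2, 0, 0, 0, 2, 2, 0, 0],
  [0, 2, 2, 0, 0, 3, 0, 0, 0, 2, 2, 1, 1, 3],
  [1, 2, 1, 2, 1, 1, 3, 0, 2, 1, 2, 0, 0, 3],
  [2, 0, 0, 3, 3, 0, 2, 0, 0, 3, 0, 3, 0],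
  [0, 2, 1, 3, 1, 2, 1, 1, 3, 1, 3, 3, 1, 1, 2],
  [3, 3, 1, 1, 1, 3, 0, 2, 1, 2, 2, 2, 1],
  [2, 0, 0, 2, 1, 1, 2, 2, 1, 2, 2, 2],
  [0, 2, 1, 3, 0, 2, 1, 1, 3, 0, 3, 0],
  [0, 2, 0, 3, 1, 2, 0, 0, 3, 3, 0],
  [1, 2, 0, 0, 0, 3, 0, 2, 0, 0, 3, 3, 0],
  [0, 2, 0, 3, 1, 2, 0, 0, 3, 3, 1, 1, 1],
  [2, 0, 0, 3, 3, 0, 2, 1, 1, 3, 3, 1],
  [2, 0, 2, 0, 2, 1, 2, 1, 2, 0, 3, 3, 1],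
  [2, 0, 0, 3, 3, 0, 2, 1, 1, 3, 3, 0, 0, 0],
  [2, 2, 0, 2, 0, 3, 3, 0, 2, 1, 2, 1, 2],
  [1, 1, 2, 0, 2, 0, 0, 2, 2, 1, 2, 2, 2],
  [0, 2, 1, 3, 0, 2, 0, 0, 3, 3, 1],
  [1, 2, 0, 3, 0, 2, 0, 0, 3, 0, 0, 3, 1],
  [0, 2, 0, 3, 1, 2, 1, 1, 3, 0, 3, 1],
  [1, 2, 1, 2, 1, 1, 3, 1, 2, 2, 1, 1, 3],
  [3, 0, 3, 0, 3, 1, 2, 0, 2, 2, 0, 3, 1, 2, 0],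
  [3, 3, 3, 0, 3, 3, 0, 0, 3, 1, 1, 3],
  [0, 3, 3, 3, 0, 3, 1, 2, 0, 0, 0, 2, 2],
  [1, 2, 2, 1, 1, 3, 0, 2, 1, 3, 1],
  [1, 2, 1, 2, 0, 0, 3, 1, 2, 0, 3, 1],
  [1, 2, 2, 1, 1, 3, 0, 2, 1, 3, 0, 0, 0],
  [0, 0, 0, 2, 2, 1, 1, 3, 0, 2, 1, 3, 1],
  [0, 2, 2, 0, 0, 3, 1, 2, 2, 1, 1, 3],
  [0, 2, 2, 1, 3, 0, 3, 0, 3, 1, 3, 1, 3],
  [3, 0, 3, 0, 3, 1, 2, 2, 1, 3, 1, 3, 3],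
  [1, 1, 1, 2, 2, 0, 0, 3, 1, 2, 2, 1, 1, 3],
  [3, 3, 3, 0, 3, 3, 1, 1, 3, 1, 3, 0, 0],
  [0, 2, 2, 1, 1, 3, 1, 2, 0, 3, 1],
  [0, 2, 0, 2, 0, 0, 3, 0, 2, 0, 3, 0],
  [0, 2, 2, 1, 1, 3, 1, 2, 0, 3, 0, 0, 0],
  [3, 0, 2, 0, 2, 2, 2, 2, 2, 1, 3, 0, 2, 0],
  [3, 0, 2, 0, 3, 3, 3, 3, 3, 1, 3, 0, 2, 0],
  [3, 1, 1, 2, 2, 2, 1, 1, 3, 1, 2, 0, 3, 0],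
  [2, 0, 3, 0, 2, 2, 2, 1, 2, 1, 1, 2, 0, 2, 0],
  [0, 2, 0, 3, 3, 1, 1, 2, 0, 2, 0, 3, 0],
  [1, 3, 0, 2, 1, 1, 2, 2, 1, 3, 3, 3, 1, 2, 0, 0],
  [2, 2, 1, 2, 0, 2, 0, 2, 1, 1, 2, 0, 3, 0],
  [1, 2, 1, 3, 0, 0, 3, 1, 3, 1, 3, 0, 3, 3],
  [2, 0, 0, 3, 3, 3, 0, 0, 2, 1, 2, 1, 3, 0],
  [3, 3, 1, 1, 3, 1, 2, 1, 2, 1, 2, 2, 2, 0],
  [2, 0, 0, 3, 3, 3, 0, 0, 2, 0, 2, 0, 3, 1],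
  [0, 2, 1, 3, 3, 0, 0, 2, 0, 2, 2, 1, 1, 3],
  [1, 2, 0, 3, 1, 3, 0, 0, 2, 2, 0, 3, 0, 0, 0],
  [0, 0, 2, 2, 1, 2, 0, 2, 0, 2, 2, 1, 3, 0],
  [1, 2, 0, 3, 1, 3, 0, 0, 2, 2, 0, 3, 1],
  [0, 2, 1, 3, 3, 1, 1, 2, 0, 2, 1, 3, 0],
  [1, 2, 2, 0, 0, 3, 1, 2, 2, 0, 0, 3],
  [2, 1, 1, 3, 3, 0, 2, 1, 1, 3, 3, 0],
  [3, 3, 1, 2, 1, 3, 3, 3, 3, 1, 2, 2, 1],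
  [2, 0, 0, 3, 1, 3, 1, 2, 1, 1, 3, 3, 1],
  [0, 2, 2, 2, 1, 3, 1, 2, 1, 3, 0, 3, 3, 0, 0],
  [2, 2, 1, 1, 1, 2, 2, 0, 2, 1, 3, 3, 1, 2],
  [2, 1, 2, 0, 2, 2, 0, 2, 1, 3, 3, 0, 2, 1],
  [3, 3, 1, 1, 1, 2, 0, 3, 0, 3, 3, 0, 3, 0],
  [0, 2, 2, 2, 0, 3, 1, 2, 0, 0, 2, 1, 2, 0],
  [2, 1, 1, 2, 1, 1, 2, 2, 1, 2, 2, 2, 1, 1],
  [2, 1, 1, 3, 3, 0, 2, 0, 0, 3, 0, 3, 1],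
  [0, 2, 0, 2, 0, 3, 0, 3, 3, 1, 2, 2, 0],
  [3, 1, 3, 1, 1, 1, 3, 0, 0, 0, 3, 3, 3, 1],
  [3, 0, 3, 3, 0, 2, 0, 3, 3, 1, 3, 0, 0, 0],
  [0, 2, 0, 2, 2, 1, 3, 1, 2, 2, 1, 2],
  [3, 0, 3, 3, 0, 2, 0, 3, 3, 1, 3, 1],
  [0, 2, 0, 3, 3, 1, 3, 1, 3, 0, 3, 3],
  [2, 2, 1, 2, 0, 2, 0, 2, 2, 1, 3, 1],
  [2, 1, 3, 1, 2, 2, 2, 2, 2, 1, 2, 1, 3, 0, 0],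
  [0, 2, 0, 3, 1, 3, 0, 0, 2, 2, 0, 3, 0],
  [3, 1, 3, 1, 3, 0, 2, 2, 2, 0, 2, 0, 3],
  [2, 1, 3, 1, 3, 3, 3, 1, 2, 0, 2, 0, 2],
  [3, 1, 3, 1, 3, 0, 2, 2, 2, 1, 2, 1, 3, 0, 0],
  [3, 3, 0, 0, 3, 3, 0, 2, 1, 3, 0, 2, 2, 2, 0],
  [1, 2, 0, 3, 3, 1, 1, 2, 0, 2, 0, 3, 1],
  [0, 2, 1, 3, 1, 3, 0, 0, 2, 2, 1, 3, 0],
  [1, 2, 0, 3, 3, 1, 1, 2, 1, 2, 1, 3, 0],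
  [0, 2, 1, 3, 3, 1, 1, 2, 1, 2, 0, 3, 1],
  [2, 0, 3, 0, 3, 3, 3, 0, 3, 0, 2, 2, 0, 2],
  [2, 1, 3, 1, 2, 2, 2, 1, 2, 1, 1, 2, 0, 2, 1],
  [2, 0, 0, 3, 3, 0, 3, 1, 1, 2, 2, 1, 3, 0],
  [1, 2, 0, 3, 3, 0, 0, 2, 1, 2, 2, 1, 1, 3],
  [0, 0, 3, 0, 3, 3, 0, 2, 0, 3, 3, 1, 3, 0],
  [3, 0, 3, 0, 3, 1, 2, 0, 2, 2, 0, 3, 0, 2],
  [3, 3, 0, 0, 2, 2, 2, 2, 2, 1, 1, 2, 2],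
  [3, 3, 0, 0, 3, 3, 3, 3, 3, 1, 1, 2, 2],
  [0, 3, 3, 0, 2, 2, 0, 2, 0, 3, 0, 3, 0],
  [3, 1, 2, 1, 3, 0, 3, 1, 3, 3, 3, 0],
  [0, 3, 0, 3, 1, 1, 3, 0, 2, 1, 3, 3, 3, 0],
  [3, 1, 2, 1, 3, 0, 3, 1, 3, 3, 3, 1, 1, 1],
  [2, 1, 1, 1, 2, 0, 0, 2, 2, 1, 2, 2, 2],
  [2, 2, 1, 2, 0, 3, 0, 2, 0, 3, 3, 3, 1, 1, 1],
  [2, 0, 2, 1, 2, 0, 0, 2, 0, 2, 2, 0, 2],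
  [2, 2, 1, 2, 0, 3, 0, 2, 0, 3, 3, 3, 0],
  [1, 2, 2, 0, 0, 3, 0, 2, 1, 2, 1, 1, 3],
  [2, 0, 0, 3, 0, 3, 1, 2, 1, 1, 3, 3, 0],
  [0, 2, 2, 0, 0, 3, 1, 2, 2, 0, 0, 3, 0, 0],
  [0, 2, 0, 2, 2, 1, 3, 1, 2, 2, 0, 2, 0]]

/-- Short words for the elements of the Sylow subgroup, a part. -/
def shortsPart3 : List (List ℕ) := [
  [0, 2, 1, 3, 3, 3, 1, 2, 0, 3, 0, 3, 1, 2],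
  [2, 1, 1, 3, 0, 2, 2, 2, 2, 1, 3, 3, 3, 1, 2],
  [3, 3, 3, 0, 2, 1, 1, 2, 2, 2, 0, 0, 3, 0, 0],
  [3, 1, 2, 2, 1, 3, 3, 3, 1, 1, 1, 3, 1, 2],
  [0, 3, 3, 3, 0, 3, 0, 3, 0, 2, 2, 0, 2],
  [3, 3, 3, 1, 2, 2, 1, 1, 3, 3, 1, 1, 3, 0],
  [3, 0, 2, 0, 2, 1, 3, 0, 3, 3, 1, 3, 0, 3],
  [1, 2, 1, 2, 2, 1, 2, 1, 3, 0, 2, 1, 2, 1],
  [3, 0, 0, 0, 3, 1, 3, 0, 2, 1, 2, 2, 2, 0],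
  [1, 2, 1, 2, 0, 2, 2, 2, 0, 3, 1, 1, 3, 3],
  [2, 2, 2, 2, 1, 3, 0, 0, 0, 0, 3, 1, 3, 3, 0],
  [3, 1, 3, 0, 2, 1, 3, 3, 3, 3, 1, 2, 2, 0],
  [3, 1, 3, 1, 2, 0, 3, 0, 3, 3, 0, 3, 1],
  [0, 3, 3, 0, 2, 1, 2, 1, 2, 1, 3, 3, 3],
  [3, 0, 0, 3, 3, 0, 3, 1, 2, 0, 2, 1, 2, 0],
  [3, 3, 3, 0, 2, 2, 2, 1, 1, 3, 1, 3, 0],
  [3, 1, 3, 3, 1, 2, 1, 2, 1, 2, 2, 2, 1],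
  [1, 2, 0, 0, 2, 2, 0, 0, 3, 3, 0, 2, 2, 2],
  [2, 1, 2, 0, 2, 2, 1, 2, 0, 3, 1, 3, 1, 2],
  [0, 3, 0, 3, 1, 2, 0, 3, 0, 3, 3, 0, 3, 0],
  [3, 0, 2, 1, 2, 1, 3, 0, 2, 2, 2, 0, 3, 1],
  [2, 0, 3, 3, 1, 1, 3, 3, 1, 2, 0, 2, 0, 2, 0],
  [2, 2, 0, 2, 0, 2, 2, 1, 2, 2, 0, 3, 3, 0, 0],
  [3, 0, 2, 0, 0, 0, 2, 2, 2, 0, 3, 3, 0, 2],
  [2, 1, 3, 3, 3, 0, 0, 0, 2, 2, 1, 2, 2, 1, 3],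
  [1, 3, 3, 0, 2, 2, 2, 2, 0, 3, 1, 2, 0, 2],
  [0, 3, 3, 1, 1, 3, 0, 2, 0, 3, 3, 1, 3, 1],
  [2, 2, 0, 0, 2, 1, 3, 3, 3, 1, 3, 0, 3, 0],
  [3, 3, 1, 3, 3, 0, 2, 1, 3, 1, 2, 0, 3, 0],
  [1, 2, 0, 2, 0, 0, 3, 3, 3, 1, 2, 2, 2],
  [0, 2, 1, 2, 2, 1, 2, 1, 3, 0, 2, 0, 2],
  [2, 2, 2, 0, 3, 0, 3, 0, 3, 1, 2, 2, 1],
  [3, 3, 3, 1, 2, 2, 1, 1, 3, 3, 0, 0, 3, 0],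
  [2, 2, 2, 2, 1, 3, 3, 3, 0, 2, 2, 0, 0, 3],
  [0, 3, 3, 3, 0, 3, 1, 2, 0, 2, 0, 2, 0, 0],
  [3, 3, 3, 1, 1, 1, 2, 2, 0, 0, 0, 3, 3, 0],
  [0, 0, 2, 2, 0, 2, 0, 3, 3, 0, 2, 0, 2, 2, 0],
  [2, 0, 3, 0, 2, 2, 2, 1, 2, 2, 2, 0, 0, 0],
  [1, 3, 3, 1, 3, 1, 2, 2, 1, 3, 1, 3, 3, 0, 0],
  [2, 0, 3, 0, 2, 2, 2, 1, 2, 2, 2, 1],
  [3, 3, 3, 1, 1, 1, 2, 2, 1, 3, 0, 3, 1],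
  [3, 1, 2, 1, 2, 0, 3, 0, 2, 2, 1, 3, 3, 1],
  [3, 0, 3, 3, 1, 3, 0, 0, 3, 3, 0, 3, 0, 0],
  [1, 3, 3, 1, 3, 1, 2, 1, 1, 1, 2, 2, 1, 2, 0],
  [1, 3, 0, 3, 3, 0, 0, 0, 3, 0, 2, 0, 2, 2, 0],
  [3, 0, 3, 1, 2, 0, 3, 1, 2, 0, 2, 2, 0, 2],
  [0, 2, 2, 0, 3, 3, 1, 2, 1, 3, 0, 3, 0, 2],
  [0, 2, 1, 2, 0, 3, 3, 0, 0, 0, 2, 2, 2],
  [2, 0, 2, 2, 0, 2, 0, 3, 1, 2, 1, 2, 0, 3],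
  [2, 2, 1, 1, 2, 1, 2, 1, 2, 2, 0, 3, 0, 0, 0, 0],
  [2, 0, 3, 1, 2, 2, 2, 2, 2, 2, 1, 1, 3, 0, 3, 0],
  [2, 2, 1, 1, 2, 1, 2, 1, 2, 2, 0, 3],
  [0, 3, 1, 2, 0, 2, 0, 3, 1, 2, 2, 0, 3, 0, 3, 0],
  [3, 1, 2, 1, 3, 3, 1, 3, 0, 2, 0, 2, 2, 1],
  [3, 3, 3, 3, 1, 3, 0, 3, 1, 1, 3, 3, 3, 0],
  [2, 1, 2, 2, 1, 1, 2, 0, 2, 2, 1, 1, 1, 2, 1],
  [3, 1, 3, 1, 3, 0, 2, 1, 2, 2, 0, 0, 2],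
  [0, 2, 0, 3, 3, 1, 1, 3, 1, 2, 2, 2, 1, 1],
  [1, 3, 3, 3, 0, 3, 1, 2, 0, 2, 1, 2, 0],
  [2, 0, 3, 1, 3, 3, 3, 3, 0, 0, 3, 3, 1],
  [2, 1, 3, 1, 2, 2, 2, 1, 2, 2, 0, 0, 2],
  [1, 3, 0, 3, 1, 3, 0, 2, 1, 2, 2, 2, 0],
  [2, 0, 3, 1, 1, 1, 2, 2, 2, 1, 2, 2, 2, 0],
  [3, 1, 1, 3, 3, 0, 3, 1, 2, 0, 2, 0, 2],
  [2, 0, 0, 3, 1, 2, 2, 2, 2, 1, 3, 3, 3, 1, 2],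
  [1, 2, 0, 3, 3, 1, 1, 3, 1, 2, 2, 0, 0, 2, 0],
  [1, 3, 3, 1, 1, 3, 0, 2, 0, 3, 3, 1, 3, 0],
  [3, 3, 3, 0, 2, 0, 0, 2, 2, 0, 0, 0, 3, 0],
  [3, 3, 3, 0, 2, 1, 1, 2, 2, 2, 1, 1, 3],
  [0, 3, 3, 3, 0, 3, 0, 3, 0, 2, 2, 1, 2, 0],
  [2, 0, 0, 2, 2, 0, 2, 1, 2, 1, 3, 3, 1, 1],
  [0, 3, 1, 3, 3, 1, 3, 0, 0, 3, 3, 0, 3],
  [1, 3, 0, 3, 1, 2, 0, 3, 0, 3, 3, 0, 3, 1],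
  [3, 0, 0, 3, 3, 0, 3, 3, 3, 0, 2, 0, 3],
  [2, 2, 0, 3, 0, 3, 1, 3, 3, 0, 0, 3],
  [3, 0, 0, 3, 3, 0, 3, 3, 3, 1, 2, 1, 3, 0, 0],
  [3, 3, 1, 1, 1, 3, 0, 2, 2, 2, 1, 2, 1, 3],
  [3, 0, 0, 3, 3, 0, 3, 1, 2, 0, 2, 0, 2],
  [2, 0, 0, 0, 2, 2, 1, 1, 2, 0, 2, 2, 0, 2, 0],
  [0, 2, 2, 1, 2, 2, 0, 0, 3, 3, 3, 3, 0, 3],
  [1, 3, 1, 1, 3, 3, 0, 2, 0, 0, 2, 2, 1, 3, 0],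
  [3, 3, 3, 1, 3, 0, 2, 2, 1, 3, 3, 0, 2, 2, 2],
  [0, 2, 1, 3, 0, 0, 3, 1, 1, 3, 1, 2, 2, 2],
  [1, 2, 0, 2, 2, 1, 3, 1, 2, 0, 0, 2, 2, 0],
  [1, 3, 0, 3, 3, 1, 2, 1, 2, 1, 2, 2, 2, 1],
  [2, 0, 0, 3, 3, 3, 0, 0, 3, 1, 2, 2, 2],
  [2, 1, 2, 2, 1, 1, 2, 0, 2, 2, 0, 2, 1],
  [0, 0, 2, 2, 0, 3, 0, 3, 1, 3, 3, 1, 1, 3],
  [2, 1, 2, 2, 2, 2, 1, 1, 3, 3, 0, 3, 3, 1],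
  [1, 3, 3, 0, 2, 2, 2, 2, 0, 3, 1, 2, 1, 2, 0],
  [3, 1, 3, 1, 3, 0, 2, 1, 2, 2, 1, 1, 2],
  [2, 0, 3, 0, 3, 3, 3, 1, 2, 0, 0, 0, 2, 2],
  [3, 3, 3, 1, 3, 3, 3, 1, 1, 1, 2, 2, 2, 2, 0],
  [2, 1, 1, 2, 2, 0, 2, 1, 2, 1, 3, 3],
  [2, 1, 3, 1, 2, 2, 2, 1, 2, 2, 1, 1, 2],
  [0, 2, 1, 2, 2, 1, 2, 1, 3, 0, 2, 1, 2, 0],
  [0, 3, 3, 3, 0, 3, 1, 2, 0, 2, 1, 2, 0, 0, 0],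
  [1, 2, 0, 3, 3, 1, 1, 3, 1, 2, 2, 2],
  [0, 3, 3, 3, 0, 3, 1, 2, 0, 2, 1, 2, 1],
  [2, 1, 1, 2, 2, 0, 3, 1, 2, 2, 2, 1, 3],
  [2, 0, 3, 3, 3, 0, 2, 1, 3, 3, 0, 0, 3],
  [0, 3, 0, 3, 1, 3, 0, 2, 1, 2, 2, 2, 1],
  [3, 3, 3, 0, 2, 0, 0, 2, 2, 1, 3, 0],
  [0, 3, 0, 3, 1, 3, 0, 2, 1, 2, 2, 2, 0, 0, 0],
  [2, 0, 2, 0, 0, 2, 2, 2, 2, 0, 2, 0, 3, 0],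
  [3, 3, 0, 2, 2, 0, 3, 3, 3, 3, 0, 3, 0, 3, 1],
  [0, 2, 1, 1, 2, 2, 1, 2, 0, 3, 0, 2, 2, 2, 1],
  [3, 1, 3, 3, 0, 0, 0, 3, 0, 2, 0, 2, 2, 0],
  [3, 3, 0, 3, 1, 3, 3, 1, 2, 0, 2, 1, 3, 1],
  [0, 2, 2, 0, 3, 3, 1, 2, 1, 3, 0, 3, 1, 2, 0],
  [2, 0, 0, 0, 2, 2, 1, 1, 2, 0, 2, 2, 1, 2],
  [2, 2, 1, 3, 1, 3, 1, 2, 1, 3, 3, 3, 1, 2, 1],
  [2, 0, 3, 1, 1, 3, 0, 3, 0, 3, 0, 0, 3, 3],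
  [1, 2, 2, 2, 1, 1, 1, 2, 1, 1, 1, 2, 2],
  [2, 1, 3, 0, 3, 3, 3, 3, 1, 1, 3, 0, 3, 0],
  [1, 1, 3, 0, 3, 3, 1, 3, 0, 0, 3, 3, 0, 3],
  [2, 1, 2, 2, 1, 1, 2, 0, 2, 2, 1, 2, 0, 0],
  [1, 2, 1, 2, 0, 0, 2, 2, 2, 2, 1, 2, 0, 3],
  [3, 3, 0, 0, 0, 3, 0, 0, 0, 3, 3, 3, 0],
  [2, 2, 1, 1, 2, 1, 2, 1, 2, 0, 0, 2, 1, 3],
  [3, 1, 3, 1, 3, 0, 2, 1, 2, 2, 2, 1, 1, 1],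
  [2, 0, 2, 0, 3, 1, 3, 0, 3, 0, 3, 0, 2, 0, 3],
  [3, 1, 3, 1, 3, 0, 2, 1, 2, 2, 2, 0],
  [3, 3, 1, 3, 3, 0, 0, 0, 0, 3, 3, 1, 2, 2, 0],
  [2, 2, 0, 2, 0, 3, 3, 0, 2, 0, 2, 2, 1],
  [1, 3, 3, 3, 0, 3, 3, 3, 1, 2, 1, 3, 0, 0],
  [3, 3, 1, 3, 3, 3, 1, 3, 0, 0, 3, 0, 2, 1],
  [2, 1, 3, 1, 2, 2, 2, 1, 2, 2, 2, 0],
  [3, 3, 3, 0, 2, 1, 1, 2, 2, 2, 0, 0, 3],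
  [3, 3, 0, 0, 3, 0, 2, 2, 2, 0, 2, 2, 0, 2],
  [1, 2, 2, 0, 3, 1, 3, 1, 1, 3, 1, 2, 1, 2, 1],
  [0, 3, 3, 0, 2, 2, 2, 2, 0, 3, 1, 2, 1, 2, 0],
  [0, 3, 3, 3, 0, 3, 0, 3, 0, 2, 2, 0, 2, 0, 0],
  [1, 1, 2, 1, 1, 2, 2, 0, 2, 1, 2, 1, 3, 3],
  [2, 0, 3, 0, 2, 2, 2, 1, 2, 2, 1, 1, 2],
  [1, 2, 1, 2, 2, 1, 2, 1, 3, 0, 2, 1, 2, 0],
  [0, 2, 0, 2, 2, 1, 3, 1, 2, 0, 0, 2, 2, 0],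
  [3, 1, 3, 0, 2, 1, 3, 3, 3, 3, 1, 2, 2, 1],
  [3, 0, 0, 0, 3, 1, 3, 0, 2, 1, 2, 2, 2, 1],
  [1, 2, 1, 3, 0, 0, 3, 1, 1, 3, 1, 2, 2, 2],
  [3, 1, 3, 1, 2, 0, 3, 0, 3, 3, 0, 3, 0],
  [3, 3, 3, 0, 2, 2, 2, 1, 1, 3, 1, 3, 1],
  [2, 2, 0, 3, 0, 3, 1, 3, 3, 1, 1, 3],
  [0, 3, 0, 3, 3, 1, 2, 1, 2, 1, 2, 2, 2, 1],
  [2, 2, 0, 0, 2, 1, 3, 3, 3, 0, 0, 0, 3, 3, 0],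
  [3, 0, 2, 1, 1, 2, 0, 2, 2, 2, 0, 2, 2],
  [3, 1, 3, 3, 1, 2, 1, 2, 1, 2, 2, 2, 0],
  [0, 3, 0, 3, 1, 2, 0, 3, 0, 3, 3, 0, 3, 1],
  [1, 3, 0, 3, 0, 2, 0, 0, 2, 0, 2, 1, 3, 3, 1],
  [2, 1, 2, 2, 1, 1, 2, 0, 2, 2, 0, 0, 0, 2],
  [2, 2, 0, 2, 0, 2, 2, 1, 2, 2, 0, 3, 3],
  [3, 3, 0, 0, 3, 3, 3, 0, 0, 0, 0, 3, 1, 2],
  [0, 3, 3, 1, 1, 3, 0, 2, 0, 3, 3, 1, 3, 0],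
  [2, 2, 1, 2, 2, 1, 2, 2, 2, 1, 3, 3, 0, 2],
  [2, 0, 0, 3, 0, 2, 2, 2, 2, 1, 3, 3, 3, 1, 2],
  [2, 2, 0, 0, 2, 1, 3, 3, 3, 1, 3, 0, 3, 1],
  [3, 3, 1, 3, 3, 0, 2, 1, 3, 1, 2, 0, 3, 1],
  [2, 2, 2, 0, 3, 0, 3, 0, 3, 1, 2, 2, 0],
  [0, 2, 1, 2, 2, 1, 2, 1, 3, 0, 2, 0, 2, 1, 1],
  [1, 3, 1, 3, 3, 1, 3, 0, 0, 3, 3, 0, 3],
  [0, 3, 3, 3, 0, 3, 1, 2, 0, 2, 0, 2],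
  [3, 3, 3, 1, 1, 1, 2, 2, 0, 0, 0, 3, 3, 1],
  [1, 2, 2, 1, 1, 2, 2, 2, 2, 1, 2, 0, 3],
  [2, 2, 2, 0, 3, 3, 0, 3, 1, 3, 3, 1, 3, 3, 0],
  [1, 3, 3, 1, 3, 1, 2, 2, 1, 3, 1, 3, 3],
  [0, 3, 3, 3, 0, 3, 3, 3, 0, 2, 0, 3],
  [0, 3, 0, 3, 1, 3, 0, 2, 1, 2, 2, 0, 0, 2],
  [2, 0, 3, 0, 2, 2, 2, 1, 2, 2, 2, 0],
  [3, 0, 3, 3, 1, 3, 0, 0, 3, 3, 0, 3],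
  [3, 1, 2, 1, 2, 0, 3, 0, 2, 2, 1, 3, 3, 0],
  [0, 2, 2, 2, 1, 1, 1, 2, 1, 1, 1, 2, 2],
  [2, 2, 0, 3, 1, 3, 0, 3, 0, 2, 0, 2, 2, 1, 2],
  [2, 2, 1, 3, 1, 3, 1, 2, 1, 3, 3, 3, 0, 2],
  [0, 0, 3, 3, 0, 0, 0, 3, 0, 0, 0, 3, 3, 3, 0],
  [0, 2, 1, 2, 0, 0, 2, 2, 2, 2, 1, 2, 0, 3],
  [0, 2, 1, 2, 0, 3, 3, 0, 0, 0, 2, 2, 2, 0, 0],
  [0, 3, 3, 1, 3, 1, 2, 1, 1, 1, 2, 2, 0, 2],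
  [2, 2, 1, 1, 2, 1, 2, 1, 2, 2, 0, 3, 0, 0],
  [2, 0, 0, 2, 1, 1, 2, 2, 1, 2, 1, 1, 2, 0, 2],
  [2, 2, 1, 1, 2, 1, 2, 1, 2, 2, 0, 3, 1, 1],
  [1, 2, 2, 0, 3, 3, 1, 2, 1, 3, 0, 3, 1, 2, 0],
  [1, 2, 0, 3, 1, 3, 0, 2, 2, 0, 2, 1, 2, 2],
  [3, 3, 3, 3, 1, 3, 0, 3, 1, 1, 3, 3, 3, 1],
  [3, 1, 2, 1, 3, 3, 1, 3, 0, 2, 0, 2, 2, 0],
  [0, 3, 3, 1, 2, 0, 3, 1, 2, 0, 3, 3, 3, 3],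
  [2, 0, 3, 1, 3, 3, 3, 3, 0, 0, 3, 3, 0],
  [1, 3, 3, 3, 0, 3, 1, 2, 0, 2, 1, 2, 1],
  [0, 2, 0, 3, 3, 1, 1, 3, 1, 2, 2, 2],
  [0, 0, 3, 3, 3, 0, 2, 0, 0, 2, 2, 1, 3, 0],
  [1, 3, 0, 3, 1, 3, 0, 2, 1, 2, 2, 2, 1],
  [1, 1, 3, 3, 3, 0, 2, 0, 0, 2, 2, 1, 3, 0],
  [1, 3, 0, 3, 1, 3, 0, 2, 1, 2, 2, 2, 0, 0, 0],
  [1, 3, 3, 1, 1, 3, 0, 2, 0, 3, 3, 1, 3, 1],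
  [3, 3, 3, 0, 2, 0, 0, 2, 2, 0, 0, 0, 3, 1],
  [0, 3, 3, 3, 0, 3, 1, 2, 0, 2, 1, 1, 1, 2],
  [3, 3, 3, 0, 2, 0, 0, 2, 1, 1, 2, 0, 3, 0],
  [1, 2, 1, 2, 2, 1, 2, 1, 3, 0, 2, 0, 2],
  [0, 2, 0, 2, 0, 0, 3, 3, 3, 1, 2, 2, 2],
  [2, 0, 0, 2, 2, 0, 2, 1, 2, 1, 3, 3],
  [0, 3, 3, 3, 0, 3, 0, 3, 0, 2, 2, 1, 2, 1],
  [1, 3, 0, 3, 1, 2, 0, 3, 0, 3, 3, 0, 3, 0],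
  [3, 0, 0, 3, 3, 0, 3, 3, 3, 1, 2, 1, 3],
  [2, 2, 0, 3, 0, 3, 1, 3, 3, 0, 0, 3, 0, 0],
  [2, 1, 2, 2, 0, 3, 0, 0, 3, 3, 1, 3, 0, 3, 0],
  [2, 0, 0, 0, 2, 2, 1, 1, 2, 0, 2, 2, 0, 2, 1],
  [3, 0, 0, 3, 3, 0, 3, 1, 2, 0, 2, 0, 2, 0, 0],
  [3, 1, 3, 3, 1, 3, 3, 3, 1, 2, 1, 1, 2, 2],
  [2, 1, 1, 3, 3, 3, 0, 0, 3, 1, 2, 2, 2],
  [3, 1, 3, 3, 1, 2, 1, 2, 1, 2, 2, 0, 0, 2],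
  [3, 0, 2, 2, 2, 0, 3, 3, 3, 3, 1, 2, 1, 1, 3],
  [3, 1, 2, 2, 0, 3, 3, 3, 0, 3, 3, 0, 3, 3],
  [1, 2, 0, 2, 2, 1, 3, 1, 2, 0, 0, 2, 2, 1],
  [2, 1, 2, 2, 1, 1, 2, 0, 2, 2, 0, 2, 0],
  [2, 0, 0, 3, 3, 3, 0, 0, 3, 1, 2, 2, 2, 1, 1],
  [1, 3, 3, 0, 2, 1, 2, 1, 2, 1, 3, 3, 3],
  [0, 2, 1, 3, 0, 2, 0, 3, 1, 2, 2, 0, 2, 2],
  [3, 1, 3, 1, 3, 0, 2, 1, 2, 2, 1, 1, 2, 0, 0],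
  [3, 1, 1, 1, 3, 3, 1, 3, 0, 0, 3, 3, 0, 3],
  [2, 2, 1, 3, 3, 0, 3, 3, 1, 3, 1, 3, 3],
  [3, 0, 2, 0, 0, 0, 0, 2, 2, 2, 1, 1, 2, 2],
  [2, 1, 3, 1, 2, 2, 2, 1, 2, 2, 1, 1, 2, 0, 0],
  [3, 3, 1, 3, 3, 3, 1, 3, 0, 0, 3, 1, 2],
  [1, 3, 3, 3, 0, 3, 0, 3, 0, 2, 2, 0, 2],
  [2, 1, 1, 2, 2, 0, 2, 1, 2, 1, 3, 3, 0, 0],
  [1, 1, 1, 3, 3, 3, 0, 3, 1, 2, 0, 2, 1, 2, 0],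
  [1, 2, 0, 3, 3, 1, 1, 3, 1, 2, 2, 2, 0, 0],
  [0, 3, 3, 3, 0, 3, 1, 2, 0, 2, 1, 2, 0],
  [1, 2, 0, 3, 3, 1, 1, 3, 1, 2, 2, 2, 1, 1],
  [3, 3, 3, 0, 2, 0, 0, 2, 2, 1, 3, 1],
  [0, 3, 0, 3, 1, 3, 0, 2, 1, 2, 2, 2, 0],
  [2, 0, 3, 0, 2, 2, 2, 1, 2, 2, 0, 0, 2],
  [2, 2, 2, 2, 1, 3, 0, 2, 1, 3, 0, 2, 2, 1],
  [2, 0, 2, 0, 0, 2, 2, 2, 2, 1, 2, 1, 3, 0],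
  [3, 1, 3, 3, 0, 0, 0, 3, 0, 2, 0, 2, 2, 1],
  [2, 0, 2, 0, 0, 2, 2, 2, 2, 0, 2, 0, 3, 1],
  [3, 0, 3, 1, 3, 0, 0, 3, 3, 0, 0, 3, 3, 0, 3],
  [3, 3, 0, 3, 1, 3, 3, 1, 2, 0, 2, 1, 3, 0],
  [1, 3, 3, 1, 3, 0, 3, 1, 1, 1, 3, 3, 1, 3, 0],
  [1, 3, 3, 1, 3, 1, 2, 0, 2, 2, 0, 3, 0, 2],
  [0, 2, 2, 2, 0, 0, 2, 1, 2, 0, 2, 2, 2, 2],
  [3, 1, 2, 2, 2, 0, 3, 0, 2, 0, 2, 0, 3, 3],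
  [1, 2, 2, 2, 1, 1, 1, 2, 1, 1, 1, 2, 2, 1, 1],
  [2, 1, 3, 0, 3, 3, 3, 3, 1, 1, 3, 0, 3, 1],
  [1, 2, 2, 2, 1, 1, 1, 2, 1, 1, 1, 2, 2, 0, 0],
  [2, 1, 2, 2, 1, 1, 2, 0, 2, 2, 1, 2],
  [1, 2, 2, 0, 3, 3, 1, 2, 1, 3, 0, 3, 0, 2],
  [3, 3, 0, 0, 0, 3, 0, 0, 0, 3, 3, 3, 1],
  [3, 0, 3, 3, 1, 3, 1, 2, 1, 2, 0, 2, 1, 3, 3],
  [2, 1, 3, 0, 3, 3, 3, 3, 0, 0, 3, 3, 0],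
  [0, 2, 0, 3, 3, 1, 1, 3, 1, 2, 2, 1, 1, 2, 0],
  [3, 1, 3, 1, 3, 0, 2, 1, 2, 2, 2, 1],
  [3, 3, 3, 1, 2, 1, 2, 0, 3, 3, 3, 0, 2, 2],
  [3, 3, 1, 3, 3, 3, 1, 3, 0, 0, 3, 0, 2, 0],
  [1, 3, 3, 3, 0, 3, 3, 3, 1, 2, 1, 3],
  [2, 2, 0, 2, 0, 3, 3, 0, 2, 0, 2, 2, 0],
  [2, 1, 3, 1, 2, 2, 2, 1, 2, 2, 2, 1]]

/-- Short words for the elements of the Sylow subgroup. -/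
def shorts : List (List ℕ) := shortsPart0 ++ shortsPart1 ++ shortsPart2 ++ shortsPart3

/-- A fourth root of the central involution and an element inverting it, both fixing the element, a part. -/
def rootsPart0 : List (List ℕ × List ℕ) := [
  ([], []),
  ([], []),
  ([3, 1, 3, 0, 0, 0, 3, 0, 0, 3, 0, 2, 2, 0], [2, 2, 1, 1, 2, 0, 2, 1, 3, 0, 2, 2, 2, 1]),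
  ([1, 2, 0, 0, 3, 3, 1, 1, 2, 0, 2, 1, 1, 3], [1, 2, 1, 3, 3, 3, 0, 2, 2, 2, 2, 1, 2, 0, 2, 0]),
  ([2, 2, 2, 1, 1, 3, 3, 3, 3, 3, 3], [0, 3, 0, 3, 1, 1, 2, 0, 0, 2, 1]),
  ([1, 2, 2, 2, 1, 1, 3, 3, 3, 3, 3, 3, 0], [3, 0, 3, 1, 1, 2, 0, 0, 2]),
  ([2, 2, 1, 3, 1, 2, 2, 0, 2, 2, 1, 1], [1, 1, 3, 3, 1, 1, 2, 0, 0, 0, 2, 0, 0]),
  ([2, 2, 0, 0, 2, 2, 0, 3, 3, 3, 0, 0, 3], [3, 1, 3, 1, 3, 0, 2, 2, 2, 1, 2, 1, 3, 0, 0]),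
  ([3, 3, 1, 3, 3, 3, 1, 2, 2], [2, 0, 2, 1, 1, 2, 2, 1, 1, 1, 2]),
  ([2, 1, 1, 2, 0, 2, 2, 2, 0, 0, 0, 2, 0, 0], [0, 2, 2, 1, 1, 2, 1, 1, 2, 0, 2, 2, 0]),
  ([2, 0, 3, 1, 3, 0, 0, 2, 2, 0, 3], [2, 2, 0, 0, 3, 1, 2, 2, 0, 0, 3, 0, 0, 0]),
  ([2, 0, 0, 3, 3, 0, 2, 1, 1, 3, 3, 0], [1, 2, 0, 3, 3, 1, 1, 2, 1, 2, 1, 3, 0]),
  ([2, 2, 1, 3, 0, 3, 0, 3, 1, 3, 1, 3, 1], [2, 0, 3, 3, 1, 1, 2, 1, 2, 1, 3]),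
  ([3, 1, 3, 1, 3, 0, 3, 1, 1, 3, 1, 3], [0, 0, 2, 1, 3, 3, 1, 1, 2, 1, 2, 0, 3, 1, 1]),
  ([2, 1, 2, 2, 2, 0, 2, 0, 2, 1, 3, 0], [3, 3, 1, 3, 0, 0, 3, 0, 0, 3, 3, 1, 1]),
  ([3, 3, 3, 3, 3, 3, 1, 1, 2, 2, 2], [2, 0, 3, 3, 0, 0, 2, 1, 2, 0, 3, 0, 0]),
  ([3, 0, 0, 0, 2, 1, 3, 3, 3, 0, 3, 3, 0], [0, 3, 0, 3, 3, 3, 3, 1, 1, 3, 0]),
  ([3, 0, 3, 3, 0, 2, 1, 3, 3, 3, 1, 2, 2, 0], [2, 2, 1, 1, 3, 0, 2, 2, 0, 3, 0, 3, 3, 1, 2, 2]),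
  ([0, 3, 3, 3, 3, 1, 2, 0, 2, 2, 1, 1], [3, 0, 2, 1, 2, 2, 2, 0, 2, 0, 3, 3, 3, 1]),
  ([0, 2, 2, 2, 0, 3, 0, 3, 1, 3, 0, 0, 3], [0, 2, 2, 2, 1, 3, 1, 2, 2, 0, 2, 2, 1, 3, 0]),
  ([2, 0, 0, 3, 3, 1, 3, 0, 0, 0, 0, 2], [3, 0, 2, 2, 0, 0, 3, 0, 3, 3, 3, 1, 3, 1]),
  ([2, 0, 2, 2, 1, 3, 3, 1, 2, 2, 2, 1, 3, 0], [2, 0, 3, 1, 2, 0, 0, 2, 2, 1, 2, 1, 3, 3, 0]),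
  ([2, 2, 2, 2, 1, 1, 2, 2, 2, 2, 1, 1, 3], [0, 2, 1, 3, 3, 0, 0, 2, 0, 2, 0, 3, 1]),
  ([2, 2, 1, 2, 0, 2, 0, 2, 1, 1, 1], [2, 2, 2, 0, 3, 0, 3, 1, 2, 0, 0, 0, 0, 2, 0]),
  ([1, 2, 0, 0, 0, 3, 0, 2, 0, 0, 3, 3, 0], [3, 3, 0, 3, 0, 3, 3, 0, 2, 1, 3, 0, 2, 1, 1, 1]),
  ([3, 0, 3, 3, 3, 1, 3, 3, 3, 0, 0, 0, 0, 3, 0], [2, 0, 0, 0, 2, 1, 3, 3, 0, 0, 3, 3, 0, 2]),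
  ([0, 2, 2, 1, 1, 3, 0, 2, 1, 3, 0], [3, 0, 0, 0, 0, 2]),
  ([0, 2, 1, 2, 0, 0, 3, 1, 2, 0, 3, 0], [3, 3, 0, 3, 0, 3, 3, 0, 2, 1, 3, 0, 2, 0]),
  ([2, 0, 0, 3, 3, 1, 2, 1, 1, 3, 1, 1, 3, 1], [3, 3, 0, 3, 0, 3, 3, 0, 2, 1, 3, 0, 2, 0]),
  ([2, 0, 0, 3, 3, 1, 2, 1, 1, 3, 1, 1, 3, 1], [3, 1, 2, 1, 1, 3, 1, 3, 3, 0, 0, 2, 0, 2, 0]),
  ([0, 2, 0, 3, 0, 2, 1, 1, 3, 3, 3, 0, 0, 2], [3, 0, 0, 2, 0, 0, 2, 0, 2, 1, 1, 3, 0, 0]),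
  ([1, 2, 1, 2, 1, 1, 3, 1, 2, 2, 1, 1, 3], [3, 0, 0, 0, 0, 2]),
  ([3, 3, 0, 3, 3, 3, 1, 3, 3, 3, 3, 0, 2, 1], [2, 2, 2, 1, 2, 0, 0, 0, 0, 3, 0, 3, 3, 3]),
  ([3, 3, 3, 3, 3, 0, 3, 3, 3, 3, 0, 3, 1, 3], [3, 3, 1, 3, 3, 3, 0, 2, 2, 0, 2, 0, 2]),
  ([3, 3, 1, 1, 3, 1, 2, 1, 2, 1, 2, 2, 2, 1], [0, 3, 0, 3, 1, 1, 2, 2, 2, 1, 1, 3, 0, 2, 0]),
  ([3, 0, 3, 1, 3, 3, 3, 1, 1, 1, 2, 2, 0, 0], [1, 2, 0, 3, 0, 3, 3, 0, 3, 1, 3, 3, 0, 2, 0]),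
  ([2, 2, 1, 1, 2, 2, 2, 1, 1, 2, 2], [2, 2, 2, 2, 1, 1, 3, 3, 1, 2, 2, 2, 2, 1, 2, 1]),
  ([3, 0, 0, 0, 3, 0, 0, 0, 3, 1, 3, 3, 0, 0], [2, 0, 0, 0, 2, 0, 2, 0, 2, 2, 0, 2, 2]),
  ([3, 1, 2, 2, 1, 2, 0, 3, 3, 0, 0, 2, 1], [3, 3, 3, 0, 0, 3, 1, 3, 3, 0, 3, 0, 2, 2]),
  ([2, 2, 0, 0, 3, 3, 0, 0, 0, 2, 2, 0, 0], [3, 3, 1, 1, 3, 3, 0, 0, 2, 0, 2, 2, 0]),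
  ([2, 0, 0, 3, 3, 0, 3, 1, 1, 2, 2, 1, 3, 1], [2, 2, 1, 3, 1, 3, 3, 0, 0, 0, 2, 2, 0, 3, 0, 3]),
  ([0, 3, 1, 2, 0, 2, 2, 2, 2, 2, 1, 3, 1, 2], [3, 1, 2, 1, 1, 3, 0, 3, 3, 0, 0, 2, 0, 2]),
  ([0, 3, 3, 0, 3, 1, 2, 2, 0, 3, 3, 1, 2, 2], [3, 3, 0, 0, 2, 0, 0, 2, 2, 0, 2, 2, 0, 0]),
  ([0, 3, 1, 2, 1, 3, 3, 0, 3, 1, 2, 2, 0, 2], [3, 1, 3, 0, 2, 2, 0, 0, 0, 0, 2, 0, 0, 0, 0]),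
  ([1, 2, 2, 2, 1, 3, 1, 2, 2, 0, 2, 0], [2, 1, 2, 0, 0, 3, 3, 0, 0, 2, 2, 0, 3]),
  ([1, 1, 3, 1, 3, 3, 3, 1, 3, 1, 2, 2, 2, 0], [3, 1, 3, 0, 3, 0, 0, 3, 0, 0, 3, 3, 0, 0, 0]),
  ([3, 1, 3, 0, 0, 2, 0, 2, 1, 1, 2, 2, 2], [0, 2, 1, 3, 3, 3, 0, 3, 1, 3, 3, 0, 2, 0]),
  ([0, 2, 1, 3, 3, 1, 1, 2, 1, 2, 2, 1, 1, 3], [3, 0, 0, 2, 0]),
  ([2, 1, 3, 1, 3, 0, 0, 2, 2, 0, 3, 0, 0], [2, 0, 0, 3, 3, 1, 1, 2, 1, 2, 1, 1, 3]),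
  ([1, 2, 1, 2, 0, 0, 3, 1, 2, 0, 3, 0], [1, 3, 3, 3, 0, 2, 1, 1, 2, 2, 0, 0]),
  ([2, 0, 0, 3, 1, 2, 2, 2, 1, 1, 2, 0, 0, 0, 0], [0, 0, 0, 3, 0, 3, 3, 3, 0, 3, 0, 0, 0, 0]),
  ([0, 2, 2, 1, 1, 3, 0, 2, 1, 3, 1], [3, 3, 0, 0, 3, 1, 2, 2, 2, 1]),
  ([2, 0, 0, 3, 3, 1, 3, 3, 3, 1, 2, 0, 2], [2, 2, 1, 3, 3, 0, 2, 1, 2, 0, 0, 3, 3, 0, 0]),
  ([3, 3, 1, 3, 1, 2, 2, 1, 2, 2, 1, 2, 1, 2], [2, 2, 1, 2, 1, 2, 2, 1, 3, 1, 2, 0, 3, 1]),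
  ([2, 1, 2, 0, 3, 0, 2, 0, 2, 2, 1, 2, 0, 0], [2, 0, 2, 2, 1, 2, 0, 0, 3, 3, 1, 1, 1, 3]),
  ([2, 0, 2, 2, 1, 3, 0, 2, 0, 0, 0, 2, 1, 3], [1, 2, 0, 3, 0, 3, 3, 0, 3, 1, 3, 3, 0, 2, 0]),
  ([0, 2, 2, 2, 2, 1, 3, 1, 2, 2, 1, 1, 1, 2, 2], [3, 0, 0, 2, 1, 2, 0, 0, 3, 1, 3, 1]),
  ([2, 1, 1, 3, 3, 0, 2, 0, 0, 3, 3, 1, 1, 1], [0, 2, 1, 2, 0, 0, 0, 0, 3, 0, 3, 1]),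
  ([3, 1, 2, 2, 0, 2, 1, 3, 1, 2, 0, 2, 1, 3, 0], [1, 2, 1, 2, 0, 0, 3, 3, 1, 1, 2, 0]),
  ([0, 2, 2, 0, 0, 3, 0, 2, 1, 3, 3, 0, 0, 2], [3, 1, 3, 0, 0, 3, 0, 2, 2, 0, 0, 0, 0]),
  ([1, 3, 0, 3, 0, 3, 3, 3, 3, 3, 3, 3], [2, 2, 2, 2, 1, 1, 3, 3, 1, 2, 2, 2, 2, 1, 2, 0]),
  ([3, 0, 3, 3, 0, 2, 1, 2, 2, 2, 1, 1, 2, 0], [0, 3, 0, 3, 1, 1, 2, 2, 2, 1, 1, 3, 0, 2, 1]),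
  ([0, 0, 3, 3, 0, 3, 0, 3, 0, 0, 3, 3, 3, 3], [3, 0, 0, 3, 3, 0, 2, 0, 2, 1, 2, 1, 3, 0, 2]),
  ([1, 1, 1, 3, 0, 3, 0, 2, 2, 2, 0, 0], [2, 2, 0, 3, 0, 0, 3, 3, 0, 2, 2, 2, 2, 1, 2, 0]),
  ([], []),
  ([], []),
  ([], []),
  ([], []),
  ([], []),
  ([], []),
  ([], []),
  ([], []),
  ([], []),
  ([], []),
  ([], []),
  ([], []),
  ([], []),
  ([], []),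
  ([], []),
  ([], []),
  ([], []),
  ([], []),
  ([], []),
  ([], []),
  ([], []),
  ([], []),
  ([], []),
  ([], []),
  ([], []),
  ([], []),
  ([], []),
  ([], []),
  ([], []),
  ([], []),
  ([], []),
  ([], []),
  ([0, 2, 1, 3, 0, 2, 0, 0, 2, 0, 2, 0, 2, 0], [2, 1, 1, 2, 0, 2, 1, 3, 0, 2, 2, 2, 1, 2]),
  ([1, 2, 0, 0, 0, 2, 0, 2, 1, 2, 0, 2, 0], [2, 1, 3, 3, 3, 3, 3, 1, 2, 2, 0, 3, 3, 1, 1]),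
  ([2, 0, 2, 2, 2, 0, 3, 3, 3, 1, 1, 2, 2], [3, 0, 2, 1, 2, 2, 2, 0, 2, 0, 3, 3, 3, 1]),
  ([2, 0, 0, 3, 1, 3, 1, 3, 1, 3, 0, 3, 0], [0, 2, 2, 1, 3, 3, 0, 2, 2, 2, 2, 2, 0, 3, 0]),
  ([3, 3, 1, 3, 1, 3, 0, 3, 1, 1, 3, 1], [1, 1, 1, 3, 3, 1, 1, 2, 1, 2, 0, 0, 0]),
  ([2, 1, 3, 0, 3, 0, 3, 1, 3, 1, 3, 1, 2], [0, 3, 3, 1, 1, 2, 1, 2, 1]),
  ([2, 1, 1, 2, 0, 2, 1, 3, 0, 2, 2, 2, 0], [3, 3, 1, 1, 2, 1, 2]),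
  ([1, 3, 3, 1, 3, 1, 3, 0, 3, 1, 1, 3], [2, 2, 2, 2, 2, 2, 2, 2, 1, 1, 2, 1, 2]),
  ([1, 2, 0, 3, 0, 3, 3, 1, 2, 2, 0, 0, 2], [3, 3, 0, 3, 0, 3, 3, 0, 2, 1, 3, 0, 2, 0]),
  ([3, 1, 1, 3, 3, 0, 2, 2, 1, 2, 1, 3, 0], [3, 1, 3, 0, 0, 2, 2, 1, 3, 3, 1, 1, 2, 0, 2, 0]),
  ([0, 3, 3, 3, 0, 2, 2, 0, 2, 1, 1, 1, 3, 0], [3, 1, 3, 0, 0, 2, 2, 1, 3, 3, 1, 1, 2, 0, 2, 0]),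
  ([0, 3, 0, 3, 1, 3, 0, 0, 2, 2, 0, 2, 0, 0, 0], [0, 3, 0, 3, 1, 2, 0, 0, 3, 1, 3, 0, 2, 0]),
  ([0, 3, 1, 1, 3, 3, 0, 2, 2, 1, 2, 1, 3], [3, 1, 2, 1, 1, 3, 1, 3, 3, 0, 0, 2, 0, 2, 0]),
  ([2, 0, 3, 0, 3, 3, 1, 2, 2, 0, 0, 2, 1], [3, 1, 2, 0, 3, 1, 2, 2, 1, 2, 1, 2, 2, 1]),
  ([3, 0, 0, 0, 3, 3, 1, 1, 2, 0, 0, 0, 2, 2], [3, 0, 3, 1, 2, 0, 0, 3, 1, 3, 0, 2, 0, 0]),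
  ([3, 3, 3, 0, 2, 2, 1, 2, 0, 0, 0, 3], [3, 0, 3, 1, 1, 2, 2, 2, 1, 1, 3, 1, 2, 1]),
  ([2, 2, 0, 2, 1, 2, 1, 3, 3, 0, 0, 0, 2], [3, 1, 2, 0, 3, 3, 1, 3, 1, 3, 1, 3, 1, 2, 1]),
  ([3, 1, 2, 1, 2, 2, 2, 1, 2, 0, 3, 1, 2, 1], [0, 2, 1, 2, 2, 1, 3, 1, 3, 1, 2, 1, 3, 0, 0]),
  ([2, 1, 1, 3, 3, 3, 1, 2, 2, 2, 1, 1, 2], [2, 2, 0, 3, 0, 3, 0, 2, 1, 2, 0, 3, 1, 2, 0]),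
  ([2, 1, 1, 3, 1, 2, 2, 2, 1, 2, 0, 0, 2, 0], [2, 1, 3, 3, 0, 0, 2, 0, 2, 0, 3]),
  ([0, 3, 3, 1, 2, 1, 3, 0, 3, 1, 2, 2, 1, 2, 0], [2, 2, 2, 1, 3, 1, 2, 2, 0, 2, 2, 1, 3, 1, 1]),
  ([2, 1, 2, 2, 0, 3, 3, 3, 0, 0, 0, 2, 2, 0], [2, 0, 2, 0, 0, 2, 2, 2, 1, 1, 3, 3, 3, 1, 2]),
  ([1, 3, 3, 0, 2, 0, 3, 3, 0, 3, 0, 3, 0, 0], [2, 2, 2, 1, 3, 1, 2, 2, 0, 2, 2, 1, 3, 0, 0]),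
  ([3, 3, 3, 3, 1, 2, 0, 2, 2, 1], [2, 2, 2, 1, 3, 1, 3, 3, 3, 0, 3, 1, 2, 0]),
  ([2, 2, 1, 1, 3, 0, 2, 1, 3, 0, 0], [1, 3, 0, 0, 0, 0, 2, 0]),
  ([3, 3, 1, 3, 1, 3, 0, 0, 2, 1, 2, 2, 0, 0, 0], [3, 3, 0, 3, 0, 0, 3, 3, 0, 0, 2, 2, 0, 0]),
  ([3, 0, 0, 3, 3, 1, 2, 0, 2, 1], [2, 2, 1, 2, 2, 1, 3, 1, 2, 2, 0]),
  ([0, 0, 2, 1, 2, 0, 0, 3, 1, 2, 0, 3], [3, 1, 2, 0, 3, 1, 2, 2, 1, 2, 1, 2, 2, 1]),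
  ([1, 2, 0, 2, 0, 0, 2, 2, 1, 2, 2, 0, 0, 2], [3, 0, 2, 0, 0, 3, 3, 3, 0, 0, 2, 1, 2, 0]),
  ([2, 0, 3, 0, 2, 1, 1, 3, 3, 3, 0, 0, 2, 0], [2, 2, 0, 2, 0, 2, 2, 2, 0, 3, 3, 1, 2]),
  ([0, 2, 0, 0, 3, 3, 0, 2, 0, 0, 3, 0, 3], [3, 1, 2, 0, 3, 1, 2, 2, 1, 2, 1, 2, 2, 0, 0, 0]),
  ([2, 1, 3, 1, 2, 1, 1, 3, 3, 3, 0, 0, 2, 1], [3, 1, 1, 2, 0, 2, 0, 2, 1, 1, 3, 0]),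
  ([], []),
  ([], []),
  ([], []),
  ([], []),
  ([], []),
  ([], []),
  ([], []),
  ([], []),
  ([], []),
  ([], []),
  ([], []),
  ([], []),
  ([], []),
  ([], []),
  ([], []),
  ([], []),
  ([0, 3, 1, 3, 0, 2, 2, 2, 2, 1, 3, 1, 1, 1], [2, 2, 2, 0, 2, 0, 3, 1, 1, 3, 0, 2]),
  ([1, 1, 2, 1, 1, 2, 0, 0, 2, 2, 1, 2, 1], [2, 0, 0, 3, 1, 3, 1, 2, 2, 2, 2, 2]),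
  ([3, 0, 0, 2, 2, 2, 2, 2, 1, 2, 2, 0, 0], [3, 0, 0, 0, 3, 0, 3, 0, 2, 0, 2, 0, 2, 0]),
  ([2, 1, 1, 2, 0, 0, 2, 2, 1, 2, 1, 1, 1], [3, 3, 1, 2, 0, 2, 2, 1, 2, 1, 3, 3, 1]),
  ([3, 0, 2, 2, 1, 3, 1, 3, 1, 3, 3, 0, 0], [3, 1, 2, 2, 0, 0, 3, 0, 2, 1, 1, 2, 0, 0]),
  ([3, 1, 2, 2, 2, 0, 2, 0, 2, 0, 3, 1, 1], [0, 2, 2, 0, 0, 3, 3, 0, 3, 0, 0, 3, 3, 0]),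
  ([1, 1, 1, 3, 1, 3, 0, 0, 2, 2, 0, 0], [1, 2, 2, 1, 3, 1, 3, 3, 1, 2, 2, 2, 0, 3, 0]),
  ([1, 1, 3, 1, 2, 2, 2, 0, 2, 0, 2, 0, 3], [1, 2, 1, 2, 2, 2, 1, 2, 2, 1, 2, 0, 0, 2, 0]),
  ([1, 3, 0, 2, 0, 2, 2, 1, 3, 3, 1, 2, 2, 2], [2, 1, 2, 0, 3, 3, 0, 3, 0, 3, 1, 3, 1, 3, 0]),
  ([1, 3, 1, 1, 3, 1, 3, 0, 0, 2, 2, 2, 0], [2, 1, 3, 3, 0, 0, 0, 0, 2, 2, 0, 0, 2, 0, 0]),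
  ([1, 3, 0, 0, 2, 2, 0, 0, 3, 1, 2, 1], [3, 0, 3, 3, 0, 0, 3, 1, 2, 2, 2, 1, 1, 2]),
  ([0, 3, 1, 1, 3, 1, 3, 0, 0, 2, 2, 2, 1], [2, 1, 3, 1, 2, 0, 3, 0, 3, 0, 3, 1, 3, 0]),
  ([2, 1, 1, 3, 1, 2, 0, 2, 0, 0, 3, 0, 2, 0], [3, 3, 1, 1, 2, 0, 2, 0, 2, 1, 1, 3, 0, 2]),
  ([3, 0, 2, 0, 0, 3, 3, 0, 2, 0, 0, 3, 0], [2, 2, 0, 2, 0, 3, 0, 2, 1, 1, 2, 0, 3, 0, 0]),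
  ([0, 2, 0, 0, 3, 0, 2, 2, 1, 1, 3, 1, 2, 0], [2, 0, 2, 0, 2, 2, 2, 0, 3, 3, 1, 2, 2]),
  ([2, 0, 0, 2, 0, 2, 1, 3, 0, 2, 2, 2, 0, 0], [1, 1, 3, 3, 0, 0, 0, 0, 2, 2, 0, 0]),
  ([], []),
  ([], []),
  ([], []),
  ([], []),
  ([], []),
  ([], []),
  ([], []),
  ([], []),
  ([], []),
  ([], []),
  ([], []),
  ([], []),
  ([], []),
  ([], []),
  ([], []),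
  ([], []),
  ([2, 2, 2, 0, 3, 3, 0, 2, 0, 0, 0, 0, 2, 2], [2, 1, 3, 0, 2, 0, 3, 3, 0, 3, 0, 3, 3, 0]),
  ([0, 3, 0, 3, 3, 3, 1, 3, 3, 3, 1, 3, 0, 0], [3, 1, 2, 1, 1, 2, 2, 0, 0, 0, 3, 0, 3, 3, 0]),
  ([2, 0, 3, 1, 2, 0, 2, 0, 3, 0, 3, 3, 0, 2, 0], [3, 0, 3, 1, 2, 1, 1, 2, 2, 2, 1, 2, 1, 1, 1]),
  ([3, 3, 1, 2, 2, 1, 1, 3, 3, 3, 0, 3, 0, 0], [2, 2, 0, 2, 0, 0, 3, 0, 2, 1, 3, 1, 3, 1, 1]),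
  ([0, 0, 2, 2, 1, 1, 3, 0, 2, 1, 3, 1, 1], [0, 3, 3, 0, 0, 3, 1, 2, 2, 2, 1, 1]),
  ([2, 2, 1, 3, 1, 3, 1, 3, 0, 2, 1, 1, 2, 0, 0], [2, 2, 0, 2, 1, 2, 1, 3, 3, 3, 3, 0, 0, 3, 0, 0]),
  ([1, 1, 2, 2, 2, 2, 2, 0, 2, 0, 0, 0, 0, 3, 0], [2, 0, 2, 2, 2, 2, 1, 3, 0, 3, 0, 2, 1, 2]),
  ([0, 2, 1, 3, 1, 3, 0, 0, 2, 2, 0, 3, 0], [1, 2, 0, 0, 3, 3, 1, 1, 2, 1, 2, 1, 1, 3, 0]),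
  ([1, 2, 0, 3, 0, 2, 2, 2, 2, 2, 0, 2, 1, 3, 3], [3, 0, 0, 2, 2, 1, 1, 3, 1, 3, 0, 0]),
  ([2, 2, 0, 0, 3, 0, 2, 1, 3, 3, 0, 0, 2, 0], [2, 2, 0, 0, 0, 0, 3, 0, 0, 0, 0, 3]),
  ([3, 1, 1, 3, 3, 0, 3, 3, 1, 1, 3, 1, 3, 1], [2, 2, 1, 2, 0, 2, 1, 2, 0, 2, 0, 3, 0]),
  ([2, 1, 3, 0, 2, 1, 1, 3, 3, 3, 0, 0, 2, 1], [2, 2, 0, 2, 0, 2, 2, 2, 0, 3, 3, 1, 2]),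
  ([2, 0, 2, 2, 1, 1, 2, 1, 2, 0, 2, 0, 0, 0], [3, 3, 0, 0, 2, 1, 2, 0, 2, 0, 0, 3, 0, 2, 0, 0]),
  ([0, 3, 3, 0, 3, 0, 3, 0, 0, 3, 3, 3, 3, 0], [2, 2, 0, 2, 2, 2, 1, 3, 3, 0, 2, 1, 2, 1]),
  ([1, 1, 3, 0, 3, 0, 2, 2, 2, 0], [2, 2, 0, 3, 0, 0, 3, 3, 0, 2, 2, 2, 2, 1, 2, 1]),
  ([0, 3, 1, 2, 2, 1, 2, 0, 2, 2, 2, 2, 0], [2, 2, 0, 3, 1, 3, 3, 3, 0, 3, 3, 0, 3, 1, 2, 2, 0]),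
  ([2, 0, 3, 0, 3, 1, 1, 2, 2, 2, 1, 1, 3, 0], [2, 2, 2, 1, 3, 1, 2, 2, 0, 2, 2, 1, 3]),
  ([0, 3, 0, 3, 1, 3, 3, 3, 1, 1, 1, 2, 2, 0], [2, 0, 3, 0, 3, 3, 0, 3, 1, 3, 3, 0, 2]),
  ([2, 2, 0, 3, 1, 2, 0, 0, 3, 1, 1, 3, 3], [3, 3, 3, 1, 3, 3, 0, 3, 3, 3, 3, 0, 3, 0, 0, 0]),
  ([3, 3, 1, 3, 0, 2, 2, 0, 0, 2, 0, 0, 0, 2, 0], [2, 1, 1, 2, 1, 2, 0, 0, 2, 2, 2, 1, 1, 2]),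
  ([2, 2, 0, 2, 2, 2, 0, 3, 3, 3, 1, 1, 2], [1, 3, 3, 3, 3, 1, 1, 3, 0, 0, 3, 0, 0]),
  ([1, 3, 1, 2, 2, 1, 2, 0, 3, 3, 0, 0, 2], [3, 3, 3, 3, 0, 0, 2, 0, 2, 2, 0, 3, 1, 1, 1]),
  ([0, 3, 0, 0, 0, 3, 0, 0, 0, 3, 1, 3, 3, 0], [0, 2, 0, 2, 1, 3, 3, 1, 1, 1, 2, 2, 2, 2, 0]),
  ([0, 2, 2, 1, 1, 2, 2, 2, 1, 1, 2, 2, 1], [2, 2, 2, 1, 2, 0, 0, 3, 1, 2, 2, 2, 1, 2, 1, 3, 0]),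
  ([1, 3, 1, 3, 3, 3, 1, 3, 1, 2, 2, 2], [1, 3, 1, 2, 0, 2, 1, 3, 3, 0, 3, 0, 0, 0]),
  ([1, 1, 2, 2, 2, 1, 3, 1, 2, 2, 0, 2, 0, 0], [2, 1, 2, 0, 0, 0, 0, 3, 3, 1, 3, 0, 0, 2]),
  ([2, 1, 3, 3, 1, 1, 2, 1, 2, 2, 1, 1, 3, 0], [3, 1, 1, 2, 1]),
  ([3, 1, 2, 2, 0, 2, 2, 2, 1, 2, 0, 3, 0], [3, 3, 1, 2, 1, 3, 3, 3, 1, 2, 0, 3, 1, 2, 0]),
  ([3, 1, 2, 0, 2, 2, 2, 2, 2, 1, 3, 1, 2, 0], [3, 0, 3, 1, 1, 2, 2, 2, 1, 1, 3, 0, 2, 1, 1]),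
  ([2, 1, 2, 0, 3, 1, 3, 1, 2, 0, 3, 3, 1, 3, 1], [3, 1, 1, 3, 3, 1, 2, 1, 2, 0, 0, 0, 0]),
  ([2, 0, 0, 2, 1, 3, 1, 2, 0, 0, 3, 3, 3], [2, 1, 1, 2, 2, 1, 1, 2, 0, 3, 0, 2, 2, 0]),
  ([1, 2, 0, 0, 3, 0, 3, 1, 2, 1, 1, 3, 3], [3, 0, 3, 1, 1, 2, 2, 2, 1, 1, 3, 0, 2, 1, 1]),
  ([], []),
  ([], []),
  ([], []),
  ([], []),
  ([], []),
  ([], []),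
  ([], []),
  ([], []),
  ([], []),
  ([], []),
  ([], []),
  ([], []),
  ([], []),
  ([], []),
  ([], []),
  ([], []),
  ([], []),
  ([], []),
  ([], []),
  ([], []),
  ([], []),
  ([], []),
  ([], []),
  ([], []),
  ([], []),
  ([], []),
  ([], []),
  ([], []),
  ([], []),
  ([], []),
  ([], []),
  ([], []),
  ([1, 3, 1, 2, 2, 2, 0, 2, 0, 2, 0, 3, 1], [2, 1, 2, 2, 2, 1, 2, 2, 1, 2, 0, 0, 2]),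
  ([1, 3, 3, 1, 1, 2, 0, 2, 0, 0], [2, 2, 1, 3, 1, 3, 3, 1, 2, 2, 2, 0, 3]),
  ([1, 3, 0, 2, 0, 0, 2, 1, 1, 2, 2, 2, 2, 1, 2], [2, 2, 0, 2, 1, 2, 2, 1, 2, 1, 3, 3, 1]),
  ([0, 3, 0, 2, 2, 1, 3, 1, 3, 1, 3, 3, 0], [2, 0, 2, 2, 1, 2, 0, 3, 0, 3, 0, 0, 0, 0]),
  ([1, 3, 1, 3, 1, 2, 2, 1, 3, 0, 3, 0, 3], [2, 2, 0, 2, 2, 0, 0, 2, 1, 3, 1, 3, 0, 0, 0]),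
  ([3, 1, 1, 2, 1, 2, 2, 2, 2, 1, 2, 2, 0], [3, 1, 3, 1, 3, 1, 2, 1, 2, 1, 1, 1, 2, 1]),
  ([3, 3, 3, 3, 0, 0, 3, 3, 0, 3, 1, 3], [2, 2, 0, 3, 0, 3, 3, 1, 3, 0, 2, 2, 0]),
  ([1, 3, 0, 0, 2, 2, 2, 2, 2, 1, 2, 2, 0, 0, 0], [0, 2, 2, 2, 2, 2, 0, 2, 1, 2, 1, 1, 3, 0]),
  ([1, 1, 3, 3, 3, 1, 2, 2, 2, 1, 1, 2, 2], [2, 2, 0, 3, 3, 3, 0, 2, 0, 2, 2, 0, 0, 3, 0]),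
  ([3, 1, 1, 3, 1, 3, 0, 0, 2, 2, 2], [2, 1, 2, 0, 0, 0, 0, 3, 1, 1, 3, 0, 2, 0]),
  ([2, 2, 0, 0, 2, 2, 2, 0, 0, 2, 0, 0, 2, 2, 0], [2, 1, 2, 0, 2, 1, 3, 1, 1, 1, 3, 0, 3]),
  ([2, 0, 0, 3, 0, 3, 3, 0, 3, 3, 3, 0, 2, 0], [2, 0, 2, 0, 3, 1, 2, 0, 3, 1, 3, 1, 3, 0]),
  ([2, 1, 1, 3, 1, 2, 2, 1, 1, 3, 1, 2, 1], [0, 3, 1, 3, 0, 0, 0, 0, 2, 0, 2, 1]),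
  ([1, 1, 3, 0, 2, 0, 0, 3, 3, 1, 2, 1, 1, 3], [2, 2, 1, 2, 2, 0, 0, 0, 0, 3, 3, 0, 3, 3]),
  ([1, 3, 3, 1, 3, 1, 3, 0, 3, 0, 0, 3, 1], [3, 3, 1, 1, 2, 0, 2, 0, 2, 1, 1, 3, 0, 2]),
  ([1, 3, 3, 1, 1, 2, 0, 2, 1, 3, 1, 2, 1, 1, 3], [0, 2, 0, 0, 3, 3, 1, 1, 2, 2, 1, 1])]

/-- A fourth root of the central involution and an element inverting it, both fixing the element, a part. -/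
def rootsPart1 : List (List ℕ × List ℕ) := [
  ([], []),
  ([], []),
  ([], []),
  ([], []),
  ([], []),
  ([], []),
  ([], []),
  ([], []),
  ([], []),
  ([], []),
  ([], []),
  ([], []),
  ([], []),
  ([], []),
  ([], []),
  ([], []),
  ([], []),
  ([], []),
  ([], []),
  ([], []),
  ([], []),
  ([], []),
  ([], []),
  ([], []),
  ([], []),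
  ([], []),
  ([], []),
  ([], []),
  ([], []),
  ([], []),
  ([], []),
  ([], []),
  ([], []),
  ([], []),
  ([], []),
  ([], []),
  ([], []),
  ([], []),
  ([], []),
  ([], []),
  ([], []),
  ([], []),
  ([], []),
  ([], []),
  ([], []),
  ([], []),
  ([], []),
  ([], []),
  ([], []),
  ([], []),
  ([], []),
  ([], []),
  ([], []),
  ([], []),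
  ([], []),
  ([], []),
  ([], []),
  ([], []),
  ([], []),
  ([], []),
  ([], []),
  ([], []),
  ([], []),
  ([], []),
  ([], []),
  ([], []),
  ([], []),
  ([], []),
  ([], []),
  ([], []),
  ([], []),
  ([], []),
  ([], []),
  ([], []),
  ([], []),
  ([], []),
  ([], []),
  ([], []),
  ([], []),
  ([], []),
  ([], []),
  ([], []),
  ([], []),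
  ([], []),
  ([], []),
  ([], []),
  ([], []),
  ([], []),
  ([], []),
  ([], []),
  ([], []),
  ([], []),
  ([], []),
  ([], []),
  ([], []),
  ([], []),
  ([], []),
  ([], []),
  ([], []),
  ([], []),
  ([], []),
  ([], []),
  ([], []),
  ([], []),
  ([], []),
  ([], []),
  ([], []),
  ([], []),
  ([], []),
  ([], []),
  ([], []),
  ([], []),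
  ([], []),
  ([], []),
  ([], []),
  ([], []),
  ([], []),
  ([], []),
  ([], []),
  ([], []),
  ([], []),
  ([], []),
  ([], []),
  ([], []),
  ([], []),
  ([], []),
  ([], []),
  ([], []),
  ([], []),
  ([], []),
  ([], []),
  ([], []),
  ([], []),
  ([], []),
  ([], []),
  ([], []),
  ([3, 1, 3, 1, 2, 0, 3, 3, 0, 3, 1, 1, 1, 3], [3, 3, 1, 2, 1, 3, 0, 2, 2, 0, 2, 2, 1, 2]),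
  ([2, 2, 1, 3, 1, 1, 1, 3, 0, 2, 2, 0, 3], [2, 1, 2, 2, 1, 1, 1, 2, 1, 2, 0, 2, 1, 3, 3, 1]),
  ([3, 3, 3, 3, 0, 2, 2, 2, 1, 1, 3, 0], [2, 2, 2, 1, 3, 3, 0, 0, 3, 1]),
  ([1, 3, 1, 3, 0, 2, 1, 1, 3, 0, 2, 0], [2, 1, 3, 0, 2, 2, 2, 0, 0, 0, 3, 3, 0, 2, 1]),
  ([3, 0, 0, 3, 1, 3, 1, 3, 0, 3, 3, 1, 2, 0], [0, 0, 0, 3, 3, 1, 1, 2, 1, 2, 1, 1, 1]),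
  ([2, 2, 1, 1, 3, 0, 3, 0, 3, 0, 0, 3, 3, 0], [2, 0, 2, 2, 0, 0, 3, 0, 0, 3, 3, 3, 1, 3, 1]),
  ([0, 2, 1, 1, 2, 0, 2, 0, 3, 1, 3, 0, 3, 0, 0], [3, 3, 1, 2, 2, 2, 0, 3, 3, 3, 3, 1, 2]),
  ([0, 0, 2, 0, 0, 2, 1, 3, 1, 3, 3, 3, 3], [2, 1, 1, 2, 2, 2, 2, 1, 1, 1, 2, 1, 1, 1]),
  ([], []),
  ([], []),
  ([], []),
  ([], []),
  ([], []),
  ([], []),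
  ([], []),
  ([], []),
  ([1, 3, 3, 1, 1, 2, 0, 0, 0, 2, 1], [0, 0, 3, 3, 1, 1, 2, 1, 2, 1, 1]),
  ([1, 2, 0, 0, 0, 2, 0, 2, 1, 2, 0, 0, 2], [2, 0, 3, 3, 3, 3, 1, 1, 1, 2, 1, 2, 1, 2]),
  ([3, 3, 3, 3, 3, 0, 0, 3, 3, 0, 3, 1], [2, 0, 3, 0, 3, 3, 1, 3, 0, 2, 2, 0, 2]),
  ([2, 1, 1, 3, 0, 3, 3, 3, 0, 0, 3, 3, 3], [3, 0, 2, 0, 2, 0, 2, 0, 2, 2, 1, 3, 0, 2, 0]),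
  ([2, 2, 2, 1, 2, 2, 1, 1, 1, 2, 1], [2, 1, 3, 3, 3, 0, 2, 2, 2, 2, 1, 2, 0, 2, 0, 0]),
  ([3, 0, 0, 3, 3, 0, 3, 0, 3, 0, 0, 3, 3, 3], [2, 1, 2, 2, 1, 1, 2, 0, 2, 2, 1, 1, 1, 2, 1]),
  ([2, 2, 0, 2, 0, 2, 0, 2, 1, 2, 1, 3, 3, 1, 1], [2, 2, 1, 2, 0, 2, 2, 0, 3, 3, 3, 3, 1, 2, 0]),
  ([0, 0, 0, 0, 2, 1, 2, 2, 0, 2, 0, 0, 0], [0, 3, 3, 0, 2, 0, 2, 1, 1, 1, 2, 0, 0, 0]),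
  ([], []),
  ([], []),
  ([], []),
  ([], []),
  ([], []),
  ([], []),
  ([], []),
  ([], []),
  ([], []),
  ([], []),
  ([], []),
  ([], []),
  ([], []),
  ([], []),
  ([], []),
  ([], []),
  ([], []),
  ([], []),
  ([], []),
  ([], []),
  ([], []),
  ([], []),
  ([], []),
  ([], []),
  ([], []),
  ([], []),
  ([], []),
  ([], []),
  ([], []),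
  ([], []),
  ([], []),
  ([], []),
  ([], []),
  ([], []),
  ([], []),
  ([], []),
  ([], []),
  ([], []),
  ([], []),
  ([], []),
  ([], []),
  ([], []),
  ([], []),
  ([], []),
  ([], []),
  ([], []),
  ([], []),
  ([], []),
  ([], []),
  ([], []),
  ([], []),
  ([], []),
  ([], []),
  ([], []),
  ([], []),
  ([], []),
  ([], []),
  ([], []),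
  ([], []),
  ([], []),
  ([], []),
  ([], []),
  ([], []),
  ([], []),
  ([], []),
  ([], []),
  ([], []),
  ([], []),
  ([], []),
  ([], []),
  ([], []),
  ([], []),
  ([1, 1, 3, 3, 1, 1, 2, 0, 0, 0, 2], [1, 1, 1, 3, 3, 1, 1, 2, 1, 2, 0, 0, 0]),
  ([0, 0, 0, 0, 3, 1, 2, 2, 0, 3, 0, 3], [0, 2, 0, 2, 0, 3, 3, 0, 3, 1, 3, 3, 0, 0]),
  ([0, 0, 2, 2, 0, 2, 0, 3, 1, 1, 3, 3, 3, 1], [3, 1, 2, 2, 1, 1, 2, 1, 2, 1, 2, 2, 0, 0, 0]),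
  ([1, 2, 2, 1, 1, 3, 0, 3, 3, 0, 3, 3, 0, 0], [0, 3, 0, 3, 3, 1, 1, 2, 1, 2, 1, 2, 1]),
  ([3, 3, 0, 3, 1, 3, 1, 2, 0, 3, 0, 3, 1], [2, 0, 2, 2, 1, 1, 1, 3, 3, 1, 3, 0, 2, 0, 0, 0]),
  ([1, 2, 2, 1, 2, 2, 2, 0, 3, 0, 0, 0, 2], [2, 0, 2, 0, 3, 1, 3, 0, 3, 0, 3, 0, 2, 0, 3]),
  ([0, 2, 0, 0, 2, 2, 1, 2, 1, 2, 0, 3, 0, 0], [0, 3, 0, 2, 2, 2, 0, 0, 2, 2, 1, 1, 1]),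
  ([3, 1, 2, 2, 1, 1, 2, 1, 2, 1, 2, 2, 1], [0, 0, 3, 0, 0, 3, 3, 3, 0, 2, 2, 1, 2, 0]),
  ([], []),
  ([], []),
  ([], []),
  ([], []),
  ([], []),
  ([], []),
  ([], []),
  ([], []),
  ([0, 2, 2, 2, 2, 0, 2, 0, 2, 0, 2, 1, 2, 0], [3, 1, 2, 1, 2, 2, 2, 1, 2, 2, 2, 1, 3, 0, 0]),
  ([1, 1, 1, 3, 3, 1, 1, 2, 0, 0, 0, 2, 0], [2, 2, 2, 2, 2, 2, 2, 2, 1, 1, 2, 1, 2]),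
  ([3, 1, 3, 1, 3, 1, 2, 2, 1, 3, 0, 3, 0], [3, 3, 1, 3, 0, 2, 2, 1, 2, 2, 2, 1, 2, 2, 0]),
  ([0, 0, 2, 1, 1, 2, 0, 2, 0, 3, 1, 3, 0, 3, 0], [2, 2, 1, 2, 1, 3, 0, 2, 0, 0, 0, 2, 0, 2, 0]),
  ([2, 2, 2, 0, 3, 1, 1, 1, 2, 1, 2, 2, 0], [2, 2, 0, 2, 1, 2, 2, 2, 2, 1, 1, 3, 0, 3, 1]),
  ([0, 3, 3, 3, 3, 3, 0, 0, 3, 3, 0, 3], [2, 2, 1, 1, 1, 3, 3, 0, 0, 0, 2, 2, 2, 1]),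
  ([3, 3, 1, 2, 0, 3, 0, 0, 3, 1, 3, 1, 3, 0], [3, 0, 2, 1, 3, 1, 2, 0, 3, 0, 3, 0, 3, 1]),
  ([0, 3, 3, 3, 3, 0, 2, 2, 2, 1, 1, 3], [0, 2, 2, 2, 1, 3, 3, 0, 0, 3, 1, 1])]

/-- A fourth root of the central involution and an element inverting it, both fixing the element, a part. -/
def rootsPart2 : List (List ℕ × List ℕ) := [
  ([], []),
  ([], []),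
  ([], []),
  ([], []),
  ([], []),
  ([], []),
  ([], []),
  ([], []),
  ([], []),
  ([], []),
  ([], []),
  ([], []),
  ([], []),
  ([], []),
  ([], []),
  ([], []),
  ([], []),
  ([], []),
  ([], []),
  ([], []),
  ([], []),
  ([], []),
  ([], []),
  ([], []),
  ([], []),
  ([], []),
  ([], []),
  ([], []),
  ([], []),
  ([], []),
  ([], []),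
  ([], []),
  ([], []),
  ([], []),
  ([], []),
  ([], []),
  ([], []),
  ([], []),
  ([], []),
  ([], []),
  ([], []),
  ([], []),
  ([], []),
  ([], []),
  ([], []),
  ([], []),
  ([], []),
  ([], []),
  ([], []),
  ([], []),
  ([], []),
  ([], []),
  ([], []),
  ([], []),
  ([], []),
  ([], []),
  ([], []),
  ([], []),
  ([], []),
  ([], []),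
  ([], []),
  ([], []),
  ([], []),
  ([], []),
  ([], []),
  ([], []),
  ([], []),
  ([], []),
  ([], []),
  ([], []),
  ([], []),
  ([], []),
  ([], []),
  ([], []),
  ([], []),
  ([], []),
  ([], []),
  ([], []),
  ([], []),
  ([], []),
  ([], []),
  ([], []),
  ([], []),
  ([], []),
  ([], []),
  ([], []),
  ([], []),
  ([], []),
  ([], []),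
  ([], []),
  ([], []),
  ([], []),
  ([], []),
  ([], []),
  ([], []),
  ([], []),
  ([], []),
  ([], []),
  ([], []),
  ([], []),
  ([], []),
  ([], []),
  ([], []),
  ([], []),
  ([], []),
  ([], []),
  ([], []),
  ([], []),
  ([], []),
  ([], []),
  ([], []),
  ([], []),
  ([], []),
  ([], []),
  ([], []),
  ([], []),
  ([], []),
  ([], []),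
  ([], []),
  ([], []),
  ([], []),
  ([], []),
  ([], []),
  ([], []),
  ([], []),
  ([], []),
  ([], []),
  ([], []),
  ([], []),
  ([], []),
  ([], []),
  ([], []),
  ([], []),
  ([], []),
  ([], []),
  ([], []),
  ([], []),
  ([], []),
  ([], []),
  ([], []),
  ([], []),
  ([], []),
  ([], []),
  ([], []),
  ([], []),
  ([], []),
  ([], []),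
  ([], []),
  ([], []),
  ([], []),
  ([], []),
  ([], []),
  ([], []),
  ([], []),
  ([], []),
  ([], []),
  ([], []),
  ([], []),
  ([], []),
  ([], []),
  ([], []),
  ([], []),
  ([], []),
  ([], []),
  ([], []),
  ([], []),
  ([], []),
  ([], []),
  ([], []),
  ([], []),
  ([], []),
  ([], []),
  ([], []),
  ([], []),
  ([], []),
  ([], []),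
  ([], []),
  ([], []),
  ([], []),
  ([], []),
  ([], []),
  ([], []),
  ([], []),
  ([], []),
  ([], []),
  ([], []),
  ([], []),
  ([], []),
  ([], []),
  ([], []),
  ([], []),
  ([], []),
  ([0, 2, 2, 1, 3, 1, 1, 3, 3, 3, 1, 2], [3, 3, 1, 1, 3, 3, 0, 2, 2, 0, 3, 1, 1]),
  ([1, 2, 1, 2, 2, 2, 2, 1, 2, 2, 0, 3, 1], [3, 1, 3, 1, 2, 1, 2, 1, 2, 0, 3, 0]),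
  ([3, 3, 0, 0, 0, 2, 2, 2, 0, 2, 0, 2, 1], [2, 2, 1, 1, 3, 1, 1, 3, 1, 3, 3, 3, 1, 1]),
  ([3, 3, 1, 2, 1, 2, 1, 3, 3, 1, 2, 0, 3], [3, 3, 1, 3, 0, 2, 0, 2, 0, 2, 2, 0, 3, 3, 0]),
  ([0, 2, 0, 2, 2, 2, 1, 2, 1, 1, 3, 3, 0, 2, 0], [3, 3, 0, 3, 3, 0, 0, 2, 2, 1, 1, 2]),
  ([1, 3, 1, 3, 3, 3, 0, 3, 3, 0, 2, 2, 1], [3, 1, 3, 0, 2, 2, 0, 0, 0, 0, 2, 0, 0, 0, 0]),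
  ([0, 0, 0, 0, 2, 2, 2, 2, 2, 0, 2, 1, 1, 3, 0], [2, 1, 1, 3, 0, 3, 3, 3, 3, 0, 3, 3, 3, 0, 0]),
  ([2, 2, 2, 2, 2, 1, 2, 1, 1, 3, 1], [2, 1, 2, 2, 2, 0, 3, 1, 1, 3, 0, 3, 0, 0, 0]),
  ([3, 3, 1, 2, 1, 1, 2, 0, 0, 0, 2, 0], [2, 1, 1, 3, 0, 0, 0, 3, 3, 0, 0, 2, 1, 1]),
  ([1, 3, 0, 3, 3, 0, 0, 0, 3, 0, 2, 0, 2, 2, 0], [0, 2, 2, 1, 3, 1, 2, 2, 0, 2, 2, 1, 1]),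
  ([0, 3, 1, 2, 2, 2, 2, 2, 2, 0, 0, 3, 0, 0], [2, 1, 2, 1, 2, 2, 0, 2, 2, 0, 2, 2, 2, 0, 2]),
  ([1, 3, 1, 3, 0, 0, 2, 2, 0, 0, 0], [1, 3, 0, 2, 1, 1, 2, 2, 1, 3, 3, 3, 1, 2, 0, 0]),
  ([2, 0, 3, 1, 2, 0, 0, 3, 1, 1, 3, 0, 0], [3, 3, 1, 2, 2, 0, 0, 3, 0, 3, 3, 3, 0, 0]),
  ([0, 0, 3, 3, 1, 1, 2, 0, 0, 0, 2, 1, 1, 1], [0, 2, 0, 3, 0, 3, 3, 1, 2, 2, 2, 0, 0]),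
  ([1, 1, 3, 1, 1, 1, 3, 3, 3, 0, 2, 0, 0], [0, 0, 3, 3, 3, 3, 0, 3, 1, 3, 0, 2, 1, 1]),
  ([3, 1, 1, 3, 3, 3, 3, 1, 1, 2, 0, 0, 2], [2, 2, 0, 0, 0, 2, 0, 2, 0, 2, 2, 0, 2]),
  ([3, 0, 0, 3, 3, 1, 3, 3, 3, 1, 3, 0, 3], [0, 2, 2, 0, 2, 1, 1, 2, 2, 0, 0, 0, 0]),
  ([0, 3, 1, 3, 1, 2, 0, 2, 1, 2, 0, 2], [3, 1, 3, 3, 1, 1, 3, 0, 2, 1, 1, 2, 0, 3, 0]),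
  ([2, 1, 2, 2, 1, 3, 3, 3, 3, 0, 3, 1, 3, 1], [2, 2, 1, 1, 3, 0, 3, 1, 2, 2, 0, 3, 3, 1, 1]),
  ([3, 3, 0, 3, 3, 3, 1, 3, 3, 3, 3, 1, 2, 0, 0], [2, 0, 2, 2, 1, 2, 0, 0, 3, 3, 1, 1, 1, 3]),
  ([2, 2, 1, 1, 3, 1, 2, 2, 1, 1, 3, 1, 2, 0], [2, 1, 2, 0, 0, 0, 2, 0, 2, 0, 2, 2, 0, 3, 0]),
  ([2, 0, 2, 1, 1, 2, 1, 2, 0, 2, 0, 2, 2, 1, 1], [2, 2, 1, 3, 1, 1, 3, 1, 3, 0, 2, 0, 2, 2, 1]),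
  ([0, 2, 2, 1, 2, 0, 0, 3, 1, 2, 0, 3, 0, 3, 0], [2, 2, 0, 0, 0, 3, 0, 2, 2, 2, 0, 3, 3, 1]),
  ([2, 2, 2, 0, 3, 3, 0, 0, 3, 0, 0], [2, 2, 2, 0, 3, 3, 0, 0, 3, 1, 2, 1, 3, 0]),
  ([2, 0, 0, 3, 1, 1, 1, 3, 1], [3, 0, 0, 2, 0, 0, 2, 0, 2, 1, 1, 3, 0, 0]),
  ([1, 2, 1, 1, 3, 0, 2, 1, 1, 3, 3, 1], [3, 0, 0, 2, 1, 2, 0, 0, 3, 1, 3, 1]),
  ([2, 1, 2, 2, 1, 1, 2, 0, 3, 3, 1, 1, 3], [0, 2, 1, 1, 1, 2, 2, 2, 2, 1, 2, 2, 1, 3, 0]),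
  ([0, 0, 0, 3, 1, 3, 0, 0, 2, 2, 1], [0, 2, 2, 2, 1, 3, 1, 2, 1, 3, 0, 3, 3, 0, 0]),
  ([2, 0, 3, 0, 2, 1, 1, 3, 0, 3], [2, 0, 3, 0, 2, 0, 3, 1, 2, 2, 1, 2, 1, 2, 0, 0]),
  ([1, 1, 3, 3, 1, 1, 2, 0, 0, 0, 2, 1, 1, 1], [0, 2, 0, 3, 0, 3, 3, 1, 2, 2, 2, 0, 0]),
  ([1, 3, 3, 3, 3, 3, 1, 1, 2, 2, 0], [2, 0, 2, 1, 3, 3, 1, 1, 1, 2, 2, 2, 0, 0, 0]),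
  ([1, 1, 1, 3, 1, 3, 3, 3, 1, 2, 0, 0, 0], [3, 3, 0, 0, 3, 1, 3, 3, 0, 0, 0]),
  ([2, 1, 3, 0, 0, 0, 3, 3, 0, 3, 1, 1], [2, 2, 1, 2, 2, 2, 1, 2, 0, 3]),
  ([3, 1, 1, 1, 3, 3, 3, 0, 2], [3, 0, 3, 0, 2, 0, 2, 1, 2, 1, 3, 0]),
  ([1, 3, 3, 1, 1, 2, 1, 2, 1, 1], [3, 0, 2, 0, 0, 3, 0, 3, 1, 2, 0, 0, 3, 1]),
  ([2, 1, 3, 0, 2, 0, 0, 3, 0, 0, 3], [2, 2, 1, 1, 1, 3, 0, 3, 3, 1, 2, 2, 0, 0]),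
  ([0, 2, 0, 3, 3, 0, 0, 3, 3, 1, 3, 3], [0, 3, 3, 0, 3, 1, 1, 3, 3, 3, 1, 3, 0, 2, 0]),
  ([2, 1, 1, 2, 2, 2, 2, 0, 2, 1, 1, 1], [3, 1, 3, 1, 1, 1, 3, 3, 3, 0, 3, 0, 2, 2, 0]),
  ([0, 3, 0, 3, 1, 3, 0, 2, 1, 2, 2, 2, 0, 0, 0], [0, 2, 2, 0, 2, 1, 2, 0, 3, 0, 2, 0, 2, 0]),
  ([3, 3, 1, 2, 2, 0, 2, 0, 0, 3, 0, 3], [2, 1, 1, 3, 0, 3, 3, 0, 0, 2]),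
  ([3, 1, 3, 1, 3, 0, 3, 0, 2, 2, 2, 0, 3], [3, 1, 2, 2, 2, 0, 3, 0, 3, 3, 0, 2, 2, 0]),
  ([3, 1, 3, 0, 3, 1, 2, 2, 0, 2, 0, 2, 2, 0], [3, 1, 3, 1, 3, 3, 1, 1, 1, 3, 0, 2, 2, 0, 0]),
  ([0, 3, 1, 3, 3, 3, 3, 1, 2, 2, 2, 0, 3, 3, 0], [1, 2, 1, 2, 2, 1, 3, 1, 2, 2, 0, 2, 0]),
  ([0, 2, 2, 1, 3, 3, 3, 0, 2, 2, 2, 2, 0, 2, 0], [2, 1, 2, 0, 0, 2, 2, 2, 1, 1, 2, 2, 1, 1]),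
  ([2, 2, 2, 0, 2, 2, 1, 1, 3, 0, 0, 0, 3], [3, 3, 3, 1, 2, 2, 2, 0, 2, 1, 3, 1, 2]),
  ([2, 2, 2, 0, 2, 2, 1, 1, 3, 0, 0, 0, 3], [0, 2, 1, 3, 3, 0, 0, 3, 3, 0, 2, 2, 0, 0]),
  ([2, 0, 2, 2, 2, 1, 1, 2, 2, 0, 0, 2, 0, 0, 0], [2, 0, 3, 0, 3, 3, 1, 2, 0, 3, 0, 2, 2, 1, 1]),
  ([2, 1, 1, 2, 0, 3, 3, 3, 0, 3, 1, 1, 3, 0], [2, 2, 2, 2, 2, 2, 0, 3, 1, 3, 0, 2]),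
  ([0, 0, 3, 3, 1, 1, 2, 1, 2, 1, 1, 1], [2, 1, 1, 3, 0, 2, 1, 2, 1, 1, 3, 1, 2, 0]),
  ([1, 3, 3, 1, 1, 2, 1, 2, 0, 0], [2, 0, 0, 3, 1, 2, 1, 2, 1, 1, 3, 0, 2]),
  ([1, 3, 1, 3, 3, 3, 1, 2, 0], [0, 0, 3, 3, 0, 0, 3, 1, 3, 3, 0]),
  ([0, 0, 0, 3, 1, 3, 3, 3, 1, 2, 1, 1, 1], [0, 0, 0, 2, 2, 0, 2, 1, 1, 2, 2, 0, 0]),
  ([1, 2, 2, 0, 0, 3, 0, 2, 0, 0, 3, 0], [1, 2, 0, 3, 3, 0, 0, 0, 0, 2, 2, 1, 3, 0]),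
  ([2, 0, 0, 3, 0, 0, 0, 3, 0], [3, 0, 0, 2, 2, 1, 2, 1, 1, 3, 1, 1]),
  ([1, 1, 2, 2, 0, 0, 2, 2, 0, 2, 1, 2], [2, 2, 0, 3, 1, 1, 3, 0, 3, 0, 3, 0, 0, 0]),
  ([0, 3, 1, 3, 0, 0, 2, 2, 0], [0, 2, 0, 2, 2, 1, 3, 1, 2, 2, 0, 2, 0]),
  ([2, 2, 1, 1, 3, 0, 2, 1, 2, 0, 0, 3, 0, 2], [2, 2, 2, 2, 0, 3, 1, 3, 1, 2, 1, 2, 1, 2, 0]),
  ([2, 2, 1, 1, 3, 0, 2, 1, 2, 0, 0, 3, 0, 2], [2, 1, 2, 0, 0, 0, 2, 0, 2, 0, 2, 2, 0, 3, 0]),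
  ([0, 0, 2, 2, 2, 0, 3, 3, 0, 0, 3], [2, 0, 3, 3, 0, 3, 1, 2, 1, 2, 0, 0, 2, 2, 0]),
  ([3, 3, 1, 3, 1, 1, 3, 0, 3, 1, 3, 0, 3, 0], [2, 1, 2, 2, 1, 3, 3, 3, 3, 3, 3, 0, 0, 2]),
  ([1, 3, 1, 3, 1, 2, 0, 2, 1, 2, 0, 2, 0, 0], [2, 2, 0, 2, 1, 3, 1, 3, 3, 3, 3, 3, 3, 1, 1]),
  ([3, 0, 2, 2, 1, 2, 0, 2, 1, 3, 3, 1, 2, 0], [3, 3, 1, 3, 0, 3, 1, 2, 2, 2, 2, 2, 0, 0]),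
  ([2, 2, 1, 3, 3, 0, 2, 1, 2, 1, 1, 3, 0, 3], [3, 3, 1, 3, 3, 3, 0, 2, 2, 0, 2, 0, 2]),
  ([3, 3, 0, 0, 3, 1, 2, 2, 0, 0, 0, 0, 2, 0], [0, 3, 3, 0, 0, 3, 3, 3, 1, 1, 3, 0, 3, 0])]

/-- A fourth root of the central involution and an element inverting it, both fixing the element, a part. -/
def rootsPart3 : List (List ℕ × List ℕ) := [
  ([], []),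
  ([], []),
  ([], []),
  ([], []),
  ([], []),
  ([], []),
  ([], []),
  ([], []),
  ([], []),
  ([], []),
  ([], []),
  ([], []),
  ([], []),
  ([], []),
  ([], []),
  ([], []),
  ([], []),
  ([], []),
  ([], []),
  ([], []),
  ([], []),
  ([], []),
  ([], []),
  ([], []),
  ([], []),
  ([], []),
  ([], []),
  ([], []),
  ([], []),
  ([], []),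
  ([], []),
  ([], []),
  ([2, 2, 0, 2, 1, 1, 2, 0, 2, 0, 2, 1, 2, 1], [3, 1, 2, 0, 3, 1, 2, 2, 1, 2, 1, 2, 2, 1]),
  ([2, 1, 3, 3, 3, 0, 3, 0, 0, 3, 3, 0, 2, 2], [2, 2, 1, 2, 0, 3, 0, 3, 0, 0, 0, 0, 2, 0]),
  ([1, 2, 1, 1, 3, 1, 2, 0, 2, 1, 1, 2, 0, 0], [2, 0, 3, 3, 1, 1, 2, 2, 1, 2, 0, 3]),
  ([3, 0, 0, 3, 1, 3, 0, 3, 1, 1, 3, 1], [2, 1, 1, 2, 2, 1, 2, 0, 3, 3, 0, 0, 0, 0]),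
  ([3, 3, 1, 1, 2, 2, 2, 0, 2, 1, 2, 1, 3], [0, 3, 0, 2, 2, 1, 1, 3, 0, 3, 3, 0, 2, 1]),
  ([2, 1, 1, 2, 0, 2, 0, 3, 3, 3, 1, 3, 3], [2, 2, 2, 0, 3, 3, 1, 2, 2, 2, 0, 2, 0]),
  ([3, 3, 0, 2, 0, 3, 1, 2, 0, 0, 3, 3, 3], [3, 0, 2, 2, 1, 2, 0, 2, 1, 2, 0, 2, 0]),
  ([3, 1, 1, 3, 3, 3, 1, 3, 1, 3, 1, 1, 1], [0, 2, 2, 1, 1, 3, 1, 3, 0, 0, 3, 0]),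
  ([], []),
  ([], []),
  ([], []),
  ([], []),
  ([], []),
  ([], []),
  ([], []),
  ([], []),
  ([2, 2, 2, 1, 3, 1, 1, 3, 1, 2, 1, 3, 0], [0, 0, 0, 0]),
  ([1, 1, 1, 2, 2, 2, 1, 2, 0, 0, 2, 1, 1, 2], [0, 2, 0, 3, 0, 3, 3, 1, 2, 2, 2, 0, 0]),
  ([3, 3, 3, 3, 0, 3, 1, 2, 1, 1, 1, 2, 2], [2, 2, 0, 0, 3, 0, 0, 0, 3, 3, 1, 1]),
  ([2, 1, 3, 0, 0, 3, 3, 3, 0, 0, 0, 3], [0, 3, 0, 0, 0, 0, 2, 2, 1, 3, 0, 3, 3, 0]),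
  ([2, 1, 1, 3, 1, 2, 0, 3, 0, 0, 0, 2, 0, 2], [0, 2, 0, 0, 0, 0, 3, 0, 0, 3, 3, 1, 2, 0, 0]),
  ([3, 3, 3, 1, 3, 0, 0, 2, 2, 2, 1, 2], [2, 0, 0, 3, 0, 2, 1, 3, 3, 0, 0, 2, 0, 2, 0]),
  ([0, 3, 1, 2, 1, 2, 2, 2, 2, 1, 3, 0, 3, 3], [3, 0, 2, 2, 1, 2, 0, 2, 1, 2, 0, 2, 0]),
  ([1, 1, 2, 0, 2, 2, 2, 2, 1, 3, 0, 0, 0, 0], [1, 1, 2, 2, 1, 1, 3, 0, 3, 3, 0, 0, 0, 0]),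
  ([], []),
  ([], []),
  ([], []),
  ([], []),
  ([], []),
  ([], []),
  ([], []),
  ([], []),
  ([], []),
  ([], []),
  ([], []),
  ([], []),
  ([], []),
  ([], []),
  ([], []),
  ([], []),
  ([], []),
  ([], []),
  ([], []),
  ([], []),
  ([], []),
  ([], []),
  ([], []),
  ([], []),
  ([], []),
  ([], []),
  ([], []),
  ([], []),
  ([], []),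
  ([], []),
  ([], []),
  ([], []),
  ([], []),
  ([], []),
  ([], []),
  ([], []),
  ([], []),
  ([], []),
  ([], []),
  ([], []),
  ([], []),
  ([], []),
  ([], []),
  ([], []),
  ([], []),
  ([], []),
  ([], []),
  ([], []),
  ([1, 2, 2, 2, 1, 2, 1, 2, 2, 1, 2, 1, 1], [0, 3, 0, 3, 3, 1, 1, 2, 0, 0, 2, 0]),
  ([1, 3, 3, 3, 1, 2, 1, 1, 2, 2, 1, 1, 3, 1], [2, 1, 3, 0, 3, 3, 3, 0, 0, 0, 0, 2, 0, 0]),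
  ([2, 1, 1, 3, 0, 2, 1, 3, 1, 2, 1, 2], [2, 0, 2, 0, 2, 0, 2, 0, 2, 0, 2, 0]),
  ([2, 0, 0, 3, 1, 1, 1, 2, 1, 2, 0, 0, 2], [2, 2, 1, 2, 1, 1, 3, 1, 1, 3, 0, 0]),
  ([1, 3, 3, 1, 2, 0, 0, 3, 3, 3, 0, 3, 1, 2, 1], [2, 1, 3, 0, 0, 0, 3, 0, 3, 0, 3, 3, 0]),
  ([1, 3, 3, 1, 2, 0, 0, 3, 3, 3, 0, 3, 1, 2, 1], [1, 2, 2, 1, 1, 3, 0, 3, 3, 0, 0, 0]),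
  ([2, 1, 1, 3, 3, 1, 3, 3, 1, 3, 1, 3, 0], [3, 1, 2, 0, 0, 2, 1, 2, 2, 1, 1, 2, 2, 0]),
  ([2, 1, 2, 2, 0, 0, 0, 0, 2, 1, 2, 2], [2, 0, 3, 3, 0, 2, 0, 3, 3, 0, 3, 3, 1, 1, 3]),
  ([], []),
  ([], []),
  ([], []),
  ([], []),
  ([], []),
  ([], []),
  ([], []),
  ([], []),
  ([1, 2, 1, 1, 3, 0, 2, 0, 2, 1, 1, 2], [2, 1, 3, 1, 3, 3, 0, 2, 1, 3, 1, 1, 3, 1]),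
  ([1, 1, 3, 0, 0, 3, 1, 3, 0, 3, 1, 1, 3, 0], [0, 0, 2, 2, 1, 3, 0, 3, 3, 0, 0, 3, 0, 0]),
  ([3, 3, 3, 3, 1, 3, 0, 0, 2, 2, 0, 3, 0, 0], [0, 2, 2, 1, 2, 1, 1, 3, 1, 1, 3, 0]),
  ([0, 0, 2, 2, 0, 2, 1, 3, 3, 0, 2, 2, 1], [3, 3, 3, 1, 3, 0, 0, 0, 0, 2, 0, 2, 2, 2]),
  ([0, 2, 1, 2, 2, 2, 2, 1, 2, 1, 3, 0, 2, 2], [3, 0, 3, 1, 2, 0, 0, 2, 0, 0, 2, 0, 0, 0, 0]),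
  ([1, 1, 3, 1, 1, 3, 3, 3, 1, 3, 1, 3, 1], [1, 2, 2, 1, 1, 3, 1, 3, 0, 0, 3, 0, 0, 0]),
  ([1, 1, 3, 3, 0, 0, 0, 3, 0, 2, 1, 1, 3], [0, 3, 1, 3, 3, 0, 0, 0, 2, 2, 0, 0, 0]),
  ([2, 1, 1, 3, 1, 2, 0, 3, 0, 3, 0, 2], [2, 0, 0, 2, 1, 2, 2, 1, 1, 2, 2, 0, 3, 1]),
  ([], []),
  ([], []),
  ([], []),
  ([], []),
  ([], []),
  ([], []),
  ([], []),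
  ([], []),
  ([], []),
  ([], []),
  ([], []),
  ([], []),
  ([], []),
  ([], []),
  ([], []),
  ([], []),
  ([], []),
  ([], []),
  ([], []),
  ([], []),
  ([], []),
  ([], []),
  ([], []),
  ([], []),
  ([], []),
  ([], []),
  ([], []),
  ([], []),
  ([], []),
  ([], []),
  ([], []),
  ([], []),
  ([], []),
  ([], []),
  ([], []),
  ([], []),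
  ([], []),
  ([], []),
  ([], []),
  ([], []),
  ([], []),
  ([], []),
  ([], []),
  ([], []),
  ([], []),
  ([], []),
  ([], []),
  ([], []),
  ([], []),
  ([], []),
  ([], []),
  ([], []),
  ([], []),
  ([], []),
  ([], []),
  ([], []),
  ([], []),
  ([], []),
  ([], []),
  ([], []),
  ([], []),
  ([], []),
  ([], []),
  ([], []),
  ([], []),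
  ([], []),
  ([], []),
  ([], []),
  ([], []),
  ([], []),
  ([], []),
  ([], []),
  ([], []),
  ([], []),
  ([], []),
  ([], []),
  ([], []),
  ([], []),
  ([], []),
  ([], []),
  ([], []),
  ([], []),
  ([], []),
  ([], []),
  ([], []),
  ([], []),
  ([], []),
  ([], []),
  ([], []),
  ([], []),
  ([], []),
  ([], []),
  ([], []),
  ([], []),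
  ([], []),
  ([], []),
  ([], []),
  ([], []),
  ([], []),
  ([], []),
  ([], []),
  ([], []),
  ([], []),
  ([], []),
  ([], []),
  ([], []),
  ([], []),
  ([], []),
  ([], []),
  ([], []),
  ([], []),
  ([], []),
  ([], []),
  ([], []),
  ([], []),
  ([], []),
  ([], []),
  ([], []),
  ([], []),
  ([], []),
  ([], []),
  ([], []),
  ([], []),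
  ([], []),
  ([], []),
  ([], []),
  ([], []),
  ([], [])]

/-- A fourth root of the central involution and an element inverting it, both fixing the element. -/
def roots : List (List ℕ × List ℕ) := rootsPart0 ++ rootsPart1 ++ rootsPart2 ++ rootsPart3

/-- Conjugation to a representative, a part. -/
def octicsPart0 : List (ℕ × List ℕ) := [
  (3, []),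
  (3, []),
  (3, []),
  (3, []),
  (3, []),
  (3, []),
  (3, []),
  (3, []),
  (3, []),
  (3, []),
  (3, []),
  (3, []),
  (3, []),
  (3, []),
  (3, []),
  (3, []),
  (3, []),
  (3, []),
  (3, []),
  (3, []),
  (3, []),
  (3, []),
  (3, []),
  (3, []),
  (3, []),
  (3, []),
  (3, []),
  (3, []),
  (3, []),
  (3, []),
  (3, []),
  (3, []),
  (3, []),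
  (3, []),
  (3, []),
  (3, []),
  (3, []),
  (3, []),
  (3, []),
  (3, []),
  (3, []),
  (3, []),
  (3, []),
  (3, []),
  (3, []),
  (3, []),
  (3, []),
  (3, []),
  (3, []),
  (3, []),
  (3, []),
  (3, []),
  (3, []),
  (3, []),
  (3, []),
  (3, []),
  (3, []),
  (3, []),
  (3, []),
  (3, []),
  (3, []),
  (3, []),
  (3, []),
  (3, []),
  (3, []),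
  (3, []),
  (3, []),
  (3, []),
  (3, []),
  (3, []),
  (3, []),
  (3, []),
  (3, []),
  (3, []),
  (3, []),
  (3, []),
  (3, []),
  (3, []),
  (3, []),
  (3, []),
  (3, []),
  (3, []),
  (3, []),
  (3, []),
  (3, []),
  (3, []),
  (3, []),
  (3, []),
  (3, []),
  (3, []),
  (3, []),
  (3, []),
  (3, []),
  (3, []),
  (3, []),
  (3, []),
  (3, []),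
  (3, []),
  (3, []),
  (3, []),
  (3, []),
  (3, []),
  (3, []),
  (3, []),
  (3, []),
  (3, []),
  (3, []),
  (3, []),
  (3, []),
  (3, []),
  (3, []),
  (3, []),
  (3, []),
  (3, []),
  (3, []),
  (3, []),
  (3, []),
  (3, []),
  (3, []),
  (3, []),
  (3, []),
  (3, []),
  (3, []),
  (3, []),
  (3, []),
  (3, []),
  (3, []),
  (3, []),
  (3, []),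
  (3, []),
  (3, []),
  (3, []),
  (3, []),
  (3, []),
  (3, []),
  (3, []),
  (3, []),
  (3, []),
  (3, []),
  (3, []),
  (3, []),
  (3, []),
  (3, []),
  (3, []),
  (3, []),
  (3, []),
  (3, []),
  (3, []),
  (3, []),
  (3, []),
  (3, []),
  (3, []),
  (3, []),
  (3, []),
  (3, []),
  (3, []),
  (3, []),
  (3, []),
  (3, []),
  (3, []),
  (3, []),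
  (3, []),
  (3, []),
  (3, []),
  (3, []),
  (3, []),
  (3, []),
  (3, []),
  (3, []),
  (3, []),
  (3, []),
  (3, []),
  (3, []),
  (3, []),
  (3, []),
  (3, []),
  (3, []),
  (3, []),
  (3, []),
  (3, []),
  (3, []),
  (3, []),
  (3, []),
  (3, []),
  (3, []),
  (3, []),
  (3, []),
  (3, []),
  (3, []),
  (3, []),
  (3, []),
  (3, []),
  (3, []),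
  (3, []),
  (3, []),
  (3, []),
  (3, []),
  (3, []),
  (3, []),
  (3, []),
  (3, []),
  (3, []),
  (3, []),
  (3, []),
  (3, []),
  (3, []),
  (3, []),
  (3, []),
  (3, []),
  (3, []),
  (3, []),
  (3, []),
  (3, []),
  (3, []),
  (3, []),
  (3, []),
  (3, []),
  (3, []),
  (3, []),
  (3, []),
  (3, []),
  (3, []),
  (3, []),
  (3, []),
  (3, []),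
  (3, []),
  (3, []),
  (3, []),
  (3, []),
  (3, []),
  (3, []),
  (3, []),
  (3, []),
  (3, []),
  (3, []),
  (3, []),
  (3, []),
  (3, []),
  (3, []),
  (3, []),
  (3, []),
  (3, []),
  (3, []),
  (3, []),
  (3, []),
  (3, []),
  (3, []),
  (3, []),
  (3, []),
  (3, []),
  (3, []),
  (3, []),
  (3, []),
  (3, []),
  (3, []),
  (3, [])]

/-- Conjugation to a representative, a part. -/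
def octicsPart1 : List (ℕ × List ℕ) := [
  (3, []),
  (3, []),
  (3, []),
  (3, []),
  (3, []),
  (3, []),
  (3, []),
  (3, []),
  (3, []),
  (3, []),
  (3, []),
  (3, []),
  (3, []),
  (3, []),
  (3, []),
  (3, []),
  (3, []),
  (3, []),
  (3, []),
  (3, []),
  (3, []),
  (3, []),
  (3, []),
  (3, []),
  (3, []),
  (3, []),
  (3, []),
  (3, []),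
  (3, []),
  (3, []),
  (3, []),
  (3, []),
  (3, []),
  (3, []),
  (3, []),
  (3, []),
  (3, []),
  (3, []),
  (3, []),
  (3, []),
  (3, []),
  (3, []),
  (3, []),
  (3, []),
  (3, []),
  (3, []),
  (3, []),
  (3, []),
  (3, []),
  (3, []),
  (3, []),
  (3, []),
  (3, []),
  (3, []),
  (3, []),
  (3, []),
  (3, []),
  (3, []),
  (3, []),
  (3, []),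
  (3, []),
  (3, []),
  (3, []),
  (3, []),
  (3, []),
  (3, []),
  (3, []),
  (3, []),
  (3, []),
  (3, []),
  (3, []),
  (3, []),
  (3, []),
  (3, []),
  (3, []),
  (3, []),
  (3, []),
  (3, []),
  (3, []),
  (3, []),
  (3, []),
  (3, []),
  (3, []),
  (3, []),
  (3, []),
  (3, []),
  (3, []),
  (3, []),
  (3, []),
  (3, []),
  (3, []),
  (3, []),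
  (3, []),
  (3, []),
  (3, []),
  (3, []),
  (3, []),
  (3, []),
  (3, []),
  (3, []),
  (3, []),
  (3, []),
  (3, []),
  (3, []),
  (3, []),
  (3, []),
  (3, []),
  (3, []),
  (3, []),
  (3, []),
  (3, []),
  (3, []),
  (3, []),
  (3, []),
  (3, []),
  (3, []),
  (3, []),
  (3, []),
  (3, []),
  (3, []),
  (3, []),
  (3, []),
  (3, []),
  (3, []),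
  (3, []),
  (3, []),
  (3, []),
  (3, []),
  (3, []),
  (3, []),
  (3, []),
  (3, []),
  (3, []),
  (3, []),
  (3, []),
  (3, []),
  (3, []),
  (3, []),
  (3, []),
  (3, []),
  (3, []),
  (3, []),
  (3, []),
  (3, []),
  (3, []),
  (3, []),
  (3, []),
  (3, []),
  (3, []),
  (3, []),
  (3, []),
  (3, []),
  (3, []),
  (3, []),
  (3, []),
  (3, []),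
  (3, []),
  (3, []),
  (3, []),
  (3, []),
  (3, []),
  (3, []),
  (3, []),
  (3, []),
  (3, []),
  (3, []),
  (3, []),
  (3, []),
  (3, []),
  (3, []),
  (3, []),
  (3, []),
  (3, []),
  (3, []),
  (3, []),
  (3, []),
  (3, []),
  (3, []),
  (3, []),
  (3, []),
  (3, []),
  (3, []),
  (3, []),
  (3, []),
  (3, []),
  (3, []),
  (3, []),
  (3, []),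
  (3, []),
  (3, []),
  (3, []),
  (3, []),
  (3, []),
  (3, []),
  (3, []),
  (3, []),
  (3, []),
  (3, []),
  (3, []),
  (3, []),
  (3, []),
  (3, []),
  (3, []),
  (3, []),
  (3, []),
  (3, []),
  (3, []),
  (3, []),
  (3, []),
  (3, []),
  (3, []),
  (3, []),
  (3, []),
  (3, []),
  (3, []),
  (3, []),
  (3, []),
  (3, []),
  (3, []),
  (3, []),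
  (3, []),
  (3, []),
  (3, []),
  (3, []),
  (3, []),
  (3, []),
  (3, []),
  (3, []),
  (3, []),
  (3, []),
  (3, []),
  (3, []),
  (3, []),
  (3, []),
  (3, []),
  (3, []),
  (3, []),
  (3, []),
  (3, []),
  (3, []),
  (3, []),
  (3, []),
  (3, []),
  (3, []),
  (3, []),
  (3, []),
  (3, []),
  (3, []),
  (3, []),
  (3, []),
  (3, []),
  (3, []),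
  (3, []),
  (3, []),
  (3, []),
  (3, [])]

/-- Conjugation to a representative, a part. -/
def octicsPart2 : List (ℕ × List ℕ) := [
  (3, []),
  (3, []),
  (3, []),
  (3, []),
  (3, []),
  (3, []),
  (3, []),
  (3, []),
  (3, []),
  (3, []),
  (3, []),
  (3, []),
  (3, []),
  (3, []),
  (3, []),
  (3, []),
  (3, []),
  (3, []),
  (3, []),
  (3, []),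
  (3, []),
  (3, []),
  (3, []),
  (3, []),
  (3, []),
  (3, []),
  (3, []),
  (3, []),
  (3, []),
  (3, []),
  (3, []),
  (3, []),
  (3, []),
  (3, []),
  (3, []),
  (3, []),
  (3, []),
  (3, []),
  (3, []),
  (3, []),
  (3, []),
  (3, []),
  (3, []),
  (3, []),
  (3, []),
  (3, []),
  (3, []),
  (3, []),
  (3, []),
  (3, []),
  (3, []),
  (3, []),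
  (3, []),
  (3, []),
  (3, []),
  (3, []),
  (3, []),
  (3, []),
  (3, []),
  (3, []),
  (3, []),
  (3, []),
  (3, []),
  (3, []),
  (3, []),
  (3, []),
  (3, []),
  (3, []),
  (3, []),
  (3, []),
  (3, []),
  (3, []),
  (3, []),
  (3, []),
  (3, []),
  (3, []),
  (3, []),
  (3, []),
  (3, []),
  (3, []),
  (3, []),
  (3, []),
  (3, []),
  (3, []),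
  (3, []),
  (3, []),
  (3, []),
  (3, []),
  (3, []),
  (3, []),
  (3, []),
  (3, []),
  (3, []),
  (3, []),
  (3, []),
  (3, []),
  (3, []),
  (3, []),
  (3, []),
  (3, []),
  (3, []),
  (3, []),
  (3, []),
  (3, []),
  (3, []),
  (3, []),
  (3, []),
  (3, []),
  (3, []),
  (3, []),
  (3, []),
  (3, []),
  (3, []),
  (3, []),
  (3, []),
  (3, []),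
  (3, []),
  (3, []),
  (3, []),
  (3, []),
  (3, []),
  (3, []),
  (3, []),
  (3, []),
  (3, []),
  (3, []),
  (3, []),
  (3, []),
  (3, []),
  (3, []),
  (3, []),
  (3, []),
  (3, []),
  (3, []),
  (3, []),
  (3, []),
  (3, []),
  (3, []),
  (3, []),
  (3, []),
  (3, []),
  (3, []),
  (3, []),
  (3, []),
  (3, []),
  (3, []),
  (3, []),
  (3, []),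
  (3, []),
  (3, []),
  (3, []),
  (3, []),
  (3, []),
  (3, []),
  (3, []),
  (3, []),
  (3, []),
  (3, []),
  (3, []),
  (3, []),
  (3, []),
  (3, []),
  (3, []),
  (3, []),
  (3, []),
  (3, []),
  (3, []),
  (3, []),
  (3, []),
  (3, []),
  (3, []),
  (3, []),
  (3, []),
  (3, []),
  (3, []),
  (3, []),
  (3, []),
  (3, []),
  (3, []),
  (3, []),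
  (3, []),
  (3, []),
  (3, []),
  (3, []),
  (3, []),
  (3, []),
  (3, []),
  (3, []),
  (3, []),
  (3, []),
  (3, []),
  (3, []),
  (3, []),
  (3, []),
  (3, []),
  (3, []),
  (3, []),
  (3, []),
  (3, []),
  (3, []),
  (3, []),
  (3, []),
  (3, []),
  (3, []),
  (3, []),
  (3, []),
  (3, []),
  (3, []),
  (3, []),
  (3, []),
  (3, []),
  (3, []),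
  (3, []),
  (3, []),
  (3, []),
  (3, []),
  (3, []),
  (3, []),
  (3, []),
  (3, []),
  (3, []),
  (3, []),
  (3, []),
  (3, []),
  (3, []),
  (3, []),
  (3, []),
  (3, []),
  (3, []),
  (3, []),
  (3, []),
  (3, []),
  (3, []),
  (3, []),
  (3, []),
  (3, []),
  (3, []),
  (3, []),
  (3, []),
  (3, []),
  (3, []),
  (3, []),
  (3, []),
  (3, []),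
  (3, []),
  (3, []),
  (3, []),
  (3, []),
  (3, []),
  (3, []),
  (3, []),
  (3, []),
  (3, []),
  (3, []),
  (3, []),
  (3, [])]

/-- Conjugation to a representative, a part. -/
def octicsPart3 : List (ℕ × List ℕ) := [
  (3, []),
  (3, []),
  (3, []),
  (3, []),
  (3, []),
  (3, []),
  (3, []),
  (3, []),
  (3, []),
  (3, []),
  (3, []),
  (3, []),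
  (3, []),
  (3, []),
  (3, []),
  (3, []),
  (3, []),
  (3, []),
  (3, []),
  (3, []),
  (3, []),
  (3, []),
  (3, []),
  (3, []),
  (3, []),
  (3, []),
  (3, []),
  (3, []),
  (3, []),
  (3, []),
  (3, []),
  (3, []),
  (3, []),
  (3, []),
  (3, []),
  (3, []),
  (3, []),
  (3, []),
  (3, []),
  (3, []),
  (3, []),
  (3, []),
  (3, []),
  (3, []),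
  (3, []),
  (3, []),
  (3, []),
  (3, []),
  (3, []),
  (3, []),
  (3, []),
  (3, []),
  (3, []),
  (3, []),
  (3, []),
  (3, []),
  (3, []),
  (3, []),
  (3, []),
  (3, []),
  (3, []),
  (3, []),
  (3, []),
  (3, []),
  (3, []),
  (3, []),
  (3, []),
  (3, []),
  (3, []),
  (3, []),
  (3, []),
  (3, []),
  (3, []),
  (3, []),
  (3, []),
  (3, []),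
  (3, []),
  (3, []),
  (3, []),
  (3, []),
  (3, []),
  (3, []),
  (3, []),
  (3, []),
  (3, []),
  (3, []),
  (3, []),
  (3, []),
  (3, []),
  (3, []),
  (3, []),
  (3, []),
  (3, []),
  (3, []),
  (3, []),
  (3, []),
  (3, []),
  (3, []),
  (3, []),
  (3, []),
  (3, []),
  (3, []),
  (3, []),
  (3, []),
  (3, []),
  (3, []),
  (3, []),
  (3, []),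
  (3, []),
  (3, []),
  (3, []),
  (3, []),
  (3, []),
  (3, []),
  (3, []),
  (3, []),
  (3, []),
  (3, []),
  (3, []),
  (3, []),
  (3, []),
  (3, []),
  (3, []),
  (3, []),
  (3, []),
  (3, []),
  (3, []),
  (3, []),
  (0, []),
  (1, []),
  (0, [0, 3, 0, 2, 0, 0, 3, 3, 0, 3, 1, 1, 2, 2]),
  (1, [0, 3, 0, 2, 0, 0, 3, 3, 0, 3, 1, 1, 2, 2]),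
  (1, [1, 2, 2, 2, 1, 3, 1, 2, 2, 0, 2, 2, 1, 3, 0, 0, 0]),
  (0, [1, 2, 2, 2, 1, 3, 1, 2, 2, 0, 2, 2, 1, 3, 0, 0, 0]),
  (1, [1, 2, 1, 2, 0, 0, 0, 0, 3, 3, 1]),
  (0, [1, 2, 1, 2, 0, 0, 0, 0, 3, 3, 1]),
  (2, []),
  (2, [1, 2, 0, 0, 0, 0, 3, 3, 1, 1, 2]),
  (2, [0, 3, 0, 2, 0, 0, 3, 3, 0, 3, 1, 1, 2, 2]),
  (2, [3, 1, 3, 0, 0, 2, 2, 1, 3, 3, 1, 1, 2, 0, 2, 0]),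
  (2, [1, 2, 2, 2, 1, 3, 1, 2, 2, 0, 2, 2, 1, 3, 0, 0, 0]),
  (2, [2, 1, 3, 3, 3, 0, 2, 2, 2, 2, 1, 2, 1, 2]),
  (2, [1, 2, 1, 2, 0, 0, 0, 0, 3, 3, 1]),
  (2, [2, 2, 0, 0, 0, 0, 3, 0, 3, 1, 1]),
  (1, [3, 0, 0, 2, 2, 1, 2, 0, 0, 0, 0, 3, 3, 1]),
  (0, [3, 0, 0, 2, 2, 1, 2, 0, 0, 0, 0, 3, 3, 1]),
  (1, [1, 2, 1, 3, 3, 3, 0, 2, 2, 2, 2, 1, 2, 0, 2]),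
  (0, [1, 2, 1, 3, 3, 3, 0, 2, 2, 2, 2, 1, 2, 0, 2]),
  (0, [3, 3, 0, 3, 0, 3, 3, 0, 2, 1, 3, 0, 0, 0, 2]),
  (1, [3, 3, 0, 3, 0, 3, 3, 0, 2, 1, 3, 0, 0, 0, 2]),
  (0, [3, 0, 0, 2, 0]),
  (1, [3, 0, 0, 2, 0]),
  (2, [3, 0, 0, 2, 2, 1, 2, 0, 0, 0, 0, 3, 3, 1]),
  (2, [1, 2, 0, 2, 0, 0, 0, 0, 3, 0, 0, 3, 1]),
  (2, [2, 2, 1, 1, 3, 3, 3, 0, 3, 0, 3, 3, 3, 3, 1, 2]),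
  (2, [1, 2, 1, 3, 3, 3, 0, 2, 2, 2, 2, 1, 2, 0, 2]),
  (2, [3, 3, 0, 3, 0, 3, 3, 0, 2, 1, 3, 0, 0, 0, 2]),
  (2, [0, 3, 0, 3, 1, 1, 2, 2, 2, 1, 1, 3, 0, 2, 1]),
  (2, [3, 0, 0, 2, 0]),
  (2, [2, 2, 1, 2, 0, 2, 1, 2, 0, 2, 0, 3, 0]),
  (2, [2, 2, 1, 3, 1, 2, 2, 0, 2, 1, 1, 2]),
  (2, [1, 2, 0, 3, 1, 2, 0, 0, 3, 3, 0, 0, 0]),
  (2, [2, 2, 2, 2, 1, 3, 3, 0, 0, 3, 1, 3, 0]),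
  (2, [3, 1, 2, 1, 1, 3, 3, 1, 2, 0, 0, 3]),
  (2, [3, 3, 1, 1, 2, 1, 2, 0]),
  (2, [1, 1, 3, 3, 1, 1, 2, 0, 0, 0, 2, 0, 0, 0]),
  (2, [1, 2, 1, 3, 0, 2, 0, 0, 3, 3, 0]),
  (2, [0, 3, 1, 3, 1, 3, 0, 3, 1, 1, 3, 1, 3, 0]),
  (0, [1, 3, 3, 1, 1, 2, 0, 0, 0, 2]),
  (1, [1, 3, 3, 1, 1, 2, 0, 0, 0, 2]),
  (1, [3, 3, 1, 1, 2, 1, 2, 0]),
  (0, [3, 3, 1, 1, 2, 1, 2, 0]),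
  (1, [2, 2, 2, 2, 1, 3, 3, 0, 0, 3, 1, 3, 0]),
  (0, [2, 2, 2, 2, 1, 3, 3, 0, 0, 3, 1, 3, 0]),
  (0, [1, 2, 1, 3, 0, 2, 0, 0, 3, 3, 0]),
  (1, [1, 2, 1, 3, 0, 2, 0, 0, 3, 3, 0]),
  (2, [3, 1, 3, 0, 0, 2, 2]),
  (2, [0, 0, 3, 3, 1, 1, 2, 0, 2, 1, 1]),
  (2, [0, 0, 0, 3, 1, 3, 0, 0, 2, 2, 0]),
  (2, [1, 1, 1, 3, 3, 1, 1, 2, 0, 2, 1]),
  (2, [0, 0, 0, 3, 3, 1, 1, 2, 1, 2]),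
  (2, [1, 1, 1, 3, 3, 1, 1, 2, 0, 0, 0, 2, 1, 1]),
  (2, [3, 0, 0, 3, 3, 0, 2, 2, 0, 2, 1, 1, 1, 3]),
  (2, [0, 2, 2, 1, 3, 1, 2, 2, 0, 2, 2]),
  (0, [3, 0, 0, 3, 3, 0, 2, 2, 0, 2, 1, 1, 1, 3]),
  (1, [3, 0, 0, 3, 3, 0, 2, 2, 0, 2, 1, 1, 1, 3]),
  (1, [0, 0, 0, 3, 3, 1, 1, 2, 1, 2]),
  (0, [0, 0, 0, 3, 3, 1, 1, 2, 1, 2]),
  (1, [1, 1, 1, 3, 3, 1, 1, 2, 0, 2, 1]),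
  (0, [1, 1, 1, 3, 3, 1, 1, 2, 0, 2, 1]),
  (0, [3, 1, 3, 0, 0, 2, 2]),
  (1, [3, 1, 3, 0, 0, 2, 2]),
  (2, [3, 1, 3, 1, 3, 0, 2, 1, 2, 2, 2, 0]),
  (2, [2, 0, 3, 3, 3, 0, 2, 2, 1, 2, 1, 3, 3, 1, 1]),
  (2, [3, 0, 0, 2, 2, 1, 2, 0, 0, 0, 0, 3, 3, 0]),
  (2, [0, 2, 2, 0, 3, 3, 1, 2, 1, 3, 0, 3, 1, 2, 0]),
  (2, [0, 3, 1, 1, 2]),
  (2, [2, 0, 0, 0, 0, 3, 3, 0, 0, 0, 0, 2]),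
  (2, [2, 2, 1, 3, 1, 3, 3, 1, 2, 2, 2, 0, 3, 0, 0]),
  (2, [3, 1, 2, 1, 1, 3, 0, 3, 3, 0, 0, 2, 0, 2]),
  (0, [2, 0, 3, 3, 3, 0, 2, 2, 1, 2, 1, 3, 3, 1, 1]),
  (1, [2, 0, 3, 3, 3, 0, 2, 2, 1, 2, 1, 3, 3, 1, 1]),
  (0, [3, 0, 0, 2, 2, 1, 2, 0, 0, 0, 0, 3, 3, 0]),
  (1, [3, 0, 0, 2, 2, 1, 2, 0, 0, 0, 0, 3, 3, 0]),
  (1, [0, 3, 1, 1, 2]),
  (0, [0, 3, 1, 1, 2]),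
  (1, [2, 2, 1, 3, 1, 3, 3, 1, 2, 2, 2, 0, 3, 0, 0]),
  (0, [2, 2, 1, 3, 1, 3, 3, 1, 2, 2, 2, 0, 3, 0, 0]),
  (2, [0, 2, 0, 0, 0, 0, 3, 3, 1, 1, 2]),
  (2, [0, 0]),
  (2, [3, 3, 0, 0, 2, 0, 2, 0, 2, 0, 0, 3, 0, 2, 0]),
  (2, [3, 1, 2, 0, 0, 3, 3, 3, 0, 0, 2, 0, 2, 0]),
  (2, [0, 2, 1, 3, 3, 3, 1, 2, 0, 3, 0, 3, 1, 2]),
  (2, [0, 3, 3, 3, 0, 3, 0, 3, 0, 2, 2, 0, 2]),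
  (2, [3, 1, 3, 1, 3, 0, 2, 1, 2, 2, 1, 1, 2]),
  (2, [1, 2, 1, 2, 0, 0, 0, 0, 3, 3, 0]),
  (0, [0, 0]),
  (1, [0, 0]),
  (0, [3, 1, 2, 0, 0, 3, 3, 3, 0, 0, 2, 0, 2, 0]),
  (1, [3, 1, 2, 0, 0, 3, 3, 3, 0, 0, 2, 0, 2, 0]),
  (1, [1, 2, 2, 2, 1, 3, 1, 2, 2, 0, 2, 2, 1, 3, 0]),
  (0, [1, 2, 2, 2, 1, 3, 1, 2, 2, 0, 2, 2, 1, 3, 0]),
  (1, [1, 2, 1, 2, 0, 0, 0, 0, 3, 3, 0]),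
  (0, [1, 2, 1, 2, 0, 0, 0, 0, 3, 3, 0]),
  (1, [2, 1, 1, 3, 3, 0, 2, 1, 1, 3, 3, 1]),
  (0, [2, 1, 1, 3, 3, 0, 2, 1, 1, 3, 3, 1]),
  (0, [1, 2, 0, 3, 1, 2, 0, 0, 3, 3, 0]),
  (1, [1, 2, 0, 3, 1, 2, 0, 0, 3, 3, 0]),
  (0, [1, 2, 1, 3, 0, 2, 0, 0, 3, 3, 1]),
  (1, [1, 2, 1, 3, 0, 2, 0, 0, 3, 3, 1]),
  (1, [1, 2, 2, 1, 1, 3, 1, 2, 0, 3, 1]),
  (0, [1, 2, 2, 1, 1, 3, 1, 2, 0, 3, 1]),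
  (2, [0, 2, 0, 2, 2, 0, 2, 0, 3, 0, 2, 2, 0, 3]),
  (2, [2, 1, 1, 3, 3, 0, 2, 1, 1, 3, 3, 1]),
  (2, [1, 2, 0, 3, 1, 2, 0, 0, 3, 3, 0]),
  (2, [0, 0, 3, 1, 3, 0, 0, 2, 2]),
  (2, [0, 3, 1, 3, 1, 3, 0, 3, 1, 1, 3, 1, 3, 1]),
  (2, [1, 2, 1, 3, 0, 2, 0, 0, 3, 3, 1]),
  (2, [1, 2, 2, 1, 1, 3, 1, 2, 0, 3, 1]),
  (2, [1, 2, 2, 0, 0, 3, 1, 2, 2, 1, 1, 3]),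
  (1, [3, 3, 1, 1, 1, 3, 0, 2, 1, 2, 2, 2, 0]),
  (0, [3, 3, 1, 1, 1, 3, 0, 2, 1, 2, 2, 2, 0]),
  (0, [3, 3, 0, 3, 1, 1, 3, 0, 2, 1, 3, 3, 1, 1]),
  (1, [3, 3, 0, 3, 1, 1, 3, 0, 2, 1, 3, 3, 1, 1]),
  (0, [3, 1, 3, 0, 0, 2, 2, 0, 0]),
  (1, [3, 1, 3, 0, 0, 2, 2, 0, 0]),
  (1, [2, 1, 1, 3, 1, 3, 1, 2, 1, 1, 3, 3, 1]),
  (0, [2, 1, 1, 3, 1, 3, 1, 2, 1, 1, 3, 3, 1]),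
  (2, [3, 3, 1, 1, 1, 3, 0, 2, 1, 2, 2, 2, 0]),
  (2, [0, 2, 1, 3, 0, 2, 1, 1, 3, 0, 3, 1]),
  (2, [0, 0, 3, 3, 1, 1, 2, 0, 2]),
  (2, [3, 1, 3, 0, 0, 2, 2, 0, 0]),
  (2, [0, 0, 3, 3, 1, 1, 2, 1, 2, 0]),
  (2, [3, 3, 0, 3, 1, 1, 3, 0, 2, 1, 3, 3, 1, 1]),
  (2, [0, 2, 1, 3, 0, 2, 0, 0, 3, 3, 0]),
  (2, [2, 1, 1, 3, 1, 3, 1, 2, 1, 1, 3, 3, 1])]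

/-- Conjugation to a representative. -/
def octics : List (ℕ × List ℕ) := octicsPart0 ++ octicsPart1 ++ octicsPart2 ++ octicsPart3

/-- The representatives. -/
def octReps : List (List ℕ) := [
  [3, 3, 3, 0, 2, 1, 1, 2, 2, 2, 0, 0, 3],
  [3, 3, 0, 0, 3, 0, 2, 2, 2, 0, 2, 2, 0, 2],
  [0, 2, 0, 2, 2, 1, 3, 1, 2, 0, 0, 2, 2, 0]]

/-- Elements separating an involution from a fourth power. -/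
def sepElems : List (List ℕ) := [
  [3, 1, 3, 0, 0, 2, 2],
  [3, 3, 1, 1, 2, 1, 2, 0]]

end CfsgLib.CoThreeStd
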