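import Cfsg.Agent.Lib.CoThreeRec.FusionCheck
import Cfsg.Agent.Lib.CoThreeStd.Data

/-!
# Checks on a Sylow 2-subgroup of the double cover modulo the central involution
-/

set_option autoImplicit false
set_option maxRecDepth 100000
set_option Elab.async false

namespace CfsgLib.CoThreeStd

open CfsgLib.CoThreeRec CfsgLib.CoThreeRec.Inv

/-- Equal up to the central involution. -/
noncomputable def cB (u v : List ℕ) : Bool := eqB u v || eqB u (tWord ++ v)

/-- Different up to the central involution. -/
noncomputable def ncB (u v : List ℕ) : Bool := neB u v && neB u (tWord ++ v)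

/-- The short words are those of the Sylow subgroup. -/
noncomputable def shortsPart (i : ℕ) : Bool :=
  (((sylElems.zip shorts).drop (256 * i)).take 256).all fun p => eqB p.1 p.2

/-- Roots and inverting elements. -/
noncomputable def rootB (v e f : List ℕ) : Bool :=
  ncB (v ++ v) [] || cB v [] ||
    (eqB (e ++ v) (v ++ e) && eqB (f ++ v) (v ++ f) && eqB (e ++ e ++ e ++ e) tWord && eqB (f ++ f) [] &&
      eqB (f ++ e ++ f ++ e) [])

/-- The roots of all elements, a part. -/
noncomputable def rootsPart (i : ℕ) : Bool :=
  (((shorts.zip roots).drop (256 * i)).take 256).all fun p => rootB p.1 p.2.1 p.2.2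

/-- Conjugation to a representative. -/
noncomputable def octB (y : List ℕ) (r : ℕ) (w : List ℕ) : Bool :=
  cB (y ++ y ++ y ++ y) [] ||
    (Nat.blt r octReps.length && shorts.contains w && eqB (w ++ octReps.getD r []) (y ++ w))

/-- All elements of order eight, a part. -/
noncomputable def octsPart (i : ℕ) : Bool :=
  (((shorts.zip octics).drop (256 * i)).take 256).all fun p => octB p.1 p.2.1 p.2.2

/-- For a representative and a commuting element squaring into the centre. -/
noncomputable def invPartB (y c : List ℕ) : Bool :=
  ncB (c ++ y) (y ++ c) || ncB (c ++ c) [] || cB c [] || cB c (y ++ y ++ y ++ y) ||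
    sepElems.any fun h => eqB (h ++ c) (c ++ h) && neB (h ++ y ++ y ++ y ++ y) (y ++ y ++ y ++ y ++ h)

/-- The involutions commuting with a representative. -/
noncomputable def invsB (y : List ℕ) : Bool := shorts.all (invPartB y)

/-- The candidates squaring to the fourth power. -/
noncomputable def quarts (y : List ℕ) : List (List ℕ) :=
  shorts.filter fun c => !ncB (c ++ y) (y ++ c) && !ncB (c ++ c) (y ++ y ++ y ++ y)

/-- The elements inverting a representative. -/
noncomputable def flips (y : List ℕ) : List (List ℕ) :=
  shorts.filter fun b => !ncB (b ++ y ++ b ++ y) [] && !ncB (b ++ b) []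

/-- No candidate commutes with an inverting element. -/
noncomputable def quartsB (y : List ℕ) : Bool :=
  let Q := quarts y
  (flips y).all fun b => Q.all fun c => ncB (c ++ b) (b ++ c)

theorem lengths2_ok : shorts.length = 1024 ∧ roots.length = 1024 ∧ octics.length = 1024 ∧ octReps.length = 3 := by
  decide +kernel

theorem shorts_ok : (List.range 4).all shortsPart = true := by decide +kernel

theorem roots_ok : (List.range 4).all rootsPart = true := by decide +kernel

theorem octs_ok : (List.range 4).all octsPart = true := by decide +kernel

theorem invs_ok : octReps.all invsB = true := by decide +kernel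

theorem quarts_ok : octReps.all quartsB = true := by decide +kernel

end CfsgLib.CoThreeStd
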