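import Cfsg.Agent.Lib.CoThreeStd.Check
import Cfsg.Agent.Lib.CoThreeRec.FusionMain

/-!
# Facts on elements of order eight of the double cover
-/

set_option autoImplicit false
set_option maxRecDepth 100000

namespace CfsgLib.CoThreeStd

open CfsgLib.CoThreeRec CfsgLib.CoThreeRec.Inv

theorem sep : Sep := fun u v hu hv h => ev_eq_of_pts hu hv (by
  simp only [List.all_eq_true, Nat.beq_eq]
  exact fun a ha => h a ha)

theorem tm_comm (c : Cm) : Commute tm c := tm_central sep c

theorem tm_ne : tm ≠ 1 :=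
  fun h => neB_spec (u := tWord) (v := []) (by decide +kernel) (h.trans rfl)

theorem tm_sq : tm * tm = 1 := by
  rw [tm, ← ev_app]
  exact eqB_spec sep (show eqB (tWord ++ tWord) [] = true by decide +kernel)

/-- Equal up to the central involution. -/
def TEq (a b : Cm) : Prop := a = b ∨ a = tm * b

theorem cB_spec {u v : List ℕ} (h : cB u v = true) : TEq (ev xm u) (ev xm v) := by
  simp only [cB, Bool.or_eq_true] at h
  rcases h with h | h
  · exact Or.inl (eqB_spec sep h)
  · refine Or.inr ?_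
    rw [eqB_spec sep h, ev_app, tm]

theorem ncB_spec {u v : List ℕ} (h : ncB u v = true) : ¬ TEq (ev xm u) (ev xm v) := by
  simp only [ncB, Bool.and_eq_true] at h
  rintro (e | e)
  · exact neB_spec h.1 e
  · refine neB_spec h.2 ?_
    rw [e, ev_app, tm]

theorem TEq.conj {a b : Cm} (h : TEq a b) (g : Cm) : TEq (g * a * g⁻¹) (g * b * g⁻¹) := by
  rcases h with rfl | rfl
  · exact Or.inl rfl
  · refine Or.inr ?_
    rw [← mul_assoc g, ← (tm_comm g).eq]; group

theorem ev_pow4 (y : List ℕ) : ev xm (y ++ y ++ y ++ y) = ev xm y ^ 4 := by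
  simp only [ev_app, pow_succ, pow_zero, one_mul]

theorem zip_part {α β : Type*} {A : List α} {B : List β} {f : ℕ → Bool} {Q : α × β → Bool}
    (hA : A.length = 1024) (hB : B.length = 1024)
    (hf : ∀ j, f j = (((A.zip B).drop (256 * j)).take 256).all Q) (h : (List.range 4).all f = true) {a : α} {b : β}
    (hab : (a, b) ∈ A.zip B) : Q (a, b) = true := by
  obtain ⟨i, hi, hi'⟩ := List.getElem_of_mem hab
  rw [← hi']
  have hlen : (A.zip B).length = 1024 := by rw [List.length_zip, hA, hB]; rfl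
  have hj := List.all_eq_true.1 h (i / 256) (List.mem_range.2 (by omega))
  rw [hf] at hj
  refine List.all_eq_true.1 hj _ (List.mem_iff_getElem.2 ⟨i % 256, ?_, ?_⟩)
  · simp only [List.length_take, List.length_drop]; omega
  · rw [List.getElem_take, List.getElem_drop]; congr 1; omega

theorem exists_syl : ∃ S : Sylow 2 Cm, ∀ g, g ∈ (S : Subgroup Cm) ↔ ∃ e ∈ shorts, ev xm e = g := by
  obtain ⟨S, hS⟩ := exists_sylow card_Cm sep
  have hl : sylElems.length = shorts.length := lengths_ok.1.trans lengths2_ok.1.symm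
  have key : ∀ p ∈ sylElems.zip shorts, ev xm p.1 = ev xm p.2 := fun p hp =>
    eqB_spec sep (zip_part (Q := fun p => eqB p.1 p.2) lengths_ok.1 lengths2_ok.1 (fun _ => rfl) shorts_ok hp)
  refine ⟨S, fun g => (hS g).trans ⟨?_, ?_⟩⟩
  · rintro ⟨e, he, rfl⟩
    obtain ⟨s, hs⟩ := mem_zip_right hl he
    exact ⟨s, (List.of_mem_zip hs).2, (key _ hs).symm⟩
  · rintro ⟨s, hs, rfl⟩
    obtain ⟨i, hi, rfl⟩ := List.getElem_of_mem hs
    have hz : (sylElems[i]'(hl ▸ hi), shorts[i]) ∈ sylElems.zip shorts :=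
      List.mem_iff_getElem.2 ⟨i, by simp [hl, hi], List.getElem_zip⟩
    exact ⟨_, (List.of_mem_zip hz).1, key _ hz⟩

/-- A 2-group is conjugate into the list. -/
theorem exists_conj_list {P : Subgroup Cm} (hP : IsPGroup 2 P) :
    ∃ g : Cm, ∀ x ∈ P, ∃ e ∈ shorts, ev xm e = g * x * g⁻¹ := by
  haveI : Fact (Nat.Prime 2) := ⟨Nat.prime_two⟩
  obtain ⟨S, hS⟩ := exists_syl
  obtain ⟨T, hT⟩ := hP.exists_le_sylow
  obtain ⟨g, hg⟩ := MulAction.exists_smul_eq Cm T S
  exact ⟨g, fun x hx => (hS _).1 (by rw [← hg]; exact ⟨x, hT hx, rfl⟩)⟩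

/-- The elements with square in the centre generate a 2-group. -/
theorem isPGroup_zpowers {a : Cm} {k : ℕ} (h : a ^ 2 ^ k = 1) : IsPGroup 2 (Subgroup.zpowers a) := by
  obtain ⟨m, -, hm⟩ := (Nat.dvd_prime_pow Nat.prime_two).1 (orderOf_dvd_of_pow_eq_one h)
  exact IsPGroup.of_card (by rw [Nat.card_zpowers, hm])

/-- Every element squaring into the centre fixes a fourth root of the central involution and an involution
inverting that root. -/
theorem exists_roots {v : Cm} (h2 : TEq (v * v) 1) (h1 : ¬ TEq v 1) :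
    ∃ e f : Cm, Commute e v ∧ Commute f v ∧ e ^ 4 = tm ∧ f * f = 1 ∧ f * e * f * e = 1 := by
  obtain ⟨g, hg⟩ := exists_conj_list (isPGroup_zpowers (a := v) (k := 2) (by
    rw [show v ^ 2 ^ 2 = (v * v) * (v * v) by rw [← pow_two, ← pow_two, ← pow_mul]; rfl]
    rcases h2 with h | h <;> rw [h] <;> simp [tm_sq]))
  obtain ⟨w, hw, hwv⟩ := hg v (Subgroup.mem_zpowers v)
  obtain ⟨p, hp⟩ := mem_zip_right (lengths2_ok.1.trans lengths2_ok.2.1.symm) hw
  have h := zip_part (f := rootsPart) (Q := fun q : List ℕ × List ℕ × List ℕ => rootB q.1 q.2.1 q.2.2) lengths2_ok.1 lengths2_ok.2.1 (fun _ => rfl) roots_ok hp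
  simp only [rootB, Bool.or_eq_true, Bool.and_eq_true] at h
  rcases h with (h | h) | h
  · refine absurd ?_ (ncB_spec h)
    rw [ev_app, hwv]
    have := h2.conj g
    rw [mul_one, mul_inv_cancel] at this
    simpa [ev, mul_assoc] using this
  · refine absurd ?_ h1
    have := (cB_spec h).conj g⁻¹
    rw [hwv] at this
    simpa [ev, mul_assoc] using this
  · obtain ⟨⟨⟨⟨he, hf⟩, h4⟩, hf2⟩, hfe⟩ := h
    have he' := eqB_spec sep he
    have hf' := eqB_spec sep hf
    have h4' := eqB_spec sep h4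
    have hf2' := eqB_spec sep hf2
    have hfe' := eqB_spec sep hfe
    rw [ev_app, ev_app, hwv] at he' hf'
    rw [ev_pow4] at h4'
    simp only [ev_app] at hf2' hfe'
    have c1 : g⁻¹ * (g * v * g⁻¹) * g⁻¹⁻¹ = v := by group
    refine ⟨g⁻¹ * ev xm p.1 * g⁻¹⁻¹, g⁻¹ * ev xm p.2 * g⁻¹⁻¹, ?_, ?_, ?_, ?_, ?_⟩
    · have h5 := (show Commute (ev xm p.1) (g * v * g⁻¹) from he').map (MulAut.conj g⁻¹).toMonoidHom
      simp only [MulEquiv.coe_toMonoidHom, MulAut.conj_apply, c1] at h5
      exact h5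
    · have h5 := (show Commute (ev xm p.2) (g * v * g⁻¹) from hf').map (MulAut.conj g⁻¹).toMonoidHom
      simp only [MulEquiv.coe_toMonoidHom, MulAut.conj_apply, c1] at h5
      exact h5
    · rw [conj_pow, h4', show ev xm tWord = tm from rfl, mul_assoc, (tm_comm _).eq]; group
    · rw [show g⁻¹ * ev xm p.2 * g⁻¹⁻¹ * (g⁻¹ * ev xm p.2 * g⁻¹⁻¹) = g⁻¹ * (ev xm p.2 * ev xm p.2) * g⁻¹⁻¹ by group,
        hf2', ev]
      simp
    · rw [show g⁻¹ * ev xm p.2 * g⁻¹⁻¹ * (g⁻¹ * ev xm p.1 * g⁻¹⁻¹) * (g⁻¹ * ev xm p.2 * g⁻¹⁻¹) *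
          (g⁻¹ * ev xm p.1 * g⁻¹⁻¹) = g⁻¹ * (ev xm p.2 * ev xm p.1 * ev xm p.2 * ev xm p.1) * g⁻¹⁻¹ by group,
        hfe', ev]
      simp

/-- An element of order eight modulo the centre in the list is conjugate within the list to a representative. -/
theorem exists_rep {y : List ℕ} (hy : y ∈ shorts) (h4 : ¬ TEq (ev xm y ^ 4) 1) :
    ∃ r ∈ octReps, ∃ w ∈ shorts, ev xm r = (ev xm w)⁻¹ * ev xm y * ev xm w := by
  obtain ⟨p, hp⟩ := mem_zip_right (lengths2_ok.1.trans lengths2_ok.2.2.1.symm) hy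
  have h := zip_part (f := octsPart) (Q := fun q : List ℕ × ℕ × List ℕ => octB q.1 q.2.1 q.2.2) lengths2_ok.1 lengths2_ok.2.2.1 (fun _ => rfl) octs_ok hp
  simp only [octB, Bool.or_eq_true, Bool.and_eq_true, Nat.blt_eq, List.contains_iff_mem] at h
  rcases h with h | ⟨⟨hr, hw⟩, he⟩
  · refine absurd ?_ h4
    have := cB_spec h
    rwa [ev_pow4] at this
  · refine ⟨octReps.getD p.1 [], by rw [List.getD_eq_getElem _ _ hr]; exact List.getElem_mem hr, p.2, hw, ?_⟩
    have e := eqB_spec sep he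
    rw [ev_app, ev_app] at e
    rw [mul_assoc, ← e, inv_mul_cancel_left]

theorem TEq.pow_two {a b : Cm} (h : TEq a b) : a * a = b * b := by
  rcases h with rfl | rfl
  · rfl
  · rw [show tm * b * (tm * b) = tm * (b * tm) * b by group, ← (tm_comm b).eq]
    rw [show tm * (tm * b) * b = tm * tm * (b * b) by group, tm_sq, one_mul]

theorem TEq.mem {a b : Cm} (h : TEq a b) {P : Subgroup Cm} (ht : tm ∈ P) (hb : b ∈ P) : a ∈ P := by
  rcases h with rfl | rfl
  · exact hb
  · exact mul_mem ht hb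

/-- Adjoining a 2-element that maps the generators into the group. -/
theorem isPGroup_insert {S : Set Cm} (hS : IsPGroup 2 (Subgroup.closure S)) {g : Cm} {k : ℕ} (hg : g ^ 2 ^ k = 1)
    (hconj : ∀ x ∈ S, g * x * g⁻¹ ∈ Subgroup.closure S) : IsPGroup 2 (Subgroup.closure (insert g S)) := by
  have hle : (Subgroup.closure S).map (MulAut.conj g).toMonoidHom ≤ Subgroup.closure S := by
    rw [MonoidHom.map_closure, Subgroup.closure_le]
    rintro _ ⟨x, hx, rfl⟩
    exact hconj x hx
  have heq := Subgroup.eq_of_le_of_card_ge hle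
    (Subgroup.card_map_of_injective (MulAut.conj g).injective).ge
  rw [Set.insert_eq, Subgroup.closure_union, ← Subgroup.zpowers_eq_closure]
  refine (isPGroup_zpowers hg).to_sup_of_normal_right' hS ?_
  rw [Subgroup.zpowers_le, Subgroup.mem_normalizer_iff]
  intro x
  conv_rhs => rw [SetLike.mem_coe.symm, SetLike.mem_coe, ← heq]
  exact (Subgroup.mem_map_iff_mem (MulAut.conj g).injective).symm

theorem conj_tm (g : Cm) : g * tm * g⁻¹ = tm := by rw [← (tm_comm g).eq, mul_inv_cancel_right]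

theorem TEq.conj_comm {a c : Cm} (h : TEq (c * a) (a * c)) : TEq (c * a * c⁻¹) a := by
  rcases h with h | h
  · exact Or.inl (by rw [h, mul_inv_cancel_right])
  · exact Or.inr (by rw [h, ← mul_assoc tm, mul_inv_cancel_right])

theorem pow_sixteen {c : Cm} (h : TEq (c * c) 1) : c ^ 2 ^ 2 = 1 := by
  rw [show c ^ 2 ^ 2 = (c * c) * (c * c) by rw [← pow_two, ← pow_two, ← pow_mul]; rfl, h.pow_two, one_mul]

/-- An element of order eight modulo the centre and a commuting one. -/
theorem isPGroup_pair {a c : Cm} {k : ℕ} (ha : a ^ 16 = 1) (hc : c ^ 2 ^ k = 1) (hca : TEq (c * a) (a * c)) :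
    IsPGroup 2 (Subgroup.closure ({c, a, tm} : Set Cm)) := by
  have h0 : IsPGroup 2 (Subgroup.closure ({tm} : Set Cm)) := by
    rw [← Subgroup.zpowers_eq_closure]
    exact isPGroup_zpowers (k := 1) (by rw [pow_one, pow_two, tm_sq])
  have ht : tm ∈ Subgroup.closure ({tm} : Set Cm) := Subgroup.subset_closure rfl
  have h1 := isPGroup_insert h0 (g := a) (k := 4) (by simpa using ha) fun x hx => by
    rw [Set.mem_singleton_iff.1 hx, conj_tm]; exact ht
  refine isPGroup_insert h1 hc fun x hx => ?_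
  have ht1 : tm ∈ Subgroup.closure ({a, tm} : Set Cm) := Subgroup.subset_closure (by simp)
  rcases hx with rfl | rfl
  · exact hca.conj_comm.mem ht1 (Subgroup.subset_closure (by simp))
  · rw [conj_tm]; exact ht1

/-- A 2-group with an element of order eight modulo the centre is conjugate into the list so that this element
becomes a representative. -/
theorem exists_frame {P : Subgroup Cm} (hP : IsPGroup 2 P) {a : Cm} (haP : a ∈ P) (h4 : ¬ TEq (a ^ 4) 1) :
    ∃ g : Cm, ∃ r ∈ octReps, ev xm r = g * a * g⁻¹ ∧ ∀ x ∈ P, ∃ e ∈ shorts, ev xm e = g * x * g⁻¹ := by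
  obtain ⟨S, hS⟩ := exists_syl
  obtain ⟨g, hg⟩ := exists_conj_list hP
  obtain ⟨y, hy, hya⟩ := hg a haP
  have h4' : ¬ TEq (ev xm y ^ 4) 1 := fun h => h4 (by
    have := h.conj g⁻¹
    rw [hya, conj_pow] at this
    simpa [mul_assoc] using this)
  obtain ⟨r, hr, w, hw, hrw⟩ := exists_rep hy h4'
  refine ⟨(ev xm w)⁻¹ * g, r, hr, ?_, fun x hx => ?_⟩
  · rw [hrw, hya]; group
  · obtain ⟨e, he, hex⟩ := hg x hx
    have hw' := (hS _).2 ⟨w, hw, rfl⟩
    have he' := (hS _).2 ⟨e, he, rfl⟩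
    obtain ⟨e', he'', heq⟩ := (hS _).1 (mul_mem (mul_mem (inv_mem hw') he') hw')
    exact ⟨e', he'', by rw [heq, hex]; group⟩

/-- An element commuting with an element of order eight modulo the centre, squaring into the centre, either is
a fourth power of it or has a centraliser element moving that fourth power. -/
theorem exists_separating {a c : Cm} (ha : a ^ 16 = 1) (h4 : ¬ TEq (a ^ 4) 1) (hca : TEq (c * a) (a * c))
    (hc : TEq (c * c) 1) :
    TEq c 1 ∨ TEq c (a ^ 4) ∨ ∃ h : Cm, Commute h c ∧ ¬ Commute h (a ^ 4) := by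
  obtain ⟨g, r, hr, hra, hlist⟩ := exists_frame (isPGroup_pair ha (pow_sixteen hc) hca)
    (a := a) (Subgroup.subset_closure (by simp)) h4
  obtain ⟨e, he, hec⟩ := hlist c (Subgroup.subset_closure (by simp))
  have h := List.all_eq_true.1 (List.all_eq_true.1 invs_ok r hr) e he
  simp only [invPartB, Bool.or_eq_true, List.any_eq_true, Bool.and_eq_true] at h
  rcases h with (((h | h) | h) | h) | ⟨u, -, hu1, hu2⟩
  · refine absurd ?_ (ncB_spec h)
    rw [ev_app, ev_app, hra, hec, show g * c * g⁻¹ * (g * a * g⁻¹) = g * (c * a) * g⁻¹ by group,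
      show g * a * g⁻¹ * (g * c * g⁻¹) = g * (a * c) * g⁻¹ by group]
    exact hca.conj g
  · refine absurd ?_ (ncB_spec h)
    rw [ev_app, hec, show ev xm ([] : List ℕ) = g * 1 * g⁻¹ by simp [ev],
      show g * c * g⁻¹ * (g * c * g⁻¹) = g * (c * c) * g⁻¹ by group]
    exact hc.conj g
  · refine Or.inl ?_
    have := (cB_spec h).conj g⁻¹
    rw [hec] at this
    simpa [ev, mul_assoc] using this
  · refine Or.inr (Or.inl ?_)
    have := (cB_spec h).conj g⁻¹
    rw [ev_pow4, hec, hra, conj_pow] at this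
    simpa [mul_assoc] using this
  · refine Or.inr (Or.inr ⟨g⁻¹ * ev xm u * g, ?_, fun hcm => neB_spec hu2 ?_⟩)
    · have e1 := eqB_spec sep hu1
      rw [ev_app, ev_app, hec] at e1
      show g⁻¹ * ev xm u * g * c = c * (g⁻¹ * ev xm u * g)
      calc g⁻¹ * ev xm u * g * c = g⁻¹ * (ev xm u * (g * c * g⁻¹)) * g := by group
        _ = g⁻¹ * (g * c * g⁻¹ * ev xm u) * g := by rw [e1]
        _ = _ := by group
    · have h5 : ev xm r ^ 4 = g * a ^ 4 * g⁻¹ := by rw [hra, conj_pow]
      rw [show u ++ r ++ r ++ r ++ r = u ++ (r ++ r ++ r ++ r) by simp [List.append_assoc],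
        ev_app, ev_app _ (r ++ r ++ r ++ r), ev_pow4, h5]
      calc ev xm u * (g * a ^ 4 * g⁻¹) = g * (g⁻¹ * ev xm u * g * a ^ 4) * g⁻¹ := by group
        _ = g * (a ^ 4 * (g⁻¹ * ev xm u * g)) * g⁻¹ := by rw [hcm.eq]
        _ = _ := by group

/-- No element squaring to the fourth power of an element of order eight modulo the centre commutes with that
element and with an involution inverting it. -/
theorem no_quarter {a b c : Cm} (ha : a ^ 16 = 1) (h4 : ¬ TEq (a ^ 4) 1) (hb : TEq (b * b) 1)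
    (hba : TEq (b * a * b⁻¹) a⁻¹) (hca : TEq (c * a) (a * c)) (hc : TEq (c * c) (a ^ 4))
    (hcb : TEq (c * b) (b * c)) : False := by
  have hc16 : c ^ 2 ^ 3 = 1 := by
    rw [show (2 : ℕ) ^ 3 = 2 * 4 from rfl, pow_mul, pow_two]
    rcases hc with h | h <;> rw [h]
    · rw [← pow_mul]; exact ha
    · rw [(tm_comm _).mul_pow, ← pow_mul, ha, mul_one, show (4 : ℕ) = 2 * 2 from rfl, pow_mul, pow_two tm, tm_sq, one_pow]
  have h3 := isPGroup_insert (isPGroup_pair ha hc16 hca) (g := b) (pow_sixteen hb) fun x hx => by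
    have ht : tm ∈ Subgroup.closure ({c, a, tm} : Set Cm) := Subgroup.subset_closure (by simp)
    rcases hx with rfl | rfl | rfl
    · refine TEq.mem ?_ ht (Subgroup.subset_closure (Set.mem_insert _ _))
      rcases hcb with h | h
      · exact Or.inl (by rw [← h, mul_inv_cancel_right])
      · refine Or.inr ?_
        have : b * x = tm * (x * b) := by rw [h, ← mul_assoc, tm_sq, one_mul]
        rw [this, ← mul_assoc tm, mul_inv_cancel_right]
    · exact hba.mem ht (inv_mem (Subgroup.subset_closure (by simp)))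
    · rw [conj_tm]; exact ht
  obtain ⟨g, r, hr, hra, hlist⟩ := exists_frame h3 (a := a) (Subgroup.subset_closure (by simp)) h4
  obtain ⟨eb, heb, hebb⟩ := hlist b (Subgroup.subset_closure (Set.mem_insert _ _))
  obtain ⟨ec, hec, hecc⟩ := hlist c (Subgroup.subset_closure (by simp))
  have hnot : ∀ {u v : List ℕ}, TEq (ev xm u) (ev xm v) → ncB u v = false := fun {u v} e => by
    rw [Bool.eq_false_iff]
    exact fun h => ncB_spec h e
  have hQ : ec ∈ quarts r := by
    refine List.mem_filter.2 ⟨hec, ?_⟩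
    simp only [Bool.and_eq_true, Bool.not_eq_true']
    refine ⟨hnot ?_, hnot ?_⟩
    · rw [ev_app, ev_app, hecc, hra, show g * c * g⁻¹ * (g * a * g⁻¹) = g * (c * a) * g⁻¹ by group,
        show g * a * g⁻¹ * (g * c * g⁻¹) = g * (a * c) * g⁻¹ by group]
      exact hca.conj g
    · rw [ev_app, ev_pow4, hecc, hra, conj_pow, show g * c * g⁻¹ * (g * c * g⁻¹) = g * (c * c) * g⁻¹ by group]
      exact hc.conj g
  have hF : eb ∈ flips r := by
    refine List.mem_filter.2 ⟨heb, ?_⟩
    simp only [Bool.and_eq_true, Bool.not_eq_true']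
    have e1 : ev xm ([] : List ℕ) = g * 1 * g⁻¹ := by simp [ev]
    refine ⟨hnot ?_, hnot ?_⟩
    · rw [ev_app, ev_app, ev_app, hebb, hra, e1, show g * b * g⁻¹ * (g * a * g⁻¹) * (g * b * g⁻¹) * (g * a * g⁻¹) =
        g * ((b * a * b⁻¹) * (b * b) * a) * g⁻¹ by group]
      refine TEq.conj ?_ g
      rcases hba with h | h <;> rcases hb with h' | h' <;> rw [h, h']
      · exact Or.inl (by group)
      · exact Or.inr (by rw [show a⁻¹ * (tm * 1) * a = a⁻¹ * (tm * a) by group, (tm_comm a).eq]; group)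
      · exact Or.inr (by group)
      · exact Or.inl (by
          rw [show tm * a⁻¹ * (tm * 1) * a = tm * (a⁻¹ * (tm * a)) by group, (tm_comm a).eq, inv_mul_cancel_left, tm_sq])
    · rw [ev_app, hebb, e1, show g * b * g⁻¹ * (g * b * g⁻¹) = g * (b * b) * g⁻¹ by group]
      exact hb.conj g
  have h := List.all_eq_true.1 (List.all_eq_true.1 (List.all_eq_true.1 quarts_ok r hr) eb hF) ec hQ
  refine ncB_spec h ?_
  rw [ev_app, ev_app, hecc, hebb, show g * c * g⁻¹ * (g * b * g⁻¹) = g * (c * b) * g⁻¹ by group,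
    show g * b * g⁻¹ * (g * c * g⁻¹) = g * (b * c) * g⁻¹ by group]
  exact hcb.conj g

end CfsgLib.CoThreeStd
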