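import Cfsg.Agent.Lib.CoThreeStd.Central
import Cfsg.Agent.Lib.Classical.AutOrder.PSp
import Cfsg.Agent.Lib.Cores.Basic
import Cfsg.Prelude.Def_ClassificationK
import Cfsg.Prelude.Def_Classical

/-!
# A standard double cover of the symplectic group in six dimensions over two elements is an involution centraliser
-/

set_option autoImplicit false
set_option maxRecDepth 100000

namespace CfsgLib.CoThreeStd

open Subgroup CfsgLib.CoThreeRec

theorem sp2_equiv {F : Type} [Field F] [Fintype F] (hF : Fintype.card F = 2) :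
    Nonempty (CfsgLib.Schur.Tails.SpSix.Sp2 ≃* Cfsg.PSp 3 F) := by
  obtain ⟨e⟩ := CfsgLib.Schur.Tails.SpSix.psp_equiv hF
  exact ⟨(MonoidHom.ofInjective CfsgLib.Schur.Tails.SpSix.phi_injective).trans e⟩

theorem psp_equiv_two {F : Type*} [Field F] [Fintype F] (hF : Fintype.card F = 2) :
    Nonempty (Cfsg.PSp 3 F ≃* Matrix.symplecticGroup (Fin 3) (ZMod 2)) := by
  obtain ⟨e⟩ := CfsgLib.Schur.Tails.SpSix.psp_equiv hF
  exact ⟨((MonoidHom.ofInjective CfsgLib.Schur.Tails.SpSix.phi_injective).trans e).symm⟩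

/-- A homomorphism from a perfect group to a commutative one is trivial. -/
theorem hom_perfect {H : Type*} [Group H] (hH : commutator H = ⊤) {A : Type*} [CommGroup A] (f : H →* A) (x : H) :
    f x = 1 :=
  MonoidHom.mem_ker.1 ((hH ▸ Abelianization.commutator_subset_ker f : (⊤ : Subgroup H) ≤ f.ker) (Subgroup.mem_top x))

variable {G : Type*} [Group G] [Finite G]

/-- An element normalising a standard double cover induces an inner automorphism. -/
theorem exists_inner {F : Type*} [Field F] [Fintype F] (hF : Fintype.card F = 2) (L : Subgroup G)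
    (hperf : commutator ↥L = ⊤) (q : ↥L ⧸ Subgroup.center ↥L ≃* Cfsg.PSp 3 F) {g : G}
    (hg : g ∈ Subgroup.normalizer (L : Set G)) :
    ∃ x ∈ L, x⁻¹ * g ∈ Subgroup.centralizer (L : Set G) := by
  classical
  haveI : Fact (Nat.Prime 2) := ⟨Nat.prime_two⟩
  let α : MulAut ↥L :=
    { toFun := fun l => ⟨g * l * g⁻¹, (Subgroup.mem_normalizer_iff.1 hg l).1 l.2⟩
      invFun := fun l => ⟨g⁻¹ * l * g, (Subgroup.mem_normalizer_iff.1 hg _).2 (by
        rw [show g * (g⁻¹ * l * g) * g⁻¹ = (l : G) by group]; exact l.2)⟩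
      left_inv := fun l => Subtype.ext (by simp [mul_assoc])
      right_inv := fun l => Subtype.ext (by simp [mul_assoc])
      map_mul' := fun l m => Subtype.ext (by simp [mul_assoc]) }
  have hmap : (Subgroup.center ↥L).map α.toMonoidHom = Subgroup.center ↥L :=
    Subgroup.characteristic_iff_map_eq.1 inferInstance α
  let β : MulAut (↥L ⧸ Subgroup.center ↥L) := QuotientGroup.congr _ _ α hmap
  have hperfS : commutator (Cfsg.PSp 3 F) = ⊤ := by
    rw [_root_.commutator_def, ← Subgroup.map_top_of_surjective (q.toMonoidHom.comp (QuotientGroup.mk' _))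
      (q.surjective.comp (QuotientGroup.mk'_surjective _)), ← Subgroup.map_commutator, ← _root_.commutator_def, hperf,
      Subgroup.map_top_of_surjective _ (q.surjective.comp (QuotientGroup.mk'_surjective _))]
  have hcen : Subgroup.center (↥L ⧸ Subgroup.center ↥L) = ⊥ := by
    haveI : Group.IsPerfect ↥L := ⟨hperf⟩
    exact Group.IsPerfect.center_quotient_center_eq_bot _
  have hinj : Function.Injective (MulAut.conj : Cfsg.PSp 3 F →* MulAut (Cfsg.PSp 3 F)) := by
    rw [injective_iff_map_eq_one]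
    intro s hs
    have h1 : q.symm s ∈ Subgroup.center (↥L ⧸ Subgroup.center ↥L) := Subgroup.mem_center_iff.2 fun y => by
      have h := DFunLike.congr_fun hs (q y)
      rw [MulAut.conj_apply, MulAut.one_apply, mul_inv_eq_iff_eq_mul] at h
      refine q.injective ?_
      rw [map_mul, map_mul, q.apply_symm_apply]
      exact h.symm
    rw [hcen, Subgroup.mem_bot] at h1
    simpa using congrArg q h1
  have hsurj : Function.Surjective (MulAut.conj : Cfsg.PSp 3 F →* MulAut (Cfsg.PSp 3 F)) := by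
    haveI : Finite (MulAut (Cfsg.PSp 3 F)) := Finite.of_injective _ DFunLike.coe_injective
    refine (hinj.bijective_of_nat_card_le ?_).2
    rw [CfsgLib.Classical.AutOrder.card_mulaut_psp (F := F) (m := 3) 2 1 le_rfl (by rw [hF]; rfl) (by norm_num)
      (fun h => absurd h (by norm_num))]
    simp
  obtain ⟨s, hs⟩ := hsurj ((q.symm.trans β).trans q)
  obtain ⟨x, hx⟩ := QuotientGroup.mk'_surjective (Subgroup.center ↥L) (q.symm s)
  refine ⟨x, x.2, Subgroup.mem_centralizer_iff.2 fun y hy => ?_⟩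
  -- the correcting element moves every element by a central element
  have key : ∀ l : ↥L, (x⁻¹ * α l * x) * l⁻¹ ∈ Subgroup.center ↥L := by
    intro l
    rw [← QuotientGroup.eq_one_iff]
    have h := DFunLike.congr_fun hs (q (QuotientGroup.mk' _ l))
    rw [MulAut.conj_apply, MulEquiv.trans_apply, MulEquiv.trans_apply, q.symm_apply_apply] at h
    have h2 : q.symm s * QuotientGroup.mk' _ l * (q.symm s)⁻¹ = QuotientGroup.mk' _ (α l) := by
      have h3 := congrArg q.symm h
      rw [map_mul, map_mul, map_inv, q.symm_apply_apply, q.symm_apply_apply] at h3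
      exact h3
    rw [← hx, QuotientGroup.mk'_apply, QuotientGroup.mk'_apply, QuotientGroup.mk'_apply] at h2
    rw [QuotientGroup.mk_mul, QuotientGroup.mk_mul, QuotientGroup.mk_mul, QuotientGroup.mk_inv, QuotientGroup.mk_inv,
      ← h2]
    group
  let f : ↥L →* Subgroup.center ↥L :=
    MonoidHom.mk' (fun l => ⟨_, key l⟩) fun l m => Subtype.ext (by
      have hc := Subgroup.mem_center_iff.1 (key m) l
      calc x⁻¹ * α (l * m) * x * (l * m)⁻¹
          = x⁻¹ * α l * x * ((x⁻¹ * α m * x) * m⁻¹) * l⁻¹ := by rw [map_mul]; group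
        _ = x⁻¹ * α l * x * (l⁻¹ * l) * ((x⁻¹ * α m * x) * m⁻¹) * l⁻¹ := by group
        _ = (x⁻¹ * α l * x * l⁻¹) * (l * ((x⁻¹ * α m * x) * m⁻¹)) * l⁻¹ := by group
        _ = (x⁻¹ * α l * x * l⁻¹) * (((x⁻¹ * α m * x) * m⁻¹) * l) * l⁻¹ := by rw [hc]
        _ = (x⁻¹ * α l * x * l⁻¹) * (x⁻¹ * α m * x * m⁻¹) := by group)
  letI : CommGroup (Subgroup.center ↥L) :=
    { (inferInstance : Group (Subgroup.center ↥L)) with
      mul_comm := fun a b => Subtype.ext (Subgroup.mem_center_iff.1 b.2 a) }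
  have h1 := congrArg Subtype.val (hom_perfect hperf f ⟨y, hy⟩)
  have h2 : (x : G)⁻¹ * (g * y * g⁻¹) * x * y⁻¹ = 1 := congrArg Subtype.val h1
  rw [mul_inv_eq_one] at h2
  calc y * ((x : G)⁻¹ * g) = (x : G)⁻¹ * (g * y * g⁻¹) * x * ((x : G)⁻¹ * g) := by rw [h2]
    _ = (x : G)⁻¹ * g * y := by group

/-- The centre of the model has two elements. -/
theorem mem_center_model {L : Subgroup G} {ι : Cm →* ↥L} (hinj : Function.Injective ι)
    (hsurj : Function.Surjective ι) (hcard : Nat.card (Subgroup.center ↥L) = 2) {c : Cm}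
    (hc : ι c ∈ Subgroup.center ↥L) : TEq c 1 := by
  have hm : ι tm ∈ Subgroup.center ↥L := Subgroup.mem_center_iff.2 fun y => by
    obtain ⟨d, rfl⟩ := hsurj y
    rw [← map_mul, ← map_mul, (tm_comm d).eq]
  obtain ⟨a, b, hab, huniv⟩ := Nat.card_eq_two_iff.1 hcard
  have key : ∀ u : Subgroup.center ↥L, u = a ∨ u = b := fun u => by
    have : u ∈ ({a, b} : Set (Subgroup.center ↥L)) := huniv ▸ Set.mem_univ u
    simpa using this
  have hne : (⟨ι tm, hm⟩ : Subgroup.center ↥L) ≠ 1 := fun e => tm_ne (hinj (by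
    rw [map_one]; exact congrArg Subtype.val e))
  have : (⟨ι c, hc⟩ : Subgroup.center ↥L) = 1 ∨ (⟨ι c, hc⟩ : Subgroup.center ↥L) = ⟨ι tm, hm⟩ := by
    rcases key ⟨ι c, hc⟩ with e1 | e1 <;> rcases key 1 with e2 | e2 <;> rcases key ⟨ι tm, hm⟩ with e3 | e3
    all_goals first
      | exact Or.inl (e1.trans e2.symm)
      | exact Or.inr (e1.trans e3.symm)
      | exact absurd (e3.trans e2.symm) hne
  rcases this with e | e
  · exact Or.inl (hinj (by rw [map_one]; exact congrArg Subtype.val e))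
  · exact Or.inr (by rw [mul_one]; exact hinj (congrArg Subtype.val e))

theorem map_center {A B : Type*} [Group A] [Group B] (e : A ≃* B) :
    (Subgroup.center A).map e.toMonoidHom = Subgroup.center B := by
  ext y
  simp only [Subgroup.mem_map_equiv, Subgroup.mem_center_iff]
  constructor
  · intro h w
    have := congrArg e (h (e.symm w))
    simpa using this
  · intro h w
    refine e.injective ?_
    simpa using h (e w)

theorem isNonsplit_congr {A B K : Type*} [Group A] [Group B] [Group K] (e : A ≃* B)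
    (h : Cfsg.IsNonsplitDoubleCover A K) : Cfsg.IsNonsplitDoubleCover B K := by
  obtain ⟨h1, ⟨q⟩, h3⟩ := h
  refine ⟨?_, ⟨(QuotientGroup.congr _ _ e (map_center e)).symm.trans q⟩, fun H hH => h3 (H.comap e.toMonoidHom) ?_⟩
  · rw [← map_center e, Subgroup.card_map_of_injective e.injective, h1]
  · constructor
    · rintro ⟨⟨a, ha⟩, ⟨b, hb⟩⟩ ⟨⟨a', ha'⟩, ⟨b', hb'⟩⟩ hab
      have h4 := hH.1 (a₁ := (⟨e a, map_center e ▸ ⟨a, ha, rfl⟩⟩, ⟨e b, hb⟩))
        (a₂ := (⟨e a', map_center e ▸ ⟨a', ha', rfl⟩⟩, ⟨e b', hb'⟩))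
        (show e a * e b = e a' * e b' by rw [← map_mul, ← map_mul]; exact congrArg e hab)
      simp only [Prod.mk.injEq, Subtype.mk.injEq, EmbeddingLike.apply_eq_iff_eq] at h4 ⊢
      exact ⟨h4.1, e.injective (congrArg Subtype.val h4.2)⟩
    · intro x
      obtain ⟨⟨⟨c, hc⟩, ⟨d, hd⟩⟩, hcd⟩ := hH.2 (e x)
      rw [← map_center e] at hc
      obtain ⟨a, ha, rfl⟩ := hc
      refine ⟨⟨⟨a, ha⟩, ⟨e.symm d, show e (e.symm d) ∈ H by rwa [e.apply_symm_apply]⟩⟩, ?_⟩
      refine e.injective ?_
      show e (a * e.symm d) = e x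
      rw [map_mul, e.apply_symm_apply]
      exact hcd

open scoped commutatorElement in
theorem isNonsplit_of_perfect {A K : Type*} [Group A] [Group K] [Finite A] (hperf : commutator A = ⊤)
    (hZ : Nat.card (Subgroup.center A) = 2) (q : A ⧸ Subgroup.center A ≃* K) :
    Cfsg.IsNonsplitDoubleCover A K := by
  refine ⟨hZ, ⟨q⟩, fun H hH => ?_⟩
  have hsup : Subgroup.center A ⊔ H = ⊤ := hH.sup_eq_top
  have hle : (⊤ : Subgroup A) ≤ H := by
    rw [← hperf, _root_.commutator_def]
    refine Subgroup.commutator_le.2 fun u _ v _ => ?_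
    obtain ⟨c, hc, u', hu', rfl⟩ := Subgroup.mem_sup_of_normal_left.1 (hsup ▸ Subgroup.mem_top u)
    obtain ⟨d, hd, v', hv', rfl⟩ := Subgroup.mem_sup_of_normal_left.1 (hsup ▸ Subgroup.mem_top v)
    have h1 : ∀ x, Commute x c := fun x => Subgroup.mem_center_iff.1 hc x
    have h2 : ∀ x, Commute x d := fun x => Subgroup.mem_center_iff.1 hd x
    have : ⁅c * u', d * v'⁆ = ⁅u', v'⁆ := by
      simp only [commutatorElement_def, mul_inv_rev]
      calc c * u' * (d * v') * (u'⁻¹ * c⁻¹) * (v'⁻¹ * d⁻¹)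
          = c * (u' * d) * v' * u'⁻¹ * (c⁻¹ * v'⁻¹) * d⁻¹ := by group
        _ = c * (d * u') * v' * u'⁻¹ * (v'⁻¹ * c⁻¹) * d⁻¹ := by
            rw [(h2 u').eq, ((h1 v'⁻¹).inv_right).eq]
        _ = c * d * (u' * v' * u'⁻¹ * v'⁻¹) * (c⁻¹ * d⁻¹) := by group
        _ = _ := by
            rw [((h1 (u' * v' * u'⁻¹ * v'⁻¹)).mul_right (h2 (u' * v' * u'⁻¹ * v'⁻¹))).symm.eq,
              show c⁻¹ * d⁻¹ = (d * c)⁻¹ by group, (h2 c).symm.eq, mul_inv_cancel_right]
    rw [this, commutatorElement_def]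
    exact mul_mem (mul_mem (mul_mem hu' hv') (inv_mem hu')) (inv_mem hv')
  have := hH.card_mul_card
  rw [top_le_iff.1 hle, Subgroup.card_top, hZ] at this
  have : 0 < Nat.card A := Nat.card_pos
  omega

/-- The centraliser of the central involution is the standard subgroup. -/
theorem exists_centralizer_cover [IsSimpleGroup G] (hG : ¬ IsMulCommutative G)
    (hbal : ∀ t : G, orderOf t = 2 → Cfsg.centralizerPPrimeCore 2 t = ⊥) (L : Subgroup G)
    (hL : Cfsg.IsStandardSubgroup L) {F : Type*} [Field F] [Fintype F] (hF : Fintype.card F = 2)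
    (hZ : Nat.card ↥(Subgroup.center ↥L) = 2) (q : ↥L ⧸ Subgroup.center ↥L ≃* Cfsg.PSp 3 F) :
    ∃ t : G, orderOf t = 2 ∧ Cfsg.oddCore G = ⊥ ∧ Subgroup.center G = ⊥ ∧
      Cfsg.IsNonsplitDoubleCover (Subgroup.centralizer ({t} : Set G))
        (Matrix.symplecticGroup (Fin 3) (ZMod 2)) := by
  classical
  obtain ⟨⟨hpf, -⟩, htight, -, hNN⟩ := hL
  have hperf : commutator ↥L = ⊤ := hpf.commutator_eq_top
  haveI : Group.IsPerfect ↥L := hpf
  -- the central involution
  obtain ⟨z, hz⟩ := exists_prime_orderOf_dvd_card' (G := Subgroup.center ↥L) 2 (by rw [hZ])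
  rw [← Subgroup.orderOf_coe] at hz
  have hzc : ∀ l : ↥L, Commute l (z : ↥L) := fun l => Subgroup.mem_center_iff.1 z.2 l
  obtain ⟨e2⟩ := psp_equiv_two hF
  -- the standard subgroup is the double cover
  have hTop : Subgroup.centralizer ({(z : ↥L)} : Set ↥L) = ⊤ :=
    top_le_iff.1 fun l _ => Subgroup.mem_centralizer_singleton_iff.2 (hzc l).eq
  let E : ↥(Subgroup.centralizer ({(z : ↥L)} : Set ↥L)) ≃* ↥L :=
    (MulEquiv.subgroupCongr hTop).trans Subgroup.topEquiv
  have hcov : Cfsg.IsNonsplitDoubleCover ↥(Subgroup.centralizer ({(z : ↥L)} : Set ↥L))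
      (Matrix.symplecticGroup (Fin 3) (ZMod 2)) :=
    isNonsplit_congr E.symm (isNonsplit_of_perfect hperf hZ (q.trans e2))
  obtain ⟨co⟩ := exists_coord hz hcov
  have hsurj : Function.Surjective co.iota := fun l => by
    have : l ∈ co.iota.range := by rw [co.range_eq, hTop]; exact Subgroup.mem_top l
    exact this
  set ι : Cm →* G := L.subtype.comp co.iota with hι
  set t : G := ((z : ↥L) : G) with ht
  have hot : orderOf t = 2 := by rw [ht, Subgroup.orderOf_coe]; exact hz
  have hrange : ι.range = L := by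
    rw [hι, MonoidHom.range_eq_map, ← Subgroup.map_map, ← MonoidHom.range_eq_map,
      MonoidHom.range_eq_top.2 hsurj, ← MonoidHom.range_eq_map, Subgroup.range_subtype]
  have hK : Subgroup.centralizer (ι.range : Set G) = Subgroup.centralizer (L : Set G) := by rw [hrange]
  have htK : t ∈ Subgroup.centralizer (L : Set G) := Subgroup.mem_centralizer_iff.2 fun y hy =>
    congrArg Subtype.val (hzc ⟨y, hy⟩).eq
  have hnorm : ∀ g : G, g ∈ Subgroup.normalizer (Subgroup.centralizer (L : Set G) : Set G) → Commute g t := by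
    intro g hg
    rw [← hNN] at hg
    have hmem : g * t * g⁻¹ ∈ L := (Subgroup.mem_normalizer_iff.1 hg t).1 (z : ↥L).2
    have hcm : (⟨g * t * g⁻¹, hmem⟩ : ↥L) ∈ Subgroup.center ↥L := Subgroup.mem_center_iff.2 fun y => by
      refine Subtype.ext ?_
      have hy : g⁻¹ * y * g ∈ L := (Subgroup.mem_normalizer_iff.1 hg _).2 (by
        rw [show g * (g⁻¹ * y * g) * g⁻¹ = (y : G) by group]; exact y.2)
      calc (y : G) * (g * t * g⁻¹) = g * ((g⁻¹ * y * g) * t) * g⁻¹ := by group
        _ = g * (t * (g⁻¹ * y * g)) * g⁻¹ := by rw [Subgroup.mem_centralizer_iff.1 htK _ hy]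
        _ = (g * t * g⁻¹) * y := by group
    obtain ⟨c, hc⟩ := hsurj ⟨g * t * g⁻¹, hmem⟩
    have h1 : g * t * g⁻¹ ≠ 1 := fun e => by
      have h2 : orderOf (g * t * g⁻¹) = 2 := by rw [CfsgLib.CoThreeRec.orderOf_conjugate, hot]
      rw [e, orderOf_one] at h2
      omega
    rcases mem_center_model co.inj hsurj hZ (hc ▸ hcm) with e | e
    · exact absurd (by rw [e, map_one] at hc; exact (congrArg Subtype.val hc).symm) h1
    · have h3 : g * t * g⁻¹ = t := by
        rw [e, mul_one, co.map_t] at hc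
        exact (congrArg Subtype.val hc).symm
      exact mul_inv_eq_iff_eq_mul.1 h3
  have hle : ∀ g : G, Commute g t → g ∈ Subgroup.normalizer (Subgroup.centralizer (L : Set G) : Set G) := by
    intro g hg
    by_contra hn
    have hmem : t ∈ Subgroup.centralizer (L : Set G) ⊓
        (Subgroup.centralizer (L : Set G)).map (MulAut.conj g).toMonoidHom :=
      ⟨htK, ⟨t, htK, show g * t * g⁻¹ = t by rw [hg.eq, mul_inv_cancel_right]⟩⟩
    exact Nat.not_even_iff_odd.2 (htight.2 g hn) (even_iff_two_dvd.2 (hot ▸ Subgroup.orderOf_dvd_natCard _ hmem))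
  have S : Std ι t :=
    { ht := hot
      inj := Subtype.val_injective.comp co.inj
      map_t := congrArg Subtype.val co.map_t
      tight := hK ▸ htight
      meet := fun c hc => by
        rw [hK] at hc
        exact mem_center_model co.inj hsurj hZ (Subgroup.mem_center_iff.2 fun y => Subtype.ext
          (Subgroup.mem_centralizer_iff.1 hc y y.2))
      norm := fun g hg => hnorm g (hK ▸ hg)
      dec := fun g hg => by
        obtain ⟨x, hx, hxk⟩ := exists_inner hF L hperf q (hNN ▸ hle g hg)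
        obtain ⟨c, hc⟩ := hsurj ⟨x, hx⟩
        refine ⟨c, x⁻¹ * g, hK ▸ hxk, ?_⟩
        rw [show ι c = x from congrArg Subtype.val hc, mul_inv_cancel_left] }
  have hcenG : Subgroup.center G = ⊥ := by
    refine (IsSimpleGroup.eq_bot_or_eq_top_of_normal _ inferInstance).resolve_right fun h => hG ?_
    exact ⟨⟨fun a b => Subgroup.mem_center_iff.1 (h ▸ Subgroup.mem_top b) a⟩⟩
  have hodd := CfsgLib.Cores.odd_card_oddCore (G := G)
  have hO : Cfsg.oddCore G = ⊥ := by
    haveI := CfsgLib.Cores.pPrimeCore_characteristic (G := G) 2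
    refine (IsSimpleGroup.eq_bot_or_eq_top_of_normal _ inferInstance).resolve_right fun h => ?_
    rw [h, Subgroup.card_top] at hodd
    exact Nat.not_even_iff_odd.2 hodd (even_iff_two_dvd.2 (hot ▸ orderOf_dvd_natCard t))
  -- a conjugate of t in the centraliser
  have hiso : ¬ Cfsg.IsIsolatedInvolution t := fun hi => by
    have hc := CfsgLib.Invol.zstar_center hi hO
    rw [hcenG, Subgroup.mem_bot] at hc
    exact S.t_ne hc
  simp only [Cfsg.IsIsolatedInvolution, hot, true_and, not_forall] at hiso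
  obtain ⟨g, hcg, hneg⟩ := hiso
  obtain ⟨l, k, hk, hlk, hsmall⟩ := S.small hcg.symm hneg
  have hkk : k * k = 1 := by
    have h1 : ι (l * l) * (k * k) = 1 := by
      rw [map_mul, show ι l * ι l * (k * k) = ι l * (ι l * k) * k by group, (centr_comm hk l).eq,
        show ι l * (k * ι l) * k = ι l * k * (ι l * k) by group, ← hlk,
        show g * t * g⁻¹ * (g * t * g⁻¹) = g * (t * t) * g⁻¹ by group, S.tt, mul_one, mul_inv_cancel]
    rcases S.meet (l * l) (show ι (l * l) ∈ centr ι by
      rw [eq_inv_of_mul_eq_one_left h1]; exact inv_mem (mul_mem hk hk)) with e | e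
    · rwa [e, map_one, one_mul] at h1
    · exfalso
      rw [e, mul_one, S.map_t] at h1
      exact (hsmall k hk (Commute.refl k)).1 (by rw [eq_inv_of_mul_eq_one_right h1, inv_eq_of_mul_eq_one_right S.tt])
  have hcomm : ∀ w ∈ centr ι, Commute w k := fun w hw => by
    rcases (hsmall k hk (Commute.refl k)).2 hkk with rfl | rfl
    · exact Commute.one_right w
    · exact S.centr_comm_t hw
  have hfour : ∀ w ∈ centr ι, w ^ 4 = 1 → w = 1 ∨ w = t := by
    intro w hw h4
    have hww : w * w * (w * w) = 1 := by rw [← pow_two, ← pow_two, ← pow_mul]; exact h4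
    rcases (hsmall (w * w) (mul_mem hw hw) (hcomm _ (mul_mem hw hw))).2 hww with e | e
    · exact (hsmall w hw (hcomm w hw)).2 e
    · exact absurd e (hsmall w hw (hcomm w hw)).1
  -- the centralising group has order twice an odd number
  set K := centr ι with hKdef
  haveI : Fact (Nat.Prime 2) := ⟨Nat.prime_two⟩
  let T : Subgroup ↥K := Subgroup.zpowers (⟨t, S.t_mem⟩ : ↥K)
  have hTcen : ∀ x ∈ T, ∀ y : ↥K, Commute x y := by
    intro x hx y
    obtain ⟨i, rfl⟩ := Subgroup.mem_zpowers_iff.1 hx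
    exact Commute.zpow_left (show Commute (⟨t, S.t_mem⟩ : ↥K) y from Subtype.ext (S.centr_comm_t y.2).symm.eq) i
  haveI hTn : T.Normal := ⟨fun x hx y => by rwa [← (hTcen x hx y).eq, mul_inv_cancel_right]⟩
  have hTcard : Nat.card ↥T = 2 := by
    rw [Nat.card_zpowers, ← hot]
    exact (Subgroup.orderOf_coe _).symm
  have h4 : ¬ 4 ∣ Nat.card ↥K := fun h => by
    obtain ⟨P, hP⟩ := Sylow.exists_subgroup_card_pow_prime 2 (n := 2) (G := ↥K) h
    have hsub : ∀ x : ↥P, (x : ↥K) = 1 ∨ (x : ↥K) = ⟨t, S.t_mem⟩ := fun x => by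
      have hx : x ^ 4 = 1 := by
        have := pow_card_eq_one' (x := x)
        rwa [hP] at this
      have hx' := congrArg (fun y : ↥P => ((y : ↥K) : G)) hx
      exact (hfour _ (x : ↥K).2 hx').imp (fun e => Subtype.ext e) (fun e => Subtype.ext e)
    have htne : (⟨t, S.t_mem⟩ : ↥K) ≠ 1 := fun e => S.t_ne (congrArg Subtype.val e)
    let f : ↥P → Bool := fun x => decide ((x : ↥K) = 1)
    have hf : Function.Injective f := by
      intro x y hxy
      have hiff : (x : ↥K) = 1 ↔ (y : ↥K) = 1 := decide_eq_decide.1 hxy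
      apply Subtype.ext
      rcases hsub x with ex | ex
      · rw [ex, hiff.1 ex]
      · rcases hsub y with ey | ey
        · exact absurd (ex.symm.trans (hiff.2 ey)) htne
        · rw [ex, ey]
    have h5 := Nat.card_le_card_of_injective f hf
    rw [hP, Nat.card_eq_fintype_card, Fintype.card_bool] at h5
    norm_num at h5
  have hcop : (Nat.card ↥T).Coprime T.index := by
    rw [hTcard, Nat.coprime_two_left, ← Nat.not_even_iff_odd, even_iff_two_dvd]
    intro hev
    apply h4
    have h2 := T.card_mul_index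
    rw [hTcard] at h2
    rw [← h2]
    exact Nat.mul_dvd_mul_left 2 hev
  obtain ⟨M, hM⟩ := Subgroup.exists_right_complement'_of_coprime hcop
  have hMidx : Nat.card ↥M = T.index := by
    have h1 := hM.card_mul_card
    have h2 := T.card_mul_index
    rw [← h2, hTcard] at h1
    omega
  have hMcard : Odd (Nat.card ↥M) := by
    rw [hMidx]
    rw [hTcard, Nat.coprime_two_left] at hcop
    exact hcop
  -- every element is a power of t times an element of odd order
  have hdecK : ∀ y : ↥K, ∃ a ∈ T, ∃ m ∈ M, y = a * m := fun y => by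
    obtain ⟨⟨⟨a, ha⟩, ⟨m, hm⟩⟩, rfl⟩ := hM.2 y
    exact ⟨a, ha, m, hm, rfl⟩
  have hMmem : ∀ y : ↥K, Odd (orderOf y) → y ∈ M := by
    intro y hy
    obtain ⟨a, ha, m, hm, rfl⟩ := hdecK y
    obtain ⟨j, hj⟩ := hy
    have ha2 : a ^ 2 = 1 := by
      have h0 := congrArg Subtype.val (pow_card_eq_one' (x := (⟨a, ha⟩ : ↥T)))
      rw [hTcard] at h0
      exact h0
    have h1 : (a * m) ^ (2 * (j + 1)) = a * m := by
      rw [show 2 * (j + 1) = (2 * j + 1) + 1 by ring, pow_succ, ← hj, pow_orderOf_eq_one, one_mul]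
    rw [← h1, (hTcen a ha m).mul_pow, pow_mul a, ha2, one_pow, one_mul]
    exact pow_mem hm _
  let MG : Subgroup G := M.map K.subtype
  have hMGC : MG ≤ Subgroup.centralizer ({t} : Set G) := by
    rintro _ ⟨m, -, rfl⟩
    exact Subgroup.mem_centralizer_singleton_iff.2 (S.centr_comm_t m.2).eq
  have hMGn : (MG.subgroupOf (Subgroup.centralizer ({t} : Set G))).Normal := by
    constructor
    rintro ⟨x, hxC⟩ ⟨m, hm, rfl : (m : G) = x⟩ ⟨c, hc⟩
    have hcN := hle c (Subgroup.mem_centralizer_singleton_iff.1 hc)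
    have hmK : c * (m : G) * c⁻¹ ∈ K := by
      show _ ∈ Subgroup.centralizer (ι.range : Set G)
      rw [hK]
      exact (Subgroup.mem_normalizer_iff.1 hcN _).1 (hK ▸ m.2)
    refine ⟨⟨_, hmK⟩, hMmem _ ?_, rfl⟩
    rw [← Subgroup.orderOf_coe, CfsgLib.CoThreeRec.orderOf_conjugate, Subgroup.orderOf_coe]
    exact (Subgroup.orderOf_coe (⟨m, hm⟩ : ↥M)) ▸ Odd.of_dvd_nat hMcard (orderOf_dvd_natCard _)
  have hMbot : M = ⊥ := by
    have h1 : MG.subgroupOf (Subgroup.centralizer ({t} : Set G)) ≤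
        Cfsg.pPrimeCore 2 ↥(Subgroup.centralizer ({t} : Set G)) := by
      refine le_sSup ⟨hMGn, ?_⟩
      rw [Nat.card_congr (Subgroup.subgroupOfEquivOfLe hMGC).toEquiv,
        Subgroup.card_map_of_injective K.subtype_injective]
      exact Nat.coprime_two_right.2 hMcard
    have h2 := hbal t hot
    rw [Cfsg.centralizerPPrimeCore, Subgroup.map_eq_bot_iff, Subgroup.ker_subtype, le_bot_iff] at h2
    rw [h2, le_bot_iff, Subgroup.subgroupOf_eq_bot, disjoint_iff, inf_eq_left.2 hMGC,
      Subgroup.map_eq_bot_iff_of_injective _ K.subtype_injective] at h1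
    exact h1
  have hKt : ∀ y ∈ K, y = 1 ∨ y = t := fun y hy => by
    obtain ⟨a, ha, m, hm, e⟩ := hdecK ⟨y, hy⟩
    rw [hMbot, Subgroup.mem_bot] at hm
    rw [hm, mul_one] at e
    refine hfour y hy ?_
    have h1 := congrArg Subtype.val (pow_card_eq_one' (x := (⟨a, ha⟩ : ↥T)))
    rw [hTcard] at h1
    have h2 : a ^ 4 = 1 := by rw [show (4 : ℕ) = 2 * 2 from rfl, pow_mul, show a ^ 2 = 1 from h1, one_pow]
    exact congrArg Subtype.val ((congrArg (· ^ 4) e).trans h2)
  -- the centraliser is the standard subgroup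
  have hCL : Subgroup.centralizer ({t} : Set G) = L := by
    refine le_antisymm (fun x hx => ?_) fun x hx => Subgroup.mem_centralizer_singleton_iff.2
      (Subgroup.mem_centralizer_iff.1 htK x hx)
    obtain ⟨c, w, hw, rfl⟩ := S.dec x (Subgroup.mem_centralizer_singleton_iff.1 hx)
    rcases hKt w hw with rfl | rfl
    · rw [mul_one, ← hrange]; exact ⟨c, rfl⟩
    · exact mul_mem (co.iota c).2 (z : ↥L).2
  exact ⟨t, hot, hO, hcenG,
    isNonsplit_congr (E.trans (MulEquiv.subgroupCongr hCL.symm)) hcov⟩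

end CfsgLib.CoThreeStd
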